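import Groth.Agent.CycLib.ProjBdl.Bundle
import Groth.Agent.Desc44.ProjBundle.Iso

/-!
Coordinate charts of a projective bundle given by its universal property.
-/

set_option autoImplicit false
set_option backward.isDefEq.respectTransparency false
set_option backward.isDefEq.respectTransparency.types false
set_option linter.style.haveILetI false
set_option maxHeartbeats 800000

universe u

open CategoryTheory CategoryTheory.Limits AlgebraicGeometry TopologicalSpace Opposite
open Groth.Agent.PullStalk.Sky Groth.Agent.LFFrame Groth.Agent.CycLib.Dev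

noncomputable section

namespace Groth.Agent.CycLib.ProjBdl.OfKRR

open Groth.Agent.Desc44.ProjBundle

variable {X P : Scheme.{u}}

theorem isBas_of_isFrame {L : P.Modules} {W : P.Opens} {s : Γ(L, W)} (h : IsFrame L W (fun _ : Fin 1 => s))
    {x : P} (hx : x ∈ W) : IsBas (germM L W x hx s) := by
  have hb := h.stalkComb_bijective x hx
  have key : ∀ a : P.presheaf.stalk x, stalkComb L (fun _ : Fin 1 => s) x hx (fun _ => a) = a • germM L W x hx s :=
    fun a => by simp [stalkComb, Fintype.linearCombination_apply]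
  refine ⟨fun a b e => ?_, fun v => ?_⟩
  · exact congrFun (hb.1 ((key a).trans (e.trans (key b).symm))) 0
  · obtain ⟨a, ha⟩ := hb.2 v
    refine ⟨a 0, ?_⟩
    rw [LinearMap.toSpanSingleton_apply, ← key, ← ha]
    congr 1
    funext i
    rw [Subsingleton.elim i 0]

variable (π : P ⟶ X) {E : X.Modules} {O1 : P.Modules} (q : (Scheme.Modules.pullback π).obj E ⟶ O1)
  (hP : KRR.IsProjBundle π E O1 q) {U : X.Opens} {m : ℕ} {e : Fin (m + 1) → Γ(E, U)} (he : IsFrame E U e)
  (hU : IsAffineOpen U) (k : Fin (m + 1))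

/-- The chart isomorphism. -/
def psi : Spec (CommRingCat.of (MvPolynomial (Fin m) Γ(X, U))) ⟶ P :=
  haveI := isIso_coordMap π q e k hU hP he
  inv (coordMap π q e k) ≫ (D π q e k).ι

instance isOpenImmersion_psi : IsOpenImmersion (psi π q hP he hU k) := by
  haveI := isIso_coordMap π q e k hU hP he
  unfold psi
  infer_instance

theorem opensRange_psi : (psi π q hP he hU k).opensRange = D π q e k := by
  haveI := isIso_coordMap π q e k hU hP he
  unfold psi
  rw [Scheme.Hom.opensRange_comp_of_isIso, Scheme.Opens.opensRange_ι]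

theorem psi_base : psi π q hP he hU k ≫ π = base hU := by
  haveI := isIso_coordMap π q e k hU hP he
  unfold psi
  rw [Category.assoc, ← coordMap_base π q e k hU, IsIso.inv_hom_id_assoc]

theorem psi_appLE (h : (⊤ : (Spec (CommRingCat.of (MvPolynomial (Fin m) Γ(X, U)))).Opens) ≤
    psi π q hP he hU k ⁻¹ᵁ D π q e k) (b : MvPolynomial (Fin m) Γ(X, U)) :
    (psi π q hP he hU k).appLE (D π q e k) ⊤ h (coordHom π q e k b) =
      (Scheme.ΓSpecIso (CommRingCat.of (MvPolynomial (Fin m) Γ(X, U)))).inv b := by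
  haveI := isIso_coordMap π q e k hU hP he
  have hbij : Function.Bijective ((coordMap π q e k).appLE ⊤ ⊤ le_rfl) := by
    haveI : IsIso ((coordMap π q e k).appLE ⊤ ⊤ le_rfl) := by
      unfold Scheme.Hom.appLE
      haveI : IsIso (homOfLE (le_rfl : (⊤ : (D π q e k).toScheme.Opens) ≤ coordMap π q e k ⁻¹ᵁ ⊤)).op :=
        ⟨(homOfLE (le_top : coordMap π q e k ⁻¹ᵁ ⊤ ≤ ⊤)).op, Subsingleton.elim _ _, Subsingleton.elim _ _⟩
      infer_instance
    exact ConcreteCategory.bijective_of_isIso _
  refine hbij.1 ?_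
  have h1 : (coordMap π q e k).appLE ⊤ ⊤ le_rfl
      ((Scheme.ΓSpecIso (CommRingCat.of (MvPolynomial (Fin m) Γ(X, U)))).inv b) =
      (D π q e k).topIso.inv (coordHom π q e k b) := by
    rw [← ConcreteCategory.comp_apply, ← ConcreteCategory.comp_apply, ← G_coordMap, G,
      Scheme.Hom.appTop, ← Scheme.Hom.appLE_eq_app]
    rfl
  rw [h1, ← ConcreteCategory.comp_apply, Scheme.Hom.appLE_comp_appLE, topIso_inv_eq _ (by simp)]
  have h2 : coordMap π q e k ≫ psi π q hP he hU k = (D π q e k).ι := by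
    unfold psi
    rw [IsIso.hom_inv_id_assoc]
  simp only [h2]

/-- The renaming of the variables. -/
def ren : CommRingCat.of (MvPolynomial (Fin m) Γ(X, U)) ⟶ CommRingCat.of (MvPolynomial (Var k) Γ(X, U)) :=
  CommRingCat.ofHom (MvPolynomial.renameEquiv Γ(X, U) (finSuccAboveEquiv k)).toRingEquiv.toRingHom

instance isIso_ren : IsIso (ren (U := U) k) :=
  (ConcreteCategory.isIso_iff_bijective _).2 (MvPolynomial.renameEquiv Γ(X, U) (finSuccAboveEquiv k)).bijective

/-- A chart. -/
def chartC : Spec (CommRingCat.of (MvPolynomial (Var k) Γ(X, U))) ⟶ P :=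
  Spec.map (ren k) ≫ psi π q hP he hU k

instance isOpenImmersion_chartC : IsOpenImmersion (chartC π q hP he hU k) := by
  unfold chartC
  infer_instance

theorem opensRange_chartC : (chartC π q hP he hU k).opensRange = D π q e k := by
  unfold chartC
  rw [Scheme.Hom.opensRange_comp_of_isIso, opensRange_psi]

theorem chartC_over : chartC π q hP he hU k ≫ π =
    Spec.map (CommRingCat.ofHom (MvPolynomial.C : Γ(X, U) →+* MvPolynomial (Var k) Γ(X, U))) ≫ hU.fromSpec := by
  unfold chartC
  rw [Category.assoc, psi_base, base, ← Spec.map_comp_assoc]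
  congr 2
  refine CommRingCat.hom_ext (RingHom.ext fun a => ?_)
  exact MvPolynomial.rename_C _ a

theorem ren_vec (n : Fin (m + 1)) :
    ren (U := U) k (vec k n) = if hn : n = k then 1 else MvPolynomial.X ⟨n, hn⟩ := by
  rcases Fin.eq_self_or_eq_succAbove k n with rfl | ⟨j, rfl⟩
  · rw [vec_self, dif_pos rfl, map_one]
  · rw [vec_succAbove, dif_neg (Fin.succAbove_ne k j)]
    exact MvPolynomial.rename_X _ _

theorem coord_eq (n : Fin (m + 1)) : Desc44.ProjBundle.coord π q e k n = coordHom π q e k (vec k n) := by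
  rcases Fin.eq_self_or_eq_succAbove k n with rfl | ⟨j, rfl⟩
  · rw [vec_self, map_one, coord_self]
  · rw [vec_succAbove, coordHom_X]

theorem chartC_appLE (n : Fin (m + 1))
    (h : (⊤ : (Spec (CommRingCat.of (MvPolynomial (Var k) Γ(X, U)))).Opens) ≤ chartC π q hP he hU k ⁻¹ᵁ D π q e k) :
    (chartC π q hP he hU k).appLE (D π q e k) ⊤ h (Desc44.ProjBundle.coord π q e k n) =
      (Scheme.ΓSpecIso (CommRingCat.of (MvPolynomial (Var k) Γ(X, U)))).inv
        (if hn : n = k then 1 else MvPolynomial.X ⟨n, hn⟩) := by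
  have hp : (⊤ : (Spec (CommRingCat.of (MvPolynomial (Fin m) Γ(X, U)))).Opens) ≤
      psi π q hP he hU k ⁻¹ᵁ D π q e k := fun y _ => by
    show psi π q hP he hU k y ∈ D π q e k
    rw [← opensRange_psi π q hP he hU k]
    exact ⟨y, rfl⟩
  have h' : (⊤ : (Spec (CommRingCat.of (MvPolynomial (Var k) Γ(X, U)))).Opens) ≤ Spec.map (ren k) ⁻¹ᵁ ⊤ :=
    fun _ _ => trivial
  show (Spec.map (ren k) ≫ psi π q hP he hU k).appLE (D π q e k) ⊤ h (Desc44.ProjBundle.coord π q e k n) = _
  rw [← Scheme.Hom.appLE_comp_appLE (Spec.map (ren k)) (psi π q hP he hU k) (D π q e k) ⊤ ⊤ hp h',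
    ConcreteCategory.comp_apply, coord_eq, psi_appLE, ← ren_vec]
  have hn := ConcreteCategory.congr_hom (Scheme.ΓSpecIso_inv_naturality (ren (U := U) k)) (vec k n)
  rw [ConcreteCategory.comp_apply, ConcreteCategory.comp_apply] at hn
  rw [hn, Scheme.Hom.appTop, ← Scheme.Hom.appLE_eq_app]
  rfl

theorem mem_D_iff (n : Fin (m + 1)) (x : P) (hx : x ∈ D π q e k) :
    x ∈ D π q e n ↔ IsUnit (P.presheaf.germ (D π q e k) x hx (Desc44.ProjBundle.coord π q e k n)) := by
  refine ⟨fun hn => ?_, fun hu => mem_genLocus_of_unit (D_le π q e k) (isFrame_genLocus (tau π q e k))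
    (coord_spec π q e k n) hx hu⟩
  let G : Fin (m + 1) → O1.presheaf.stalk x := fun i => germM O1 (π ⁻¹ᵁ U) x (D_le π q e k hx) (tau π q e i)
  have hres : ∀ (l : Fin (m + 1)) (hl : x ∈ D π q e l) (i : Fin (m + 1)),
      germM O1 (D π q e l) x hl (rs O1 (D_le π q e l) (tau π q e i)) = G i :=
    fun l hl i => O1.presheaf.germ_res_apply _ x hl _
  have hbk : IsBas (G k) := hres k hx k ▸ isBas_of_isFrame (isFrame_genLocus (tau π q e k)) hx
  have e1 : G n = P.presheaf.germ (D π q e k) x hx (Desc44.ProjBundle.coord π q e k n) • G k := by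
    have := congrArg (germM O1 (D π q e k) x hx) (coord_spec π q e k n)
    erw [germM_smul] at this
    rwa [hres, hres] at this
  have e2 : G k = P.presheaf.germ (D π q e n) x hn (Desc44.ProjBundle.coord π q e n k) • G n := by
    have := congrArg (germM O1 (D π q e n) x hn) (coord_spec π q e n k)
    erw [germM_smul] at this
    rwa [hres, hres] at this
  refine isUnit_iff_exists_inv'.2 ⟨P.presheaf.germ (D π q e n) x hn (Desc44.ProjBundle.coord π q e n k), hbk.1 ?_⟩
  simp only [LinearMap.toSpanSingleton_apply]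
  rw [mul_smul, ← e1, ← e2, one_smul]

/-- The charts. -/
def charts : Charts π O1 (m + 1) U hU where
  c k := chartC π q hP he hU k
  imm k := inferInstance
  over' k := chartC_over π q hP he hU k
  cover x hx := by
    obtain ⟨k, hk⟩ := exists_mem_D π q e hP he hx
    rw [← opensRange_chartC π q hP he hU k] at hk
    exact ⟨k, hk⟩
  sec n := tau π q e n
  fn k n := P.presheaf.map (homOfLE (opensRange_chartC π q hP he hU k).le).op (Desc44.ProjBundle.coord π q e k n)
  fn_eq k n := by
    rw [← ConcreteCategory.comp_apply, Scheme.Hom.map_appLE]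
    exact chartC_appLE π q hP he hU k n _
  le k := (opensRange_chartC π q hP he hU k).le.trans (D_le π q e k)
  rel k n := by
    have h := congrArg (O1.presheaf.map (homOfLE (opensRange_chartC π q hP he hU k).le).op) (coord_spec π q e k n)
    simp only [rs, Scheme.Modules.map_smul, res_res] at h
    exact h
  bas k x hx := by
    have hxD : x ∈ D π q e k := (opensRange_chartC π q hP he hU k).le hx
    have h := isBas_of_isFrame (isFrame_genLocus (tau π q e k)) hxD
    exact (show germM O1 (D π q e k) x hxD (rs O1 (D_le π q e k) (tau π q e k)) = germM O1 (π ⁻¹ᵁ U) x (D_le π q e k hxD) (tau π q e k) from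
      O1.presheaf.germ_res_apply _ x hxD _) ▸ h
  preimage k n hn := by
    ext y
    show chartC π q hP he hU k y ∈ (chartC π q hP he hU n).opensRange ↔ _
    have hy : chartC π q hP he hU k y ∈ D π q e k := by
      rw [← opensRange_chartC π q hP he hU k]; exact ⟨y, rfl⟩
    rw [opensRange_chartC, mem_D_iff π q k n _ hy, ← Scheme.mem_basicOpen]
    have htop : (⊤ : (Spec (CommRingCat.of (MvPolynomial (Var k) Γ(X, U)))).Opens) ≤
        chartC π q hP he hU k ⁻¹ᵁ D π q e k := fun z _ => by
      show chartC π q hP he hU k z ∈ D π q e k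
      rw [← opensRange_chartC π q hP he hU k]; exact ⟨z, rfl⟩
    show y ∈ chartC π q hP he hU k ⁻¹ᵁ P.basicOpen (Desc44.ProjBundle.coord π q e k n) ↔ _
    have hb := Scheme.basicOpen_appLE (chartC π q hP he hU k) ⊤ (D π q e k) htop (Desc44.ProjBundle.coord π q e k n)
    rw [chartC_appLE π q hP he hU k n htop, dif_neg hn, basicOpen_eq_of_affine, top_inf_eq] at hb
    rw [← hb]
    rfl

end OfKRR

open OfKRR in
/-- A projective bundle has charts at every point. -/
theorem exists_cov_of_isProjBundle {X P : Scheme.{u}} {π : P ⟶ X} {E : X.Modules} {O1 : P.Modules}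
    {q : (Scheme.Modules.pullback π).obj E ⟶ O1} (hP : KRR.IsProjBundle π E O1 q) {r : ℕ} (hr : 1 ≤ r)
    (hE : FlatMod.IsFinLocFreeOfRank r E) : Nonempty (Cov π O1 r) := by
  classical
  obtain ⟨m, rfl⟩ : ∃ m, r = m + 1 := ⟨r - 1, by omega⟩
  have key : ∀ ζ : X, ∃ (V : X.Opens) (hV : IsAffineOpen V), ζ ∈ V ∧ Nonempty (Charts π O1 (m + 1) V hV) := by
    intro ζ
    obtain ⟨U, hζ, ⟨φ⟩⟩ := hE ζ
    let p : Fin (m + 1) → (FlatMod.freeMod (U : Scheme.{u}) (m + 1) ⟶ Coh.structureModule (U : Scheme.{u})) :=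
      fun j => Sigma.desc fun i => if i = j then 𝟙 _ else 0
    obtain ⟨e, he⟩ := exists_isFrame_of_split (M := E)
      (fun i => Sigma.ι (fun _ : Fin (m + 1) => Coh.structureModule (U : Scheme.{u})) i ≫ φ.inv)
      (fun j => φ.hom ≫ p j) (fun i j => by simp [p]) (by
        rw [← cancel_epi φ.inv, ← cancel_mono φ.hom]
        apply Sigma.hom_ext
        intro j
        simp [p, Preadditive.comp_sum, Preadditive.sum_comp, ite_comp])
    obtain ⟨V, hV, hζV, hVU⟩ := exists_isAffineOpen_mem_and_subset (x := ζ) (U := U) hζ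
    exact ⟨V, hV, hζV, ⟨charts π q hP (Desc44.ProjBundle.isFrame_restrict he hVU) hV⟩⟩
  choose V hV hm hT using key
  exact ⟨⟨V, hV, hm, fun ζ => (hT ζ).some⟩⟩

end Groth.Agent.CycLib.ProjBdl
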