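import Groth.Prelude.Def_KRR
import Groth.Agent.ProjTwist.Tensor
import Groth.Agent.PicCl.Basic
import Groth.Agent.Desc44.ProjBundle.Chart
import Mathlib.AlgebraicGeometry.Modules.Sheaf

/-!
Base change of projective bundles given by their universal property.
-/

set_option autoImplicit false
set_option linter.style.haveILetI false
set_option maxHeartbeats 800000

universe u

open CategoryTheory Limits AlgebraicGeometry

namespace Groth.Agent.CycLib.ProjBdl

open Scheme.Modules (pullbackComp pullbackCongr)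

variable {A B C D : Scheme.{u}}

theorem comp_assoc_app (h : A ⟶ B) (g : B ⟶ C) (k : C ⟶ D) (M : D.Modules) :
    (pullbackComp h (g ≫ k)).inv.app M ≫ (Scheme.Modules.pullback h).map ((pullbackComp g k).inv.app M) =
      (pullbackCongr (Category.assoc h g k).symm).hom.app M ≫ (pullbackComp (h ≫ g) k).inv.app M ≫
        (pullbackComp h g).inv.app ((Scheme.Modules.pullback k).obj M) := by
  have h0 := congr_app (Scheme.Modules.pseudofunctor_associativity h g k) M
  simp only [NatTrans.comp_app, Functor.whiskerRight_app, Functor.associator_hom_app, Functor.whiskerLeft_app,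
    Category.id_comp] at h0
  rw [show (pullbackCongr (Category.assoc h g k).symm).hom =
    eqToHom (congrArg Scheme.Modules.pullback (Category.assoc h g k).symm) from rfl, ← h0]
  simp

theorem congr_nat (h : A ⟶ B) {a b : B ⟶ C} (e : a = b) (M : C.Modules) :
    (pullbackComp h a).inv.app M ≫ (Scheme.Modules.pullback h).map ((pullbackCongr e).hom.app M) =
      (pullbackCongr (congrArg (fun c => h ≫ c) e)).hom.app M ≫ (pullbackComp h b).inv.app M := by
  subst e
  simp [pullbackCongr]

theorem congr_trans {a b c : A ⟶ B} (e : a = b) (e' : b = c) (M : B.Modules) :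
    (pullbackCongr e).hom.app M ≫ (pullbackCongr e').hom.app M = (pullbackCongr (e.trans e')).hom.app M := by
  subst e e'
  simp [pullbackCongr]

theorem move_iso {C : Type*} [Category C] {A₁ A₂ A₃ A₄ A₅ : C} {d : A₁ ⟶ A₂} {c : A₂ ⟶ A₄} {c' : A₄ ⟶ A₂}
    {e : A₁ ⟶ A₅} {e' : A₅ ⟶ A₁} {a : A₅ ⟶ A₃} {b : A₃ ⟶ A₄} (h0 : d ≫ c = e ≫ a ≫ b)
    (he : e' ≫ e = 𝟙 _) (hc : c ≫ c' = 𝟙 _) : a ≫ b ≫ c' = e' ≫ d := by
  have h1 := congrArg (fun x => e' ≫ x ≫ c') h0
  simp only [Category.assoc] at h1
  rw [hc, Category.comp_id, reassoc_of% he] at h1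
  exact h1.symm

variable {X Y P P' : Scheme.{u}} {f : X ⟶ Y} {π : P ⟶ Y} {π' : P' ⟶ X} {f' : P' ⟶ P}
  {E : Y.Modules} {O1 : P.Modules}

theorem isFinLocFreeOfRank_pullback (g : X ⟶ Y) {M : Y.Modules} {n : ℕ} (h : FlatMod.IsFinLocFreeOfRank n M) :
    FlatMod.IsFinLocFreeOfRank n ((Scheme.Modules.pullback g).obj M) := fun x => by
  obtain ⟨U, hx, ⟨i⟩⟩ := h (g x)
  haveI : PreservesColimitsOfShape (Discrete (Fin n)) (Scheme.Modules.pullback (g ∣_ U)) :=
    (Scheme.Modules.pullbackPushforwardAdjunction (g ∣_ U)).leftAdjoint_preservesColimits.preservesColimitsOfShape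
  exact ⟨g ⁻¹ᵁ U, hx, ⟨PicCl.restrictPullbackIso g U M ≪≫ (Scheme.Modules.pullback (g ∣_ U)).mapIso i ≪≫
    PreservesCoproduct.iso (Scheme.Modules.pullback (g ∣_ U)) _ ≪≫
    Sigma.mapIso fun _ => QCoh.pullbackUnitIso (g ∣_ U)⟩⟩

/-- The tautological quotient of a base change. -/
noncomputable def bcQuot (w : f' ≫ π = π' ≫ f) (q : (Scheme.Modules.pullback π).obj E ⟶ O1) :
    (Scheme.Modules.pullback π').obj ((Scheme.Modules.pullback f).obj E) ⟶ (Scheme.Modules.pullback f').obj O1 :=
  (pullbackComp π' f).hom.app E ≫ (pullbackCongr w.symm).hom.app E ≫ (pullbackComp f' π).inv.app E ≫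
    (Scheme.Modules.pullback f').map q

theorem bcQuot_comp (w : f' ≫ π = π' ≫ f) (q : (Scheme.Modules.pullback π).obj E ⟶ O1) {T : Scheme.{u}}
    {g : T ⟶ X} {L : T.Modules} (h : T ⟶ P') (hg : h ≫ π' = g)
    (e : (Scheme.Modules.pullback h).obj ((Scheme.Modules.pullback f').obj O1) ⟶ L)
    (hg' : (h ≫ f') ≫ π = g ≫ f) :
    (pullbackCongr hg').inv.app E ≫ (pullbackComp (h ≫ f') π).inv.app E ≫
        (Scheme.Modules.pullback (h ≫ f')).map q ≫ (pullbackComp h f').inv.app O1 ≫ e =
      (pullbackComp g f).inv.app E ≫ (pullbackCongr hg).inv.app ((Scheme.Modules.pullback f).obj E) ≫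
        (pullbackComp h π').inv.app ((Scheme.Modules.pullback f).obj E) ≫
          (Scheme.Modules.pullback h).map (bcQuot w q) ≫ e := by
  subst hg
  rw [show (pullbackCongr (rfl : h ≫ π' = h ≫ π')).inv.app ((Scheme.Modules.pullback f).obj E) = 𝟙 _ by
      simp [pullbackCongr]]
  erw [Category.id_comp]
  have key : (pullbackComp (h ≫ π') f).inv.app E ≫ (pullbackComp h π').inv.app ((Scheme.Modules.pullback f).obj E) ≫
      (Scheme.Modules.pullback h).map ((pullbackComp π' f).hom.app E) =
      (pullbackCongr (Category.assoc h π' f)).hom.app E ≫ (pullbackComp h (π' ≫ f)).inv.app E := by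
    exact move_iso (comp_assoc_app h π' f E) (by rw [congr_trans]; simp [pullbackCongr])
      (by rw [← Functor.map_comp, Iso.inv_hom_id_app]; exact CategoryTheory.Functor.map_id _ _)
  have hnat : (Scheme.Modules.pullback (h ≫ f')).map q ≫ (pullbackComp h f').inv.app O1 =
      (pullbackComp h f').inv.app ((Scheme.Modules.pullback π).obj E) ≫
        (Scheme.Modules.pullback h).map ((Scheme.Modules.pullback f').map q) :=
    (pullbackComp h f').inv.naturality q
  rw [bcQuot, Functor.map_comp, Functor.map_comp, Functor.map_comp]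
  simp only [Category.assoc]
  rw [reassoc_of% key, reassoc_of% (congr_nat h w.symm E), reassoc_of% (comp_assoc_app h f' π E),
    reassoc_of% hnat]
  rw [reassoc_of% (congr_trans (Category.assoc h π' f) (congrArg (fun c => h ≫ c) w.symm) E),
    reassoc_of% (congr_trans ((Category.assoc h π' f).trans (congrArg (fun c => h ≫ c) w.symm))
      (Category.assoc h f' π).symm E)]
  rfl

/-- Base change of a projective bundle. -/
theorem isProjBundle_baseChange {q : (Scheme.Modules.pullback π).obj E ⟶ O1} (hP : KRR.IsProjBundle π E O1 q)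
    (hsq : IsPullback f' π' π f) :
    KRR.IsProjBundle π' ((Scheme.Modules.pullback f).obj E) ((Scheme.Modules.pullback f').obj O1)
      (bcQuot hsq.w q) := by
  refine ⟨ProjTwist.isFinLocFreeOfRank_one (PicCl.isInvertible_pullback f'
      (Desc44.ProjBundle.isInvertible_of_rank_one hP.invertible)), ?_, fun T g L hL s hs => ?_⟩
  · haveI := hP.epi
    haveI : Epi ((Scheme.Modules.pullback f').map q) :=
      (Functor.preservesEpimorphisms_of_adjunction (Scheme.Modules.pullbackPushforwardAdjunction f')).preserves q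
    unfold bcQuot
    infer_instance
  · haveI := hs
    obtain ⟨h₀, ⟨hg₀, e₀, he₀⟩, huniq⟩ :=
      hP.univ T (g ≫ f) L hL ((pullbackComp g f).inv.app E ≫ s) (epi_comp _ _)
    let h := hsq.lift h₀ g hg₀
    have h1 : h ≫ f' = h₀ := hsq.lift_fst _ _ _
    have h2 : h ≫ π' = g := hsq.lift_snd _ _ _
    refine ⟨h, ⟨h2, ?_⟩, fun h' hh' => ?_⟩
    · clear_value h
      subst h1
      refine ⟨((pullbackComp h f').app O1) ≪≫ e₀, ?_⟩
      rw [← cancel_epi ((pullbackComp g f).inv.app E), ← bcQuot_comp hsq.w q h h2 _ hg₀, ← he₀]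
      simp
    · obtain ⟨hg', e', he'⟩ := hh'
      have h3 : (h' ≫ f') ≫ π = g ≫ f := by rw [Category.assoc, hsq.w, ← Category.assoc, hg']
      have := huniq (h' ≫ f') ⟨h3, ((pullbackComp h' f').app O1).symm ≪≫ e', by
        rw [← he', ← bcQuot_comp hsq.w q h' hg' e'.hom h3]
        simp⟩
      exact hsq.hom_ext (this.trans h1.symm) (hg'.trans h2.symm)

end Groth.Agent.CycLib.ProjBdl
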