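import Groth.Agent.CycLib.ProjBdl.ChernRel
import Groth.Agent.CycLib.ProjBdl.BundleBC
import Groth.Agent.CycLib.FlatBC
import Groth.Agent.CycLib.ShiftComp
import Groth.Agent.CycLib.ShiftC1
import Groth.Agent.CycLib.DevPushC1
import Groth.Agent.CycLib.RelDim
import Groth.Agent.CycLib.FibreDeg
import Groth.Agent.S9358

/-!
Chern class caps commute with flat pullback and proper push-forward.
-/

set_option autoImplicit false
set_option linter.style.haveILetI false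
set_option maxHeartbeats 800000

universe u

open CategoryTheory Limits AlgebraicGeometry

namespace Groth.Agent.CycLib.ProjBdl

open Groth.Agent.CycLib.Dev

variable {X Y P P' : Scheme.{u}} {f : X ⟶ Y} {π : P ⟶ Y} {π' : P' ⟶ X} {f' : P' ⟶ P} {O1 : P.Modules}
  {δX : X → ℤ} {δY : Y → ℤ} {δP : P → ℤ} {δP' : P' → ℤ} {r : ℕ}

theorem Cov.hasRelDim (L : Cov π O1 r) (hr : 1 ≤ r) [LocallyOfFiniteType π] (hd : Cyc.IsDimFun P δP)
    (hδ : Cyc.DeltaCompat π δP δY) : Cyc.HasRelDim π (r - 1) :=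
  hasRelDim_of_trdeg π fun x hx => by
    obtain ⟨n, hn, hn'⟩ := hδ x
    have h1 := L.shiftBy hd hδ x hx
    rw [hn, show n = r - 1 by omega]

theorem pullFun_zsmul {A B : Scheme.{u}} (g : A ⟶ B) {δA : A → ℤ} {δB : B → ℤ} (m c : ℤ) (a : B → ℤ) :
    Cyc.pullFun g δA δB m (c • a) = c • Cyc.pullFun g δA δB m a := funext fun x => by
  show Cyc.pullFun g δA δB m _ x = c * Cyc.pullFun g δA δB m a x
  simp only [Cyc.pullFun]
  split_ifs
  · show c * a (g x) * _ = _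
    rw [mul_assoc]
  · rw [mul_zero]

theorem pullFun_sum {A B : Scheme.{u}} (g : A ⟶ B) {δA : A → ℤ} {δB : B → ℤ} (m : ℤ) {ι : Type*}
    (S : Finset ι) (a : ι → B → ℤ) :
    Cyc.pullFun g δA δB m (∑ i ∈ S, a i) = ∑ i ∈ S, Cyc.pullFun g δA δB m (a i) := funext fun x => by
  rw [Finset.sum_apply]
  simp only [Cyc.pullFun]
  split_ifs
  · rw [Finset.sum_apply, Finset.sum_mul]
  · rw [Finset.sum_const_zero]

theorem pull_mem [Flat f] [IsLocallyNoetherian X] [IsLocallyNoetherian Y] (hX : Cyc.IsSetup X δX) (hY : Cyc.IsSetup Y δY) {c : ℤ} (hs : ShiftBy f δX δY c)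
    {m : ℤ} {a : Y → ℤ} (ha : IsCyc δY m a) (hp : a ∈ prin hY.2.2 m) :
    Cyc.pullFun f δX δY c a ∈ prin hX.2.2 (m + c) := by
  haveI := hX.1
  obtain ⟨α, -, rfl⟩ := ha.exists_cycle
  obtain ⟨β, -, hβ⟩ := (ShiftC1.isCyc_pull f hX.2.2 hs ha).exists_cycle
  rw [← hβ]
  exact ratEquivZero_pull_shift f hX hY hs hp β fun x => by rw [hβ]

/-- Iterated `c₁(O(1))` commutes with flat pullback. -/
theorem pull_iter_mem [Flat f'] [IsLocallyNoetherian P'] [IsLocallyNoetherian P] (hP' : Cyc.IsSetup P' δP') (hP : Cyc.IsSetup P δP) {c : ℤ}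
    (hs : ShiftBy f' δP' δP c) (hinv : PicF.IsInvertible O1)
    (hinv' : PicF.IsInvertible ((Scheme.Modules.pullback f').obj O1)) {m : ℤ} {a : P → ℤ} (ha : IsCyc δP m a)
    (t : ℕ → (ξ : P) → Cyc.secFibre O1 ξ) (ht : ∀ i ξ, t i ξ ≠ 0)
    (t' : ℕ → (ξ : P') → Cyc.secFibre ((Scheme.Modules.pullback f').obj O1) ξ) (ht' : ∀ i ξ, t' i ξ ≠ 0) (n : ℕ) :
    Cyc.pullFun f' δP' δP c (Cov.iter δP a t n) - Cov.iter δP' (Cyc.pullFun f' δP' δP c a) t' n ∈
      prin hP'.2.2 (m + c - n) := by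
  haveI := hP'.1
  haveI := hP.1
  induction n with
  | zero => simp [Cov.iter]
  | succ n ih =>
    have hc := isCyc_iterate hP.2.2 hinv ha t ht n
    have hc' := isCyc_iterate hP'.2.2 hinv' (ShiftC1.isCyc_pull f' hP'.2.2 hs ha) t' ht' n
    rw [show m - (n : ℤ) = m - (n + 1 : ℕ) + 1 by push_cast; ring] at hc
    rw [show m + c - (n : ℤ) = m + c - (n + 1 : ℕ) + 1 by push_cast; ring] at ih hc'
    have h1 := ShiftC1.pull_c1_mem f' hP'.2.2 hs hP.2.2 hinv hinv' hc (t n) (ht n) (t' n) (ht' n)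
    rw [show m - (n + 1 : ℕ) + c = m + c - (n + 1 : ℕ) by ring] at h1
    have hp := ShiftC1.isCyc_pull f' hP'.2.2 hs hc
    rw [show m - (n + 1 : ℕ) + 1 + c = m + c - (n + 1 : ℕ) + 1 by ring] at hp
    have h2 := c1_mem_of_ratEquivZero hP'.2.2 hinv' (hp.sub hc') ih (t' n) (ht' n)
    rw [c1_sub hp hc'] at h2
    simpa only [Cov.iter, sub_add_sub_cancel] using add_mem h1 h2

theorem map_mem [IsProper f'] [IsLocallyNoetherian P'] [IsLocallyNoetherian P] (hP' : Cyc.IsSetup P' δP') (hP : Cyc.IsSetup P δP)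
    (hδ : Cyc.DeltaCompat f' δP' δP) {m : ℤ} (a : AlgebraicCycle P' ℤ) (hp : ⇑a ∈ prin hP'.2.2 m) :
    mapHom (p := f') (δ := δP) (δP := δP') a ∈ prin hP.2.2 m := by
  haveI := hP'.1
  haveI := hP.1
  have h := ratEquiv_map δP' δP hP'.2.2 hP.2.2 f' hδ _ a 0 (by simpa [Cyc.RatEquiv] using (show Cyc.RatEquivZero δP' m a from hp))
  have h' : ⇑(AlgebraicCycle.map f' δP' δP a - AlgebraicCycle.map f' δP' δP 0 : AlgebraicCycle P ℤ) ∈ prin hP.2.2 m := h
  have e0 : ⇑(AlgebraicCycle.map f' δP' δP (0 : AlgebraicCycle P' ℤ)) = 0 :=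
    (mapHom (p := f') (δ := δP) (δP := δP')).map_zero
  rw [Function.locallyFinsuppWithin.coe_sub, e0, sub_zero] at h'
  exact h'

/-- Iterated `c₁(O(1))` and the projection formula. -/
theorem map_iter_mem [IsProper f'] [IsLocallyNoetherian P'] [IsLocallyNoetherian P] (hP' : Cyc.IsSetup P' δP') (hP : Cyc.IsSetup P δP)
    (hδ : Cyc.DeltaCompat f' δP' δP) (hinv : PicF.IsInvertible O1)
    (hinv' : PicF.IsInvertible ((Scheme.Modules.pullback f').obj O1)) {m : ℤ} (a : AlgebraicCycle P' ℤ)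
    (ha : a ∈ Cyc.Zk P' δP' m) (hb : IsCyc δP m ⇑(AlgebraicCycle.map f' δP' δP a))
    (t : ℕ → (ξ : P) → Cyc.secFibre O1 ξ) (ht : ∀ i ξ, t i ξ ≠ 0)
    (t' : ℕ → (ξ : P') → Cyc.secFibre ((Scheme.Modules.pullback f').obj O1) ξ) (ht' : ∀ i ξ, t' i ξ ≠ 0)
    (n : ℕ) (z : AlgebraicCycle P' ℤ) (hz : ⇑z = Cov.iter δP' ⇑a t' n) :
    mapHom (p := f') (δ := δP) (δP := δP') z -
      Cov.iter δP (mapHom (p := f') (δ := δP) (δP := δP') a) t n ∈ prin hP.2.2 (m - n) := by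
  haveI := hP'.1
  haveI := hP.1
  induction n generalizing z with
  | zero =>
    rw [show z = a from DFunLike.coe_injective hz]
    simp [Cov.iter]
  | succ n ih =>
    have hca := isCyc_iterate hP'.2.2 hinv' (IsCyc.of_cycle a ha) t' ht' n
    have hcb := isCyc_iterate hP.2.2 hinv hb t ht n
    rw [show m - (n : ℤ) = m - (n + 1 : ℕ) + 1 by push_cast; ring] at ih hca hcb
    obtain ⟨w, hw, hwe⟩ := hca.exists_cycle
    have h1 := ih w hwe
    have hcm : IsCyc δP (m - (n + 1 : ℕ) + 1) ⇑(AlgebraicCycle.map f' δP' δP w) :=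
      IsCyc.of_cycle _ fun y hy => finsum_mem_eq_zero_of_forall_eq_zero fun x hx => by
        by_contra hne
        obtain ⟨h2, h3⟩ := mul_ne_zero_iff.1 hne
        have e2 : δP' x = δP (f' x) := by
          by_contra hh
          exact h3 (by simp [AlgebraicCycle.mapCoeff, hh])
        exact h2 (hw x (by rw [e2, show f' x = y from hx]; exact hy))
    obtain ⟨v, -, hv⟩ := (isCyc_c1 hP.2.2 hinv hcm (t n) (ht n)).exists_cycle
    have h2 : ⇑(AlgebraicCycle.map f' δP' δP z) - ⇑v ∈ prin hP.2.2 (m - (n + 1 : ℕ)) :=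
      ratEquiv_map_c1 f' hP'.2.2 hinv hinv' hP.2.2 hδ w hw (t' n) (ht' n) (t n) (ht n) z
        (by rw [hz, hwe]; rfl) v hv
    have h3 := c1_mem_of_ratEquivZero hP.2.2 hinv (hcm.sub hcb) h1 (t n) (ht n)
    rw [c1_sub hcm hcb, ← hv] at h3
    simpa only [Cov.iter, sub_add_sub_cancel] using! add_mem h2 h3

theorem mem_of_sub_mem {G : Type*} [AddCommGroup G] {H : AddSubgroup G} {a b : G} (h : a ∈ H) (hd : a - b ∈ H) :
    b ∈ H := by
  have := sub_mem h hd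
  rwa [sub_sub_cancel] at this

theorem setup_sq (hr : 1 ≤ r) {E : Y.Modules} {q : (Scheme.Modules.pullback π).obj E ⟶ O1}
    (hP : KRR.IsProjBundle π E O1 q) (hE : FlatMod.IsFinLocFreeOfRank r E) [IsProper π]
    (hPs : Cyc.IsSetup P δP) (hπ : Cyc.DeltaCompat π δP δY) (hsq : IsPullback f' π' π f)
    (hPs' : Cyc.IsSetup P' δP') (hπ' : Cyc.DeltaCompat π' δP' δX) :
    Flat π ∧ Flat π' ∧ IsProper π' ∧ ShiftBy π δP δY ((r : ℤ) - 1) ∧ ShiftBy π' δP' δX ((r : ℤ) - 1) ∧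
      PicF.IsInvertible O1 ∧ PicF.IsInvertible ((Scheme.Modules.pullback f').obj O1) := by
  haveI := hPs.1
  haveI := hPs'.1
  obtain ⟨L⟩ := exists_cov_of_isProjBundle hP hr hE
  haveI := L.flat
  haveI : IsProper π' := MorphismProperty.of_isPullback (P := @IsProper) hsq (inferInstance)
  have hrd := (S9358.result π f f' π' hsq (r - 1)).2.2 (L.hasRelDim hr hPs.2.2 hπ)
  have hinv := Desc44.ProjBundle.isInvertible_of_rank_one hP.invertible
  refine ⟨inferInstance, MorphismProperty.of_isPullback (P := @Flat) hsq (inferInstance), inferInstance,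
    L.shiftBy hPs.2.2 hπ, fun x hx => ?_, hinv, PicCl.isInvertible_pullback f' hinv⟩
  rw [delta_eq_of_generic π' hπ' hrd x hx]
  omega

/-- `f^*` of Chern class caps satisfy the defining relation. -/
theorem pull_isChernCap (hX : Cyc.IsSetup X δX) (hY : Cyc.IsSetup Y δY) [Flat f] [LocallyOfFiniteType f]
    {c : ℕ} (hc : Cyc.HasRelDim f c) (hf : Cyc.DeltaCompat f δX δY) {E : Y.Modules}
    {q : (Scheme.Modules.pullback π).obj E ⟶ O1} (hP : KRR.IsProjBundle π E O1 q)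
    (hE : FlatMod.IsFinLocFreeOfRank r E) (hr : 1 ≤ r) [IsProper π] (hPs : Cyc.IsSetup P δP)
    (hπ : Cyc.DeltaCompat π δP δY) (hsq : IsPullback f' π' π f) (hPs' : Cyc.IsSetup P' δP')
    (hπ' : Cyc.DeltaCompat π' δP' δX) (k : ℤ) (α : AlgebraicCycle Y ℤ) (αX : AlgebraicCycle X ℤ)
    (hαX : ⇑αX = Cyc.pullFun f δX δY c ⇑α) (γ : Fin (r + 1) → AlgebraicCycle Y ℤ)
    (hγ : Cyc.IsChernCap π δY δP O1 r k α γ) (β : Fin (r + 1) → AlgebraicCycle X ℤ)
    (hβ : ∀ j, ⇑(β j) = Cyc.pullFun f δX δY c ⇑(γ j)) :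
    Cyc.IsChernCap π' δX δP' ((Scheme.Modules.pullback f').obj O1) r (k + c) αX β := by
  classical
  haveI := hPs.1
  haveI := hPs'.1
  haveI := hX.1
  haveI := hY.1
  obtain ⟨hfl, hfl', hpr', hs, hs', hinv, hinv'⟩ := setup_sq hr hP hE hPs hπ hsq hPs' hπ'
  haveI : LocallyOfFiniteType f' := MorphismProperty.of_isPullback (P := @LocallyOfFiniteType) hsq.flip (inferInstance)
  haveI : Flat f' := MorphismProperty.of_isPullback (P := @Flat) hsq.flip (inferInstance)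
  have hrdf' := (S9358.result f π π' f' hsq.flip c).2.2 hc
  have hδf' : Cyc.DeltaCompat f' δP' δP := deltaCompat_cancel f' π (hsq.w ▸ deltaCompat_comp hπ' hf) hπ
  have hsf' : ShiftBy f' δP' δP c := fun x hx => delta_eq_of_generic f' hδf' hrdf' x hx
  have hsf : ShiftBy f δX δY c := fun x hx => delta_eq_of_generic f hf hc x hx
  obtain ⟨L⟩ := exists_cov_of_isProjBundle hP hr hE
  obtain ⟨L'⟩ := exists_cov_of_isProjBundle (isProjBundle_baseChange hP hsq) hr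
    (isFinLocFreeOfRank_pullback f hE)
  choose σ hσ using exists_isBas hinv
  choose σ' hσ' using exists_isBas hinv'
  let t : ℕ → (ξ : P) → Cyc.secFibre O1 ξ := fun _ ξ => Submodule.Quotient.mk (σ ξ)
  have ht : ∀ m ξ, t m ξ ≠ 0 := fun _ ξ => mk_ne_zero_of_isBas (hσ ξ)
  let t' : ℕ → (ξ : P') → Cyc.secFibre ((Scheme.Modules.pullback f').obj O1) ξ := fun _ ξ => Submodule.Quotient.mk (σ' ξ)
  have ht' : ∀ m ξ, t' m ξ ≠ 0 := fun _ ξ => mk_ne_zero_of_isBas (hσ' ξ)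
  have h0 : β 0 = αX := DFunLike.coe_injective (by rw [hβ 0, hγ.1, hαX])
  have hZ : ∀ j : Fin (r + 1), β j ∈ Cyc.Zk X δX (k + c - ((j : ℕ) : ℤ)) := fun j x hx => by
    rw [hβ j, Cyc.pullFun]
    split_ifs with h
    · rw [hγ.2.1 j (f x) (fun e => hx (by omega)), zero_mul]
    · rfl
  refine (L'.isChernCap_iff hr hPs'.2.2 hπ' hinv' (k + c) β hZ αX h0 t' ht').2 ?_
  have h := pull_mem hPs' hPs hsf' (L.isCyc_relSum hr hPs.2.2 hπ hinv k γ hγ.2.1 t ht)
    ((L.isChernCap_iff hr hPs.2.2 hπ hinv k γ hγ.2.1 α hγ.1 t ht).1 hγ)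
  rw [relSum, pullFun_sum] at h
  rw [relSum, show k + (c : ℤ) - 1 = k - 1 + c by ring]
  refine mem_of_sub_mem h ?_
  rw [← Finset.sum_sub_distrib]
  refine sum_mem fun i _ => ?_
  rw [pullFun_zsmul, ← smul_sub]
  refine zsmul_mem ?_ _
  have e : Cyc.pullFun f' δP' δP c (Cyc.pullFun π δP δY ((r : ℤ) - 1) ⇑(γ (Fin.rev i))) =
      Cyc.pullFun π' δP' δX ((r : ℤ) - 1) ⇑(β (Fin.rev i)) := by
    rw [hβ, ← pullFun_comp_shifts f' π hPs'.2.2 hPs.2.2 hsf' hs, ← pullFun_comp_shifts π' f hPs'.2.2 hX.2.2 hs' hsf,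
      hsq.w, add_comm ((r : ℤ) - 1) (c : ℤ)]
  have h1 := pull_iter_mem hPs' hPs hsf' hinv hinv' (L.isCyc_pull hr hPs.2.2 hπ _ (hγ.2.1 (Fin.rev i))) t ht t' ht' i
  rw [e] at h1
  convert h1 using 2
  rw [Fin.val_rev]
  have := i.2
  omega

/-- `f_*` of Chern class caps satisfy the defining relation. -/
theorem map_isChernCap (hX : Cyc.IsSetup X δX) (hY : Cyc.IsSetup Y δY) [IsProper f]
    (hf : Cyc.DeltaCompat f δX δY) {E : Y.Modules}
    {q : (Scheme.Modules.pullback π).obj E ⟶ O1} (hP : KRR.IsProjBundle π E O1 q)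
    (hE : FlatMod.IsFinLocFreeOfRank r E) (hr : 1 ≤ r) [IsProper π] (hPs : Cyc.IsSetup P δP)
    (hπ : Cyc.DeltaCompat π δP δY) (hsq : IsPullback f' π' π f) (hPs' : Cyc.IsSetup P' δP')
    (hπ' : Cyc.DeltaCompat π' δP' δX) (k : ℤ) (α : AlgebraicCycle X ℤ) (γ : Fin (r + 1) → AlgebraicCycle X ℤ)
    (hγ : Cyc.IsChernCap π' δX δP' ((Scheme.Modules.pullback f').obj O1) r k α γ) :
    Cyc.IsChernCap π δY δP O1 r k (AlgebraicCycle.map f δX δY α) fun j => AlgebraicCycle.map f δX δY (γ j) := by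
  classical
  haveI := hPs.1
  haveI := hPs'.1
  haveI := hX.1
  haveI := hY.1
  obtain ⟨hfl, hfl', hpr', hs, hs', hinv, hinv'⟩ := setup_sq hr hP hE hPs hπ hsq hPs' hπ'
  haveI : IsProper f' := MorphismProperty.of_isPullback (P := @IsProper) hsq.flip (inferInstance)
  have hδf' : Cyc.DeltaCompat f' δP' δP := deltaCompat_cancel f' π (hsq.w ▸ deltaCompat_comp hπ' hf) hπ
  obtain ⟨L⟩ := exists_cov_of_isProjBundle hP hr hE
  obtain ⟨L'⟩ := exists_cov_of_isProjBundle (isProjBundle_baseChange hP hsq) hr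
    (isFinLocFreeOfRank_pullback f hE)
  choose σ hσ using exists_isBas hinv
  choose σ' hσ' using exists_isBas hinv'
  let t : ℕ → (ξ : P) → Cyc.secFibre O1 ξ := fun _ ξ => Submodule.Quotient.mk (σ ξ)
  have ht : ∀ m ξ, t m ξ ≠ 0 := fun _ ξ => mk_ne_zero_of_isBas (hσ ξ)
  let t' : ℕ → (ξ : P') → Cyc.secFibre ((Scheme.Modules.pullback f').obj O1) ξ := fun _ ξ => Submodule.Quotient.mk (σ' ξ)
  have ht' : ∀ m ξ, t' m ξ ≠ 0 := fun _ ξ => mk_ne_zero_of_isBas (hσ' ξ)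
  let δ' := δP'
  have hZ : ∀ j : Fin (r + 1), AlgebraicCycle.map f δX δY (γ j) ∈ Cyc.Zk Y δY (k - ((j : ℕ) : ℤ)) := fun j y hy =>
    finsum_mem_eq_zero_of_forall_eq_zero fun x hx => by
      by_contra hne
      obtain ⟨h2, h3⟩ := mul_ne_zero_iff.1 hne
      have e2 : δX x = δY (f x) := by
        by_contra hh
        exact h3 (by simp [AlgebraicCycle.mapCoeff, hh])
      exact h2 (hγ.2.1 j x (by rw [e2, show f x = y from hx]; exact hy))
  refine (L.isChernCap_iff hr hPs.2.2 hπ hinv k _ hZ _ (by rw [hγ.1]) t ht).2 ?_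
  choose z hz hze using fun i : Fin (r + 1) =>
    (L'.isCyc_relTerm hr hPs'.2.2 hπ' hinv' k γ hγ.2.1 t' ht' i).exists_cycle
  have hsum : ⇑(∑ i : Fin (r + 1), (-1 : ℤ) ^ (i : ℕ) • z i) ∈ prin hPs'.2.2 (k - 1) := by
    have h := (L'.isChernCap_iff hr hPs'.2.2 hπ' hinv' k γ hγ.2.1 α hγ.1 t' ht').1 hγ
    rw [relSum] at h
    rw [Function.locallyFinsuppWithin.coe_sum]
    convert h using 2 with i
    rw [← hze i]
    rfl
  have h := map_mem hPs' hPs hδf' _ hsum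
  rw [map_sum] at h
  rw [relSum]
  refine mem_of_sub_mem h ?_
  rw [← Finset.sum_sub_distrib]
  refine sum_mem fun i _ => ?_
  rw [map_zsmul, ← smul_sub]
  refine zsmul_mem ?_ _
  obtain ⟨a, ha, hae⟩ := (L'.isCyc_pull hr hPs'.2.2 hπ' (γ (Fin.rev i)) (hγ.2.1 (Fin.rev i))).exists_cycle
  have e : Cyc.pullFun π δP δY ((r : ℤ) - 1) ⇑(AlgebraicCycle.map f δX δY (γ (Fin.rev i))) =
      mapHom (p := f') (δ := δP) (δP := δP') a :=
    FlatBC.main_of_isPullback f π hsq hPs.2.2 hf hδf' hs (γ (Fin.rev i)) a hae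
  rw [e]
  have hb := L.isCyc_pull hr hPs.2.2 hπ (AlgebraicCycle.map f δX δY (γ (Fin.rev i))) (hZ (Fin.rev i))
  rw [e] at hb
  have h1 := map_iter_mem hPs' hPs hδf' hinv hinv' a ha hb t ht t' ht' i (z i) (by rw [hze i, hae])
  convert h1 using 2
  rw [Fin.val_rev]
  have := i.2
  omega

end Groth.Agent.CycLib.ProjBdl
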