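import Groth.Agent.CycLib.ProjBdl.Bundle
import Groth.Agent.CycLib.ChartKills
import Groth.Agent.CycLib.PullSurj
import Groth.Agent.CycLib.DevClosed
import Groth.Agent.CycLib.DivRestrict

/-!
Every point of a fibre of a projective bundle is a multiple of a coordinate subspace modulo divisors.
-/

set_option autoImplicit false
set_option linter.style.haveILetI false
set_option maxHeartbeats 800000

universe u

open CategoryTheory CategoryTheory.Limits AlgebraicGeometry TopologicalSpace Opposite MvPolynomial IsLocalRing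

noncomputable section

namespace Groth.Agent.CycLib.ProjBdl

open Groth.Agent.CycLib.Dev

variable {X P : Scheme.{u}} {p : P ⟶ X} {O1 : P.Modules} {r : ℕ}

section chart

variable {U : X.Opens} {hU : IsAffineOpen U} (T : Charts p O1 r U hU)

theorem Charts.exists_of_not_van {m : Fin r} {x : P} (hx : p x ∈ U) (h : ¬ T.Van m x) :
    ∃ q, T.c m q = x := by
  obtain ⟨m', q, rfl⟩ := T.cover x hx
  by_cases hm : m' = m
  · subst hm
    exact ⟨q, rfl⟩
  · have ho' := mt (T.van_iff m' m q).2 h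
    rw [dif_neg (Ne.symm hm)] at ho'
    have h1 : q ∈ T.c m' ⁻¹ᵁ (T.c m).opensRange := by
      rw [T.preimage m' m (Ne.symm hm)]; exact ho'
    exact h1

variable {ζ : X} (hζ : ζ ∈ U) {δ : X → ℤ} {δP : P → ℤ} (hXs : Cyc.IsSetup X δ) (hd : Cyc.IsDimFun P δP)
  (hδ : Cyc.DeltaCompat p δP δ) [IsLocallyNoetherian P]

include hζ hXs hd hδ in
/-- A small point of an affine stratum is killed up to points outside of the stratum. -/
theorem Charts.stratum_kill (m : Fin r) (W : Finset (Var m)) {z : P} (hz : p z = ζ) (hzm : ¬ T.Van m z)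
    (hzW : ∀ n ∈ W, T.Van n.1 z) (hdz : δP z < δ ζ + ((r : ℤ) - 1) - W.card) :
    ∃ (ι : Type u) (_ : Fintype ι) (w : ι → P) (g : (l : ι) → P.residueField (w l)) (c : ι → ℤ),
      (∀ l, p (w l) = ζ ∧ δP (w l) = δP z + 1 ∧ g l ≠ 0 ∧ ∀ n ∈ W, T.Van n.1 (w l)) ∧
      ∀ x, p x = ζ → pointFun z x - ∑ l, c l * Cyc.divFun δP (w l) (g l) x ≠ 0 →
        δP x = δP z ∧ T.Van m x ∧ ∀ n ∈ W, T.Van n.1 x := by
  classical
  haveI := hXs.1
  let R : Type u := Γ(X, U)
  haveI : IsNoetherianRing R := IsLocallyNoetherian.component_noetherian ⟨U, hU⟩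
  let σ := {n : Var m // n ∉ W}
  let B' : Type u := MvPolynomial σ R
  let N := Fintype.card σ
  let e : MvPolynomial (Fin N) R ≃ₐ[R] B' := MvPolynomial.renameEquiv R (Fintype.equivFin σ).symm
  let π : T.B m →+* B' := eval₂Hom C fun n => if h : n ∈ W then 0 else MvPolynomial.X ⟨n, h⟩
  have hπ : Function.Surjective π := fun b => by
    refine ⟨MvPolynomial.rename (fun n : σ => n.1) b, ?_⟩
    show eval₂Hom C _ (rename _ b) = b
    rw [eval₂Hom_rename]
    induction b using MvPolynomial.induction_on with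
    | C a => simp
    | add a b ha hb => rw [map_add, ha, hb]
    | mul_X a v ha => rw [map_mul, ha, eval₂Hom_X', Function.comp_apply, dif_neg v.2]
  let i : Spec (CommRingCat.of B') ⟶ Spec (CommRingCat.of (T.B m)) := Spec.map (CommRingCat.ofHom π)
  haveI : IsClosedImmersion i := IsClosedImmersion.spec_of_surjective (CommRingCat.ofHom π) hπ
  haveI := T.imm m
  let J := i ≫ T.c m
  have hJ : J ≫ p = algMap R B' ≫ hU.fromSpec := by
    rw [Category.assoc, T.over', ← Category.assoc]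
    congr 1
    refine (Spec.map_comp _ _).symm.trans (congrArg Spec.map (CommRingCat.hom_ext (RingHom.ext fun a => ?_)))
    exact eval₂Hom_C _ _ a
  have hJu : ∀ u, J u = T.c m (i u) := fun u => Scheme.Hom.comp_apply i (T.c m) u
  have hpJ : ∀ u, p (J u) = hU.fromSpec (algMap R B' u) := fun u => by
    rw [← Scheme.Hom.comp_apply, hJ, Scheme.Hom.comp_apply]
  have hc : Cyc.DeltaCompat hU.fromSpec (fun v => δ (hU.fromSpec v)) δ := deltaCompat_preimmersion _ δ
  have hJd : Cyc.DeltaCompat (algMap R B' ≫ hU.fromSpec) (fun u => δP (J u)) δ := by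
    have := deltaCompat_comp (deltaCompat_preimmersion J δP) hδ
    rwa [hJ] at this
  obtain ⟨hk, -, -, -, -, -⟩ := kills_affineSpace N R B' e δ hXs hU.fromSpec (fun v => δ (hU.fromSpec v)) hc
    (fun u => δP (J u)) (deltaCompat_cancel _ _ hJd hc)
  have hmem : ∀ x, p x = ζ → ¬ T.Van m x → (∀ n ∈ W, T.Van n.1 x) → ∃ u, J u = x := fun x hx h1 h2 => by
    obtain ⟨q, rfl⟩ := T.exists_of_not_van (hx ▸ hζ) h1
    have hker : RingHom.ker π ≤ q.asIdeal := by
      intro b hb
      have key : ∀ b, b - MvPolynomial.rename (fun n : σ => n.1) (π b) ∈ q.asIdeal := fun b => by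
        induction b using MvPolynomial.induction_on with
        | C a =>
          rw [show π (C a) = C a from eval₂Hom_C _ _ a]
          erw [rename_C]
          rw [sub_self]
          exact zero_mem _
        | add a b ha hb =>
          rw [map_add, map_add, add_sub_add_comm]
          exact add_mem ha hb
        | mul_X a v ha =>
          rw [map_mul, map_mul, show π (MvPolynomial.X v) = if h : v ∈ W then 0 else MvPolynomial.X ⟨v, h⟩ from
            eval₂Hom_X' _ _ v]
          split_ifs with h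
          · rw [map_zero, mul_zero, sub_zero]
            exact Ideal.mul_mem_left _ _ ((T.van_X m v q).1 (h2 v h))
          · rw [rename_X, ← sub_mul]
            exact Ideal.mul_mem_right _ _ ha
      have := key b
      rwa [RingHom.mem_ker.1 hb, map_zero, sub_zero] at this
    obtain ⟨u, hu⟩ : (q : PrimeSpectrum (T.B m)) ∈ Set.range (PrimeSpectrum.comap π) := by
      rw [range_comap_of_surjective _ _ hπ]
      exact (PrimeSpectrum.mem_zeroLocus (q : PrimeSpectrum (T.B m)) _).2 hker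
    exact ⟨u, (hJu u).trans (congrArg (T.c m) hu)⟩
  obtain ⟨u0, hu0⟩ := hmem z hz hzm hzW
  have hzU : hU.fromSpec (algMap R B' u0) = ζ := by rw [← hpJ, hu0, hz]
  have hcard : (N : ℤ) = (r : ℤ) - 1 - W.card := by
    have h1 : N = Fintype.card (Var m) - W.card := by
      simp [N, σ, Fintype.card_subtype_compl]
    have h2 : Fintype.card (Var m) + 1 = r := by
      rw [Fintype.card_subtype_compl, Fintype.card_fin, Fintype.card_subtype_eq]
      have := m.2
      omega
    have := W.card_le_univ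
    omega
  obtain ⟨ι, hι, w, g, c, hw, hval⟩ := hk u0 (by
    show δP (J u0) < δ (hU.fromSpec (algMap R B' u0)) + N
    rw [hu0, hzU]
    omega)
  haveI : IsLocallyNoetherian (Spec (CommRingCat.of (T.B m))) := LocallyOfFiniteType.isLocallyNoetherian (T.c m)
  have hdc : Cyc.IsDimFun (Spec (CommRingCat.of (T.B m))) fun v => δP (T.c m v) := isDimFun_comp_openImmersion (T.c m) hd
  have hgsurj : ∀ l, ∃ g' : P.residueField (T.c m (i (w l))),
      (i.residueFieldMap (w l)).hom (((T.c m).residueFieldMap (i (w l))).hom g') = g l := fun l => by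
    obtain ⟨g1, hg1⟩ := (residueFieldMap_bijective i (w l)).2 (g l)
    obtain ⟨g2, hg2⟩ := (residueFieldMap_bijective_closedImmersion (T.c m) (i (w l))).2 g1
    exact ⟨g2, by rw [hg2, hg1]⟩
  choose g' hg' using hgsurj
  have hne : ∀ l, g' l ≠ 0 := fun l h0 => (hw l).2.2 (by rw [← hg' l, h0, map_zero, map_zero])
  have hne1 : ∀ l, ((T.c m).residueFieldMap (i (w l))).hom (g' l) ≠ 0 := fun l => (map_ne_zero _).2 (hne l)
  have hdiv : ∀ l u, Cyc.divFun δP (T.c m (i (w l))) (g' l) (T.c m (i u)) =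
      Cyc.divFun (fun u => δP (J u)) (w l) (g l) u := fun l u => by
    rw [divFun_openImmersion (T.c m) hd hdc (i (w l)) (hne l) (i u), divFun_closed i hdc (w l) (hne1 l) u, hg']
    rfl
  have hwz : ∀ l, p (T.c m (i (w l))) = ζ ∧ δP (T.c m (i (w l))) = δP z + 1 := fun l => by
    refine ⟨by rw [← hJu, hpJ, (hw l).1, hzU], ?_⟩
    rw [← hJu]
    exact (hw l).2.1.trans (by show δP (J u0) + 1 = _; rw [hu0])
  have hwW : ∀ l, ∀ n ∈ W, T.Van n.1 (T.c m (i (w l))) := fun l n hn => by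
    refine (T.van_X m n (i (w l))).2 ?_
    show π (MvPolynomial.X n) ∈ (w l).asIdeal
    rw [show π (MvPolynomial.X n) = if h : n ∈ W then 0 else MvPolynomial.X ⟨n, h⟩ from eval₂Hom_X' _ _ n,
      dif_pos hn]
    exact zero_mem _
  refine ⟨ι, hι, fun l => T.c m (i (w l)), g', c, fun l => ⟨(hwz l).1, (hwz l).2, hne l, hwW l⟩, fun x hx hR => ?_⟩
  have hx' : x = z ∨ ∃ l, T.c m (i (w l)) ⤳ x ∧ δP x + 1 = δP (T.c m (i (w l))) := by
    by_contra hc'
    push Not at hc'
    refine hR ?_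
    rw [pointFun, if_neg hc'.1, zero_sub, neg_eq_zero]
    refine Finset.sum_eq_zero fun l _ => ?_
    rw [Cyc.divFun, dif_neg fun h => hc'.2 l h.1 h.2, mul_zero]
  have hdx : δP x = δP z := by
    rcases hx' with rfl | ⟨l, -, hl⟩
    · rfl
    · have := (hwz l).2
      omega
  have hW : ∀ n ∈ W, T.Van n.1 x := fun n hn => by
    rcases hx' with rfl | ⟨l, hl, -⟩
    · exact hzW n hn
    · exact T.van_of_specializes hl (hx ▸ hζ) (hwW l n hn)
  refine ⟨hdx, ?_, hW⟩
  by_contra hvm
  obtain ⟨u, rfl⟩ := hmem x hx hvm hW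
  refine hR ?_
  have hinj : Function.Injective J := by
    intro a b hab
    rw [hJu, hJu] at hab
    exact i.isClosedEmbedding.injective ((T.c m).isOpenEmbedding.injective hab)
  have h1 := hval u (hU.fromSpec.isOpenEmbedding.injective (by rw [← hpJ, hx, hzU]))
  have h2 : pointFun z (J u) = pointFun u0 u := by
    rw [← hu0]
    simp only [pointFun, hinj.eq_iff]
  rw [h2, h1, sub_eq_zero]
  refine Finset.sum_congr rfl fun l _ => ?_
  rw [hJu, hdiv]

end chart

/-- A function on a fibre is a combination of principal divisors of points with a property `Q`. -/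
def KilledIn (Q : P → Prop) (p : P ⟶ X) (δ : P → ℤ) (k : ℤ) (η : X) (φ : P → ℤ) : Prop :=
  ∃ (ι : Type u) (_ : Fintype ι) (w : ι → P) (g : (l : ι) → P.residueField (w l)) (c : ι → ℤ),
    (∀ l, p (w l) = η ∧ δ (w l) = k + 1 ∧ g l ≠ 0 ∧ Q (w l)) ∧
      ∀ x, p x = η → φ x = ∑ l, c l * Cyc.divFun δ (w l) (g l) x

variable {Q : P → Prop} {δ : P → ℤ} {k : ℤ} {η : X}

theorem KilledIn.congr {φ ψ : P → ℤ} (h : KilledIn Q p δ k η φ) (hφ : ∀ x, p x = η → ψ x = φ x) :
    KilledIn Q p δ k η ψ := by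
  obtain ⟨ι, i₁, w, g, c, h1, h2⟩ := h
  exact ⟨ι, i₁, w, g, c, h1, fun x hx => (hφ x hx).trans (h2 x hx)⟩

theorem killedIn_zero : KilledIn Q p δ k η fun _ => 0 :=
  ⟨PEmpty, inferInstance, fun i => i.elim, fun i => i.elim, fun i => i.elim, fun i => i.elim,
    fun x _ => by simp⟩

theorem KilledIn.add {φ ψ : P → ℤ} (h : KilledIn Q p δ k η φ) (h' : KilledIn Q p δ k η ψ) :
    KilledIn Q p δ k η fun x => φ x + ψ x := by
  obtain ⟨ι, i₁, w, g, c, h1, h2⟩ := h
  obtain ⟨ι', i₂, w', g', c', h1', h2'⟩ := h'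
  refine ⟨ι ⊕ ι', inferInstance, Sum.elim w w',
    fun i => match i with | .inl a => g a | .inr a => g' a, Sum.elim c c', ?_, fun x hx => ?_⟩
  · rintro (a | a)
    exacts [h1 a, h1' a]
  · show φ x + ψ x = _
    rw [Fintype.sum_sum_type, h2 x hx, h2' x hx]
    rfl

theorem KilledIn.smul {φ : P → ℤ} (h : KilledIn Q p δ k η φ) (n : ℤ) :
    KilledIn Q p δ k η fun x => n * φ x := by
  obtain ⟨ι, i₁, w, g, c, h1, h2⟩ := h
  exact ⟨ι, i₁, w, g, fun i => n * c i, h1, fun x hx => by
    show n * φ x = _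
    rw [h2 x hx, Finset.mul_sum]
    exact Finset.sum_congr rfl fun i _ => (mul_assoc _ _ _).symm⟩

theorem killedIn_sum {ι : Type*} (S : Finset ι) (φ : ι → P → ℤ)
    (h : ∀ l ∈ S, KilledIn Q p δ k η (φ l)) : KilledIn Q p δ k η fun x => ∑ l ∈ S, φ l x := by
  classical
  induction S using Finset.induction with
  | empty => simpa using killedIn_zero
  | insert a S ha ih =>
    exact ((h a (Finset.mem_insert_self a S)).add (ih fun l hl => h l (Finset.mem_insert_of_mem hl))).congr
      fun x _ => Finset.sum_insert ha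

variable (L : Cov p O1 r) (hr : 1 ≤ r) {δ : X → ℤ} {δP : P → ℤ} (hXs : Cyc.IsSetup X δ) (hd : Cyc.IsDimFun P δP)
  (hδ : Cyc.DeltaCompat p δP δ) [IsLocallyNoetherian P] [QuasiCompact p]

include hXs hd hδ in
theorem Cov.kill_point_aux (Q : P → Prop) (i₀ i : ℕ) (hi : i + 1 ≤ r) (ζ : X)
    (hQ : ∀ x, p x = ζ → (∀ n : Fin r, 1 ≤ (n : ℕ) → (n : ℕ) ≤ i₀ → (L.T ζ).Van n x) → Q x) :
    ∀ (d j : ℕ), j + d = i → i₀ ≤ j → ∀ z : P, p z = ζ →
    δP z = δ ζ + ((r : ℤ) - 1) - i → (∀ n : Fin r, 1 ≤ (n : ℕ) → (n : ℕ) ≤ j → (L.T ζ).Van n z) →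
    ∃ μ : ℤ, KilledIn Q p δP (δP z) ζ fun x => pointFun z x - μ * pointFun (L.lin hr i ζ) x := by
  classical
  intro d
  induction d with
  | zero =>
    intro j hj _ z hz hdz hv
    obtain rfl : j = i := by omega
    have e : z = L.lin hr j ζ := (L.T ζ).eq_lin hr (L.mem ζ) hd hδ j hi hz hdz.ge hv
    exact ⟨1, killedIn_zero.congr fun x _ => by rw [e, one_mul, sub_self]⟩
  | succ d ih =>
    intro j hj hi₀ z hz hdz hv
    let m : Fin r := ⟨j + 1, by omega⟩
    have hvm : ∀ x, (∀ n : Fin r, 1 ≤ (n : ℕ) → (n : ℕ) ≤ j → (L.T ζ).Van n x) → (L.T ζ).Van m x →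
        ∀ n : Fin r, 1 ≤ (n : ℕ) → (n : ℕ) ≤ j + 1 → (L.T ζ).Van n x := fun x h1 h2 n hn1 hn2 => by
      rcases Nat.lt_or_ge (n : ℕ) (j + 1) with hlt | hge
      · exact h1 n hn1 (by omega)
      · rwa [show n = m from Fin.ext (le_antisymm hn2 hge)]
    by_cases hvz : (L.T ζ).Van m z
    · exact ih (j + 1) (by omega) (by omega) z hz hdz (hvm z hv hvz)
    let W : Finset (Var m) := Finset.univ.filter fun n => 1 ≤ (n.1 : ℕ) ∧ (n.1 : ℕ) ≤ j
    have hWc : W.card ≤ j := by
      refine (Finset.card_le_card_of_injOn (fun n => (n.1 : ℕ) - 1) (fun n hn => ?_) fun a ha b hb e => ?_).trans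
        (Finset.card_range j).le
      · have := (Finset.mem_filter.1 hn).2
        simp only [Finset.coe_range, Set.mem_Iio]
        omega
      · have ha' := (Finset.mem_filter.1 (Finset.mem_coe.1 ha)).2
        have hb' := (Finset.mem_filter.1 (Finset.mem_coe.1 hb)).2
        exact Subtype.ext (Fin.ext (by simp only at e; omega))
    obtain ⟨ι, hι, w, g, c, hw, hR⟩ := (L.T ζ).stratum_kill (L.mem ζ) hXs hd hδ m W hz hvz
      (fun n hn => hv n.1 (Finset.mem_filter.1 hn).2.1 (Finset.mem_filter.1 hn).2.2) (by omega)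
    choose D hD using fun l => exists_single_divFun hd (w l) (hw l).2.2.1
    let Rf : P → ℤ := fun x => pointFun z x - ∑ l, c l * Cyc.divFun δP (w l) (g l) x
    let S : Finset P := (insert z (Finset.univ.biUnion fun l => (finite_fibre_support p (D l) ζ).toFinset)).filter
      fun x => p x = ζ ∧ Rf x ≠ 0
    have hS : ∀ x, p x = ζ → Rf x ≠ 0 → x ∈ S := fun x hx hne => by
      refine Finset.mem_filter.2 ⟨?_, hx, hne⟩
      by_contra hn
      rw [Finset.mem_insert, not_or, Finset.mem_biUnion] at hn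
      push Not at hn
      refine hne ?_
      simp only [Rf, pointFun, if_neg hn.1, zero_sub, neg_eq_zero]
      refine Finset.sum_eq_zero fun l _ => mul_eq_zero_of_right _ ?_
      by_contra hl
      exact hn.2 l (Finset.mem_univ l) ((Set.Finite.mem_toFinset _).2 ⟨hx, by rw [hD]; exact hl⟩)
    have hrec : ∀ x : S, ∃ μ : ℤ, KilledIn Q p δP (δP z) ζ fun y => pointFun x.1 y - μ * pointFun (L.lin hr i ζ) y :=
      fun x => by
      obtain ⟨hx, hne⟩ := (Finset.mem_filter.1 x.2).2
      obtain ⟨h1, h2, h3⟩ := hR x.1 hx hne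
      have hvx : ∀ n : Fin r, 1 ≤ (n : ℕ) → (n : ℕ) ≤ j → (L.T ζ).Van n x.1 := fun n hn1 hn2 => by
        have hnm : n ≠ m := fun e => by rw [e] at hn2; simp [m] at hn2
        exact h3 ⟨n, hnm⟩ (Finset.mem_filter.2 ⟨Finset.mem_univ _, hn1, hn2⟩)
      obtain ⟨μ, hμ⟩ := ih (j + 1) (by omega) (by omega) x.1 hx (h1.trans hdz) (hvm x.1 hvx h2)
      exact ⟨μ, h1 ▸ hμ⟩
    choose μ hμ using hrec
    refine ⟨∑ x : S, Rf x.1 * μ x, ?_⟩
    have hk1 : KilledIn Q p δP (δP z) ζ fun x => ∑ l, c l * Cyc.divFun δP (w l) (g l) x :=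
      ⟨ι, hι, w, g, c, fun l => ⟨(hw l).1, (hw l).2.1, (hw l).2.2.1, hQ _ (hw l).1 fun n hn1 hn2 =>
        (hw l).2.2.2 ⟨n, fun e => by rw [e] at hn2; simp [m] at hn2; omega⟩
          (Finset.mem_filter.2 ⟨Finset.mem_univ _, hn1, hn2.trans hi₀⟩)⟩, fun x _ => rfl⟩
    have hk2 : KilledIn Q p δP (δP z) ζ fun y => ∑ x : S, Rf x.1 * (pointFun x.1 y - μ x * pointFun (L.lin hr i ζ) y) :=
      killedIn_sum Finset.univ _ fun x _ => (hμ x).smul (Rf x.1)
    refine (hk1.add hk2).congr fun y hy => ?_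
    have e : ∑ x : S, Rf x.1 * pointFun x.1 y = Rf y := by
      rw [Finset.sum_coe_sort S fun x => Rf x * pointFun x y]
      by_cases h0 : Rf y = 0
      · rw [h0]
        refine Finset.sum_eq_zero fun x _ => ?_
        rw [pointFun]
        split_ifs with h
        · rw [← h, h0, zero_mul]
        · rw [mul_zero]
      · rw [Finset.sum_eq_single_of_mem y (hS y hy h0) fun x _ hx => by
          rw [pointFun, if_neg (Ne.symm hx), mul_zero]]
        simp [pointFun]
    rw [Finset.sum_mul]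
    simp only [mul_sub, Finset.sum_sub_distrib, e, Rf, ← mul_assoc]
    abel

include hXs hd hδ in
/-- A point of a fibre is a multiple of a coordinate subspace, modulo divisors on the fibre. -/
theorem Cov.kill_point (Q : P → Prop) (i₀ i : ℕ) (hi : i + 1 ≤ r) (hi₀ : i₀ ≤ i)
    (hQ : ∀ x, Q x ↔ ∀ n : Fin r, 1 ≤ (n : ℕ) → (n : ℕ) ≤ i₀ → (L.T (p x)).Van n x)
    {z : P} (hdz : δP z = δ (p z) + ((r : ℤ) - 1) - i) (hz : Q z) :
    ∃ μ : ℤ, KilledIn Q p δP (δP z) (p z) fun x => pointFun z x - μ * pointFun (L.lin hr i (p z)) x :=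
  L.kill_point_aux hr hXs hd hδ Q i₀ i hi (p z) (fun x hx h => (hQ x).2 (by rw [hx]; exact h))
    (i - i₀) i₀ (by omega) le_rfl z rfl hdz ((hQ z).1 hz)

end Groth.Agent.CycLib.ProjBdl
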