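import Groth.Agent.CycLib.ProjBdl.Inj
import Groth.Agent.CycLib.ProjBdl.Kills

/-!
The projective bundle formula spans.
-/

set_option autoImplicit false
set_option linter.style.haveILetI false
set_option maxHeartbeats 800000

universe u

open CategoryTheory CategoryTheory.Limits AlgebraicGeometry TopologicalSpace Opposite MvPolynomial IsLocalRing

noncomputable section

namespace Groth.Agent.CycLib.ProjBdl

open Groth.Agent.CycLib.Dev

variable {X P : Scheme.{u}} {p : P ⟶ X} {O1 : P.Modules} {r : ℕ}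

theorem pullFun_zero {δ : X → ℤ} {δP : P → ℤ} (n : ℤ) :
    Cyc.pullFun p δP δ n ⇑(0 : AlgebraicCycle X ℤ) = 0 := by
  funext x
  simp [Cyc.pullFun]

theorem iter_zero {δP : P → ℤ} (t : ℕ → (ξ : P) → Cyc.secFibre O1 ξ) (n : ℕ) : Cov.iter δP 0 t n = 0 := by
  induction n with
  | zero => rfl
  | succ n ih =>
    simp only [Cov.iter, ih]
    exact c1_zero _

theorem Cov.delta_le (L : Cov p O1 r) {δ : X → ℤ} {δP : P → ℤ} (hδ : Cyc.DeltaCompat p δP δ) (x : P) :
    δP x ≤ δ (p x) + ((r : ℤ) - 1) := by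
  obtain ⟨m, q, hq⟩ := (L.T (p x)).cover x (L.mem _)
  have h := (L.T (p x)).delta_le hδ m q
  rwa [hq] at h

variable (L : Cov p O1 r) (hr : 1 ≤ r) {δ : X → ℤ} {δP : P → ℤ} (hXs : Cyc.IsSetup X δ) (hd : Cyc.IsDimFun P δP)
  (hδ : Cyc.DeltaCompat p δP δ) [IsLocallyNoetherian P] [IsProper p] (hinv : PicF.IsInvertible O1) (k : ℤ)
  (t : Fin r → ℕ → (ξ : P) → Cyc.secFibre O1 ξ) (ht : ∀ i m ξ, t i m ξ ≠ 0)

/-- `φ` is a combination of twisted pullbacks of levels below `j`. -/
def Spanned (δ : X → ℤ) (p : P ⟶ X) {δP : P → ℤ} (hd : Cyc.IsDimFun P δP) (k : ℤ)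
    (t : Fin r → ℕ → (ξ : P) → Cyc.secFibre O1 ξ) (j : ℕ) (φ : P → ℤ) : Prop :=
  ∃ α : Fin r → AlgebraicCycle X ℤ, (∀ i : Fin r, α i ∈ Cyc.Zk X δ (k + ((i : ℕ) : ℤ))) ∧
    (∀ i : Fin r, j ≤ (i : ℕ) → α i = 0) ∧
    φ - ∑ i : Fin r, Cov.iter δP (Cyc.pullFun p δP δ ((r : ℤ) - 1) ⇑(α i)) (t i) (i : ℕ) ∈ prin hd (k + (r : ℤ) - 1)

omit [IsLocallyNoetherian P] [IsProper p] in
include L hd hδ in
/-- A point where enough coordinates vanish has small dimension over its image. -/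
theorem Cov.delta_le_of_van {i₀ : ℕ} (hi₀ : i₀ + 1 ≤ r) {x : P}
    (h : ∀ n : Fin r, 1 ≤ (n : ℕ) → (n : ℕ) ≤ i₀ → (L.T (p x)).Van n x) :
    δP x ≤ δ (p x) + ((r : ℤ) - 1) - i₀ := by
  classical
  let f : Fin i₀ → Fin r := fun n => ⟨n + 1, by omega⟩
  have hc : (Finset.univ.image f).card = i₀ := by
    rw [Finset.card_image_of_injective _ fun a b e => Fin.ext (by simpa [f] using congrArg Fin.val e)]
    simp
  have := (L.T (p x)).delta_le_van (L.mem _) hd hδ (Finset.univ.image f) rfl fun n hn => by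
    obtain ⟨a, -, rfl⟩ := Finset.mem_image.1 hn
    exact h _ (by simp [f]) (by simp [f])
  omega

variable (Q : P → Prop) (i₀ : ℕ) (hi₀r : i₀ + 1 ≤ r) (hQc : ∀ a b : P, a ⤳ b → Q a → Q b)
  (hQ : ∀ x, Q x ↔ ∀ n : Fin r, 1 ≤ (n : ℕ) → (n : ℕ) ≤ i₀ → (L.T (p x)).Van n x)
  (hQi : ∀ j : ℕ, i₀ ≤ j → j + 1 ≤ r → ∀ (α : AlgebraicCycle X ℤ) (m : ℤ), α ∈ Cyc.Zk X δ m →
    ∀ t₀ : ℕ → (ξ : P) → Cyc.secFibre O1 ξ, (∀ n ξ, t₀ n ξ ≠ 0) →
      ∀ x, Cov.iter δP (L.linFun hr 0 ⇑α) (L.sec' hr t₀) j x ≠ 0 → Q x)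

include L hr hXs hd hδ hinv ht hi₀r hQc hQ hQi in
/-- Cycles with property `Q` are combinations of levels at least `i₀`. -/
theorem Cov.spannedIn : ∀ (j : ℕ), j ≤ r → ∀ φ : P → ℤ, IsCyc δP (k + (r : ℤ) - 1) φ →
    (∀ x, φ x ≠ 0 → δ (p x) < k + j) → (∀ x, φ x ≠ 0 → Q x) →
    ∃ α : Fin r → AlgebraicCycle X ℤ, (∀ i : Fin r, α i ∈ Cyc.Zk X δ (k + ((i : ℕ) : ℤ))) ∧
      (∀ i : Fin r, (j ≤ (i : ℕ) ∨ (i : ℕ) < i₀) → α i = 0) ∧
      φ - ∑ i : Fin r, Cov.iter δP (Cyc.pullFun p δP δ ((r : ℤ) - 1) ⇑(α i)) (t i) (i : ℕ) ∈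
        prin hd (k + (r : ℤ) - 1) := by
  classical
  have hzero : ∀ j : ℕ, j ≤ i₀ → ∀ φ : P → ℤ, IsCyc δP (k + (r : ℤ) - 1) φ →
      (∀ x, φ x ≠ 0 → δ (p x) < k + j) → (∀ x, φ x ≠ 0 → Q x) → φ = 0 := fun j hj φ hφ hlow hφQ => funext fun x => by
    by_contra hx
    have h1 := hlow x hx
    have h2 : δP x = k + (r : ℤ) - 1 := by
      by_contra hn
      exact hx (hφ.zero x hn)
    have := L.delta_le_of_van hd hδ hi₀r ((hQ x).1 (hφQ x hx))
    omega
  intro j
  induction j with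
  | zero =>
    intro _ φ hφ hlow hφQ
    refine ⟨fun _ => 0, fun i => fun _ _ => rfl, fun i _ => rfl, ?_⟩
    rw [hzero 0 (Nat.zero_le _) φ hφ hlow hφQ, Finset.sum_eq_zero fun i _ => by rw [pullFun_zero, iter_zero], sub_zero]
    exact zero_mem _
  | succ j ih =>
    intro hj φ hφ hlow hφQ
    by_cases hji : j < i₀
    · refine ⟨fun _ => 0, fun i => fun _ _ => rfl, fun i _ => rfl, ?_⟩
      rw [hzero (j + 1) hji φ hφ hlow hφQ, Finset.sum_eq_zero fun i _ => by rw [pullFun_zero, iter_zero], sub_zero]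
      exact zero_mem _
    rw [not_lt] at hji
    have hjr : j + 1 ≤ r := hj
    obtain ⟨Φ, -, hΦ⟩ := hφ.exists_cycle
    let J : Type u := {z : P // φ z ≠ 0 ∧ δ (p z) = k + j}
    have hJd : ∀ z : J, δP z.1 = δ (p z.1) + ((r : ℤ) - 1) - j := fun z => by
      have h2 : δP z.1 = k + (r : ℤ) - 1 := by
        by_contra hn
        exact z.2.1 (hφ.zero _ hn)
      have := z.2.2
      omega
    choose μ hμ using fun z : J => L.kill_point hr hXs hd hδ Q i₀ j hjr hji hQ (hJd z) (hφQ _ z.2.1)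
    choose ι hι w g c hw hval using hμ
    -- the multiples of the coordinate subspaces
    let a : AlgebraicCycle P ℤ := ⟨fun z => if h : φ z ≠ 0 ∧ δ (p z) = k + j then φ z * μ ⟨z, h⟩ else 0,
      fun _ _ => trivial, fun z _ => by
        obtain ⟨s, hs, hfin⟩ := Φ.locallyFiniteSupport z
        refine ⟨s, hs, hfin.subset fun x hx => ⟨hx.1, ?_⟩⟩
        have h2 := hx.2
        rw [Function.mem_support] at h2 ⊢
        split_ifs at h2 with h
        · show Φ x ≠ 0
          rw [hΦ]; exact h.1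
        · exact absurd rfl h2⟩
    let α : AlgebraicCycle X ℤ := Function.locallyFinsupp.map p (fun _ => (1 : ℤ)) p.isSpectralMap a
    have hαy : ∀ y, α y = ∑ᶠ x ∈ ⇑p ⁻¹' {y}, a x * 1 := fun y => rfl
    have hαk : α ∈ Cyc.Zk X δ (k + j) := fun y hy => by
      rw [hαy]
      refine finsum_mem_eq_zero_of_forall_eq_zero fun x hx => ?_
      show (if h : _ then _ else (0 : ℤ)) * 1 = 0
      rw [dif_neg fun h => hy (by rw [← show p x = y from hx]; exact h.2), zero_mul]
    -- the divisors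
    let I : Type u := Σ z : J, ι z
    let W : I → P := fun l => w l.1 l.2
    let G : (l : I) → P.residueField (W l) := fun l => g l.1 l.2 ^ (φ l.1.1 * c l.1 l.2)
    have hWd : ∀ l, δP (W l) = k + (r : ℤ) - 1 + 1 := fun l => by
      rw [(hw l.1 l.2).2.1, hJd, l.1.2.2]
      ring
    have hG : ∀ l, G l ≠ 0 := fun l => zpow_ne_zero _ (hw l.1 l.2).2.2.1
    have hfinJ : ∀ V : X.Opens, IsAffineOpen V → {z : J | p z.1 ∈ V}.Finite := fun V hV => by
      refine ((Φ.locallyFiniteSupport.finite_inter_support_of_isCompact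
        (p.isCompact_preimage hV.isCompact)).preimage Subtype.val_injective.injOn).subset fun z hz => ?_
      exact ⟨hz, show Φ z.1 ≠ 0 by rw [hΦ]; exact z.2.1⟩
    have hlf : ∀ x : P, ∃ V : Set P, IsOpen V ∧ x ∈ V ∧ {l | (closure {W l} ∩ V).Nonempty}.Finite := fun x => by
      obtain ⟨V, hV, hxV, -⟩ := exists_isAffineOpen_mem_and_subset (x := p x) (U := ⊤) trivial
      refine ⟨p ⁻¹ᵁ V, (p ⁻¹ᵁ V).2, hxV,
        ((hfinJ V hV).biUnion fun z _ => Set.finite_range fun e : ι z => (⟨z, e⟩ : I)).subset ?_⟩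
      rintro ⟨z, e⟩ ⟨b, hb, hbV⟩
      have hwV : p (w z e) ∈ V := (specializes_iff_mem_closure.2 hb).mem_open (p ⁻¹ᵁ V).2 hbV
      rw [(hw z e).1] at hwV
      exact Set.mem_biUnion hwV ⟨e, rfl⟩
    obtain ⟨D, hD⟩ := exists_cycle_finsum_divFun hd W G hG hlf
    have hDp : ⇑D ∈ prin hd (k + (r : ℤ) - 1) := ⟨I, W, G, hWd, hG, hlf, hD⟩
    have hDc : IsCyc δP (k + (r : ℤ) - 1) ⇑D := IsCyc.of_cycle D fun x hx => by
      rw [hD]
      refine finsum_eq_zero_of_forall_eq_zero fun l => ?_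
      rw [Cyc.divFun, dif_neg fun h => hx (by have := hWd l; omega)]
    have hDne : ∀ x, D x ≠ 0 → δ (p x) ≤ k + j := fun x hx => by
      obtain ⟨l, hl⟩ : ∃ l, Cyc.divFun δP (W l) (G l) x ≠ 0 := by
        by_contra hn
        push Not at hn
        exact hx (by rw [hD]; exact finsum_eq_zero_of_forall_eq_zero hn)
      have hsp : W l ⤳ x := by
        by_contra hn
        exact hl (dif_neg fun h => hn h.1)
      have h := le_of_specializes hXs.2.2 (hsp.map p.continuous)
      rw [(hw l.1 l.2).1, l.1.2.2] at h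
      exact h
    have hDeq : ∀ x, δ (p x) = k + j → D x = φ x - α (p x) * pointFun (L.lin hr j (p x)) x := fun x hx => by
      let Jy : Finset J := ((finite_fibre_support p Φ (p x)).preimage
        (f := (Subtype.val : J → P)) Subtype.val_injective.injOn).toFinset
      have hJy : ∀ z : J, z ∈ Jy ↔ p z.1 = p x := fun z => by
        rw [Set.Finite.mem_toFinset]
        exact ⟨fun h => h.1, fun h => ⟨h, show Φ z.1 ≠ 0 by rw [hΦ]; exact z.2.1⟩⟩
      have hsupp : ∀ l : I, Cyc.divFun δP (W l) (G l) x ≠ 0 → l ∈ Jy.sigma fun z => @Finset.univ _ (hι z) := fun l hl => by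
        refine Finset.mem_sigma.2 ⟨(hJy l.1).2 ?_, @Finset.mem_univ _ (hι l.1) _⟩
        have hsp : W l ⤳ x := by
          by_contra hn
          exact hl (dif_neg fun h => hn h.1)
        have h : p (W l) = p x := eq_of_specializes hXs.2.2 (hsp.map p.continuous)
          (by rw [(hw l.1 l.2).1, l.1.2.2, hx])
        rw [← h, (hw l.1 l.2).1]
      rw [hD, finsum_eq_sum_of_support_subset _ hsupp, Finset.sum_sigma]
      have hterm : ∀ z ∈ Jy, (∑ e ∈ @Finset.univ _ (hι z), Cyc.divFun δP (W ⟨z, e⟩) (G ⟨z, e⟩) x) =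
          φ z.1 * pointFun z.1 x - φ z.1 * μ z * pointFun (L.lin hr j (p x)) x := fun z hz => by
        letI := hι z
        have e1 : ∀ e, Cyc.divFun δP (W ⟨z, e⟩) (G ⟨z, e⟩) x = φ z.1 * (c z e * Cyc.divFun δP (w z e) (g z e) x) := fun e => by
          rw [divFun_zpow hd (hw z e).2.2.1, mul_assoc]
        rw [Finset.sum_congr rfl fun e _ => e1 e, ← Finset.mul_sum, ← hval z x ((hJy z).1 hz).symm, (hJy z).1 hz]
        ring
      rw [Finset.sum_congr rfl hterm, Finset.sum_sub_distrib, ← Finset.sum_mul]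
      congr 1
      · by_cases h0 : φ x = 0
        · rw [h0]
          refine Finset.sum_eq_zero fun z _ => ?_
          rw [pointFun, if_neg (fun e : x = z.1 => z.2.1 (e ▸ h0)), mul_zero]
        · rw [Finset.sum_eq_single_of_mem (⟨x, h0, hx⟩ : J) ((hJy _).2 rfl) fun z _ hz => by
            rw [pointFun, if_neg (fun e : x = z.1 => hz (Subtype.ext e.symm)), mul_zero]]
          simp [pointFun]
      · congr 1
        rw [hαy, finsum_mem_eq_sum_of_inter_support_eq _ (t := Jy.map (Function.Embedding.subtype _)) ?_,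
          Finset.sum_map]
        · refine Finset.sum_congr rfl fun z _ => ?_
          show φ z.1 * μ z = (if h : φ z.1 ≠ 0 ∧ δ (p z.1) = k + j then φ z.1 * μ ⟨z.1, h⟩ else 0) * 1
          rw [dif_pos z.2, mul_one]
        · ext z
          simp only [Set.mem_inter_iff, Finset.coe_map, Set.mem_image, Set.mem_preimage, Set.mem_singleton_iff,
            Function.mem_support, Finset.mem_coe]
          refine ⟨fun ⟨h1, h2⟩ => ?_, fun ⟨⟨z', hz', e⟩, h2⟩ => ⟨?_, h2⟩⟩
          · have h3 : φ z ≠ 0 ∧ δ (p z) = k + j := by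
              by_contra hn
              exact h2 (by show (if h : _ then _ else (0 : ℤ)) * 1 = 0; rw [dif_neg hn, zero_mul])
            exact ⟨⟨⟨z, h3⟩, (hJy _).2 h1, rfl⟩, h2⟩
          · rw [← e]
            exact (hJy z').1 hz'
    -- the remainder
    let jj : Fin r := ⟨j, by omega⟩
    let t0 := t jj
    have ht0 : ∀ m ξ, t0 m ξ ≠ 0 := ht jj
    obtain ⟨hc0, hA, hB⟩ := L.iter_spec hr hd hδ α hαk hinv hXs.2.2 t0 ht0 j hjr
    let It := Cov.iter δP (L.linFun hr 0 ⇑α) (L.sec' hr t0) j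
    have hIt : IsCyc δP (k + (r : ℤ) - 1) It := by
      convert hc0 using 1
      ring
    let ψ : P → ℤ := φ - ⇑D - It
    have hψc : IsCyc δP (k + (r : ℤ) - 1) ψ := by
      refine ⟨fun V hV => (((hφ.finite V hV).union (hDc.finite V hV)).union (hIt.finite V hV)).subset fun x hx => ?_,
        fun x hx => by simp [ψ, hφ.zero x hx, hDc.zero x hx, hIt.zero x hx]⟩
      by_contra hne
      simp only [Set.mem_union, Set.mem_inter_iff, Function.mem_support, not_or, not_and, not_not] at hne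
      exact hx.2 (by simp [ψ, hne.1.1 hx.1, hne.1.2 hx.1, hne.2 hx.1])
    have hψlow : ∀ x, ψ x ≠ 0 → δ (p x) < k + j := fun x hx => by
      by_contra hge
      refine hx ?_
      rcases (not_lt.1 hge).lt_or_eq with hlt | heq
      · have h1 : φ x = 0 := by
          by_contra hn
          have := hlow x hn
          push_cast at this
          omega
        have h2 : D x = 0 := by
          by_contra hn
          have := hDne x hn
          omega
        have h3 : It x = 0 := by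
          by_contra hn
          have := hA x hn
          omega
        simp [ψ, h1, h2, h3]
      · simp only [ψ, Pi.sub_apply]
        rw [show It x = _ from hB x heq.symm, hDeq x heq.symm, Cov.linFun, pointFun]
        split_ifs <;> simp
    have hψQ : ∀ x, ψ x ≠ 0 → Q x := fun x hx => by
      by_contra hnQ
      refine hx ?_
      have h1 : φ x = 0 := not_not.1 (mt (hφQ x) hnQ)
      have h2 : D x = 0 := by
        rw [hD]
        refine finsum_eq_zero_of_forall_eq_zero fun l => ?_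
        by_contra hl
        refine hnQ (hQc (W l) x ?_ (hw l.1 l.2).2.2.2)
        by_contra hn
        exact hl (dif_neg fun h => hn h.1)
      have h3 : It x = 0 := not_not.1 (mt (hQi j hji hjr α (k + j) hαk t0 ht0 x) hnQ)
      simp [ψ, h1, h2, h3]
    obtain ⟨A, hAk, hA0, hAp⟩ := ih (by omega) ψ hψc hψlow hψQ
    let f : Fin r → AlgebraicCycle X ℤ → P → ℤ := fun i β' =>
      Cov.iter δP (Cyc.pullFun p δP δ ((r : ℤ) - 1) ⇑β') (t i) (i : ℕ)
    refine ⟨Function.update A jj α, fun i => ?_, fun i hi => ?_, ?_⟩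
    · by_cases h : i = jj
      · subst h
        rw [Function.update_self]
        exact hαk
      · rw [Function.update_of_ne h]
        exact hAk i
    · rw [Function.update_of_ne (by intro e; rw [e] at hi; simp [jj] at hi; omega)]
      exact hA0 i (hi.imp (fun h => by omega) id)
    · have hsum : ∑ i, f i (Function.update A jj α i) = ∑ i, f i (A i) + f jj α := by
        rw [← Finset.add_sum_erase _ (fun i => f i (Function.update A jj α i)) (Finset.mem_univ jj),
          ← Finset.add_sum_erase _ (fun i => f i (A i)) (Finset.mem_univ jj), Function.update_self,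
          hA0 jj (Or.inl le_rfl)]
        have hz : f jj 0 = 0 := by
          simp only [f]
          rw [pullFun_zero, iter_zero]
        rw [hz, zero_add, add_comm]
        congr 1
        exact Finset.sum_congr rfl fun i hi => by rw [Function.update_of_ne (Finset.ne_of_mem_erase hi)]
      have hsub : f jj α - It ∈ prin hd (k + (r : ℤ) - 1) := by
        have h := L.iter_sub_mem hr hd hδ α hαk hinv hXs.2.2 t0 ht0 j hjr
        rw [show k + (j : ℤ) + (r : ℤ) - 1 - j = k + (r : ℤ) - 1 by ring] at h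
        exact h
      show φ - ∑ i, f i (Function.update A jj α i) ∈ _
      rw [hsum, show φ - (∑ i, f i (A i) + f jj α) = (ψ - ∑ i, f i (A i)) + ⇑D - (f jj α - It) by
        simp only [ψ]; abel]
      exact sub_mem (add_mem hAp hDp) hsub

include L hr hXs hd hδ hinv ht in
theorem Cov.spanned (j : ℕ) (hj : j ≤ r) (φ : P → ℤ) (hφ : IsCyc δP (k + (r : ℤ) - 1) φ)
    (hlow : ∀ x, φ x ≠ 0 → δ (p x) < k + j) : Spanned δ p hd k t j φ := by
  obtain ⟨α, h1, h2, h3⟩ := L.spannedIn hr hXs hd hδ hinv k t ht (fun _ => True) 0 (by omega)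
    (fun _ _ _ _ => trivial) (fun x => iff_of_true trivial fun n h1 h2 => absurd (h1.trans h2) (by omega))
    (fun _ _ _ _ _ _ _ _ _ _ => trivial) j hj φ hφ hlow fun _ _ => trivial
  exact ⟨α, h1, fun i hi => h2 i (Or.inl hi), h3⟩

include L hr hXs hd hδ hinv ht in
/-- The projective bundle formula spans. -/
theorem Cov.span (β : AlgebraicCycle P ℤ) (hβ : β ∈ Cyc.Zk P δP (k + r - 1)) :
    ∃ (α : Fin r → AlgebraicCycle X ℤ) (γ : Fin r → ℕ → P → ℤ) (β' : AlgebraicCycle P ℤ),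
      (∀ i : Fin r, α i ∈ Cyc.Zk X δ (k + ((i : ℕ) : ℤ))) ∧
      (∀ i : Fin r, γ i 0 = Cyc.pullFun p δP δ ((r : ℤ) - 1) ⇑(α i)) ∧
      (∀ (i : Fin r) (m : ℕ), γ i (m + 1) = Cyc.c1CapFun δP O1 (γ i m) (t i m)) ∧
      (∀ x, β' x = ∑ i : Fin r, γ i (i : ℕ) x) ∧ Cyc.RatEquiv δP (k + r - 1) β β' := by
  obtain ⟨α, hα, -, hp⟩ := L.spanned hr hXs hd hδ hinv k t ht r le_rfl ⇑β (IsCyc.of_cycle β hβ) fun x hx => by
    obtain ⟨n, -, hn⟩ := hδ x
    have h2 : δP x = k + (r : ℤ) - 1 := by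
      by_contra hne
      exact hx (hβ x hne)
    omega
  let γ : Fin r → ℕ → P → ℤ := fun i => Cov.iter δP (Cyc.pullFun p δP δ ((r : ℤ) - 1) ⇑(α i)) (t i)
  have hterm : ∀ i : Fin r, IsCyc δP (k + (r : ℤ) - 1) (γ i i) := fun i => by
    convert L.isCyc_iter hr hd hδ (α i) (hα i) hinv (t i) (ht i) i using 1
    ring
  obtain ⟨β', -, hβ'⟩ := (isCyc_sum Finset.univ fun i _ => hterm i).exists_cycle
  refine ⟨α, γ, β', hα, fun i => rfl, fun i m => rfl, fun x => by rw [hβ', Finset.sum_apply], ?_⟩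
  rw [← hβ'] at hp
  exact hp

end Groth.Agent.CycLib.ProjBdl
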