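import Groth.Agent.CycLib.ProjBdl.Chern
import Groth.Agent.CycLib.ProjBdl.Span
import Groth.Agent.CycLib.DevC1Comm

/-!
The defining relation of Chern class caps modulo principal cycles; existence of caps.
-/

set_option autoImplicit false
set_option linter.style.haveILetI false
set_option maxHeartbeats 800000

universe u

open CategoryTheory Limits AlgebraicGeometry

namespace Groth.Agent.CycLib.ProjBdl

open Groth.Agent.CycLib.Dev

variable {X P : Scheme.{u}} {p : P ⟶ X} {O1 : P.Modules}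

theorem isCyc_zsmul {δP : P → ℤ} {m : ℤ} {a : P → ℤ} (c : ℤ) (ha : IsCyc δP m a) : IsCyc δP m (c • a) :=
  ⟨fun V hV => (ha.finite V hV).subset fun x hx => ⟨hx.1, fun h0 => hx.2 (by
    show c * a x = 0; rw [h0, mul_zero])⟩,
   fun x hx => by show c * a x = 0; rw [ha.zero x hx, mul_zero]⟩

/-- Iterated caps do not depend on the chosen sections modulo principal cycles. -/
theorem iter_change [IsLocallyNoetherian P] {δP : P → ℤ} (hd : Cyc.IsDimFun P δP)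
    (hinv : PicF.IsInvertible O1) {m : ℤ} {a b : P → ℤ} (ha : IsCyc δP m a) (hb : IsCyc δP m b)
    (hab : a - b ∈ prin hd m) (t t' : ℕ → (ξ : P) → Cyc.secFibre O1 ξ) (ht : ∀ i ξ, t i ξ ≠ 0)
    (ht' : ∀ i ξ, t' i ξ ≠ 0) (n : ℕ) :
    Cov.iter δP a t n - Cov.iter δP b t' n ∈ prin hd (m - n) := by
  induction n with
  | zero => simpa [Cov.iter] using hab
  | succ n ih =>
    have hm : m - n = m - (n + 1 : ℕ) + 1 := by push_cast; ring
    have hca := isCyc_iterate hd hinv ha t ht n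
    have hcb := isCyc_iterate hd hinv hb t' ht' n
    rw [hm] at ih hca hcb
    have h1 := c1_mem_of_ratEquivZero hd hinv (hca.sub hcb) ih (t n) (ht n)
    rw [c1_sub hca hcb] at h1
    have h2 := c1_sub_mem hd hinv hcb (t n) (t' n) (ht n) (ht' n)
    simpa only [Cov.iter, sub_add_sub_cancel] using add_mem h1 h2

variable (δ : X → ℤ) (δP : P → ℤ) (r : ℕ)

/-- The left hand side of the defining relation. -/
noncomputable def relSum (p : P ⟶ X) (γ : Fin (r + 1) → AlgebraicCycle X ℤ)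
    (t : ℕ → (ξ : P) → Cyc.secFibre O1 ξ) : P → ℤ :=
  ∑ i : Fin (r + 1), (-1 : ℤ) ^ (i : ℕ) •
    Cov.iter δP (Cyc.pullFun p δP δ ((r : ℤ) - 1) ⇑(γ (Fin.rev i))) t i

variable {δ δP r} (L : Cov p O1 r) (hr : 1 ≤ r) (hPd : Cyc.IsDimFun P δP) (hδ : Cyc.DeltaCompat p δP δ)
  (hinv : PicF.IsInvertible O1) [IsLocallyNoetherian P] (k : ℤ) (γ : Fin (r + 1) → AlgebraicCycle X ℤ)
  (hγ : ∀ j : Fin (r + 1), γ j ∈ Cyc.Zk X δ (k - ((j : ℕ) : ℤ)))

include L hr hPd hδ hinv hγ in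
theorem Cov.isCyc_relTerm (t : ℕ → (ξ : P) → Cyc.secFibre O1 ξ) (ht : ∀ m ξ, t m ξ ≠ 0) (i : Fin (r + 1)) :
    IsCyc δP (k - 1) (Cov.iter δP (Cyc.pullFun p δP δ ((r : ℤ) - 1) ⇑(γ (Fin.rev i))) t i) := by
  have := L.isCyc_iter hr hPd hδ _ (hγ (Fin.rev i)) hinv t ht i
  convert this using 1
  rw [Fin.val_rev]
  have := i.2
  omega

include L hr hPd hδ hinv hγ in
theorem Cov.isCyc_relSum (t : ℕ → (ξ : P) → Cyc.secFibre O1 ξ) (ht : ∀ m ξ, t m ξ ≠ 0) :
    IsCyc δP (k - 1) (relSum δ δP r p γ t) :=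
  isCyc_sum Finset.univ fun i _ => isCyc_zsmul _ (L.isCyc_relTerm hr hPd hδ hinv k γ hγ t ht i)

include L hr hPd hδ hinv hγ in
theorem Cov.relSum_change (t t' : ℕ → (ξ : P) → Cyc.secFibre O1 ξ) (ht : ∀ m ξ, t m ξ ≠ 0)
    (ht' : ∀ m ξ, t' m ξ ≠ 0) : relSum δ δP r p γ t - relSum δ δP r p γ t' ∈ prin hPd (k - 1) := by
  rw [relSum, relSum, ← Finset.sum_sub_distrib]
  refine sum_mem fun i _ => ?_
  rw [← smul_sub]
  refine zsmul_mem ?_ _
  have hc := L.isCyc_pull hr hPd hδ (γ (Fin.rev i)) (hγ (Fin.rev i))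
  have h := iter_change hPd hinv hc hc (by rw [sub_self]; exact zero_mem _) t t' ht ht' i
  convert h using 2
  rw [Fin.val_rev]
  have := i.2
  omega

include L hr hPd hδ hinv hγ in
theorem Cov.isChernCap_iff (α : AlgebraicCycle X ℤ) (h0 : γ 0 = α)
    (t : ℕ → (ξ : P) → Cyc.secFibre O1 ξ) (ht : ∀ m ξ, t m ξ ≠ 0) :
    Cyc.IsChernCap p δ δP O1 r k α γ ↔ relSum δ δP r p γ t ∈ prin hPd (k - 1) := by
  have hsum : ∀ (t : ℕ → (ξ : P) → Cyc.secFibre O1 ξ) (y : P), relSum δ δP r p γ t y =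
      ∑ i : Fin (r + 1), (-1 : ℤ) ^ (i : ℕ) *
        Cyc.c1PowFun δP O1 t i (Cyc.pullFun p δP δ ((r : ℤ) - 1) ⇑(γ (Fin.rev i))) y := fun t y => by
    rw [relSum, Finset.sum_apply]
    refine Finset.sum_congr rfl fun i _ => ?_
    rw [c1PowFun_eq_iter]
    rfl
  constructor
  · intro h
    obtain ⟨b, -, hb⟩ := (L.isCyc_relSum hr hPd hδ hinv k γ hγ t ht).exists_cycle
    have h1 : Cyc.RatEquivZero δP (k - 1) b := h.2.2 t ht b fun y => by rw [hb, hsum]
    rw [← hb]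
    exact h1
  · intro h
    refine ⟨h0, hγ, fun t' ht' β hβ => ?_⟩
    have h1 := L.relSum_change hr hPd hδ hinv k γ hγ t' t ht' ht
    have h2 := add_mem h1 h
    rw [sub_add_cancel, show relSum δ δP r p γ t' = ⇑β from funext fun y => by rw [hsum, hβ]] at h2
    exact h2

include L hr hPd hδ hinv in
/-- Chern class caps exist. -/
theorem Cov.exists_chernCap [IsProper p] (hX : Cyc.IsSetup X δ) (α : AlgebraicCycle X ℤ) (hα : α ∈ Cyc.Zk X δ k) :
    ∃ γ : Fin (r + 1) → AlgebraicCycle X ℤ, Cyc.IsChernCap p δ δP O1 r k α γ := by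
  classical
  choose σ hσ using exists_isBas hinv
  let t : ℕ → (ξ : P) → Cyc.secFibre O1 ξ := fun _ ξ => Submodule.Quotient.mk (σ ξ)
  have ht : ∀ m ξ, t m ξ ≠ 0 := fun _ ξ => mk_ne_zero_of_isBas (hσ ξ)
  let φ : P → ℤ := Cov.iter δP (Cyc.pullFun p δP δ ((r : ℤ) - 1) ⇑α) t r
  have hφ : IsCyc δP (k - r + (r : ℤ) - 1) φ := by
    have := L.isCyc_iter hr hPd hδ α hα hinv t ht r
    convert this using 1
    ring
  obtain ⟨a, ha, -, hp⟩ := L.spanned hr hX hPd hδ hinv (k - r) (fun _ => t) (fun _ => ht) r le_rfl φ hφ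
    fun x hx => by
      obtain ⟨n, -, hn⟩ := hδ x
      have h2 : δP x = k - r + (r : ℤ) - 1 := by
        by_contra hne
        exact hx (hφ.zero x hne)
      omega
  let g : Fin (r + 1) → AlgebraicCycle X ℤ := fun i => if h : (i : ℕ) < r then
    (-((-1 : ℤ) ^ r * (-1 : ℤ) ^ (i : ℕ))) • a ⟨i, h⟩ else α
  let γ : Fin (r + 1) → AlgebraicCycle X ℤ := fun j => g (Fin.rev j)
  have h0 : γ 0 = α := by simp [γ, g]
  have hγ : ∀ j : Fin (r + 1), γ j ∈ Cyc.Zk X δ (k - ((j : ℕ) : ℤ)) := fun j x hx => by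
    simp only [γ, g]
    split_ifs with h
    · show _ * a _ x = 0
      rw [ha ⟨_, h⟩ x (fun e => hx (by rw [e, Fin.val_rev]; have := j.2; omega)), mul_zero]
    · refine hα x fun e => hx ?_
      rw [Fin.val_rev] at h
      rw [e]
      have := j.2
      omega
  refine ⟨γ, (L.isChernCap_iff hr hPd hδ hinv k γ hγ α h0 t ht).2 ?_⟩
  have hrev : ∀ i, γ (Fin.rev i) = g i := fun i => by simp [γ]
  rw [relSum, Fin.sum_univ_castSucc, hrev,
    show g (Fin.last r) = α by simp [g], Fin.val_last]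
  have hterm : ∀ i : Fin r, (-1 : ℤ) ^ ((i.castSucc : Fin (r + 1)) : ℕ) •
      Cov.iter δP (Cyc.pullFun p δP δ ((r : ℤ) - 1) ⇑(γ (Fin.rev i.castSucc))) t (i.castSucc : Fin (r + 1)) =
      (-(-1 : ℤ) ^ r) • Cov.iter δP (Cyc.pullFun p δP δ ((r : ℤ) - 1) ⇑(a i)) t i := fun i => by
    rw [hrev, show g i.castSucc = (-((-1 : ℤ) ^ r * (-1 : ℤ) ^ (i : ℕ))) • a i from
      dif_pos (show ((i.castSucc : Fin (r + 1)) : ℕ) < r from i.2)]
    rw [show Cyc.pullFun p δP δ ((r : ℤ) - 1) ⇑((-((-1 : ℤ) ^ r * (-1 : ℤ) ^ (i : ℕ))) • a i) =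
        (-((-1 : ℤ) ^ r * (-1 : ℤ) ^ (i : ℕ))) • Cyc.pullFun p δP δ ((r : ℤ) - 1) ⇑(a i) from funext fun x => by
      show Cyc.pullFun p δP δ _ _ x = _ * Cyc.pullFun p δP δ _ _ x
      simp only [Cyc.pullFun]
      split_ifs
      · show ((-((-1 : ℤ) ^ r * (-1 : ℤ) ^ (i : ℕ))) * a i (p x)) * _ = _
        rw [mul_assoc]
      · rw [mul_zero], iter_smul, smul_smul, Fin.val_castSucc]
    congr 1
    rw [mul_neg, mul_left_comm, ← mul_pow, neg_one_mul, neg_neg, one_pow, mul_one]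
  rw [Finset.sum_congr rfl (fun i _ => hterm i), ← Finset.smul_sum, neg_smul, neg_add_eq_sub, ← smul_sub]
  refine zsmul_mem ?_ _
  rw [show k - (1 : ℤ) = k - r + r - 1 by ring]
  exact hp

end Groth.Agent.CycLib.ProjBdl
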