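import Groth.Prelude.Def_RelProj2
import Mathlib.RingTheory.MvPolynomial.Homogeneous
import Mathlib.RingTheory.GradedAlgebra.HomogeneousLocalization
import Mathlib.Algebra.MvPolynomial.Eval

/-!
The degree zero part of a localization of a polynomial ring at a variable is a polynomial ring.
-/

set_option autoImplicit false
set_option linter.style.haveILetI false

universe u

open MvPolynomial HomogeneousLocalization

noncomputable section

namespace Groth.Agent.CycLib.ProjBdl

variable {A σ : Type u} [CommRing A] [SetLike σ A] [AddSubgroupClass σ A] {𝒜 : ℕ → σ} [GradedRing 𝒜]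
variable {R : Type u} [CommRing R] {r : ℕ}

/-- A presentation of a graded ring as a polynomial ring in degree one variables. -/
structure IsPoly (𝒜 : ℕ → σ) (s : R →+* A) (t : Fin r → A) : Prop where
  deg_s : ∀ c, s c ∈ 𝒜 0
  deg_t : ∀ n, t n ∈ 𝒜 1
  bij : Function.Bijective (eval₂Hom s t)

variable {s : R →+* A} {t : Fin r → A}

theorem IsPoly.eval_mem (h : IsPoly 𝒜 s t) {d : ℕ} {P : MvPolynomial (Fin r) R} (hP : P.IsHomogeneous d) :
    eval₂Hom s t P ∈ 𝒜 d := by
  rw [coe_eval₂Hom, eval₂_eq]
  refine sum_mem fun e he => ?_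
  have hd : ∑ i ∈ e.support, e i = d := by
    have := hP (mem_support_iff.1 he)
    simpa [Finsupp.weight_apply, Finsupp.sum] using this
  have hprod : ∏ i ∈ e.support, t i ^ e i ∈ 𝒜 (∑ i ∈ e.support, e i) :=
    SetLike.prod_mem_graded _ _ _ fun i _ => by
      simpa using SetLike.pow_mem_graded (e i) (h.deg_t i)
  rw [hd] at hprod
  simpa using SetLike.mul_mem_graded (h.deg_s _) hprod

theorem IsPoly.exists_eval_eq (h : IsPoly 𝒜 s t) {d : ℕ} {a : A} (ha : a ∈ 𝒜 d) :
    ∃ P : MvPolynomial (Fin r) R, P.IsHomogeneous d ∧ eval₂Hom s t P = a := by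
  classical
  obtain ⟨P, rfl⟩ := h.bij.2 a
  refine ⟨homogeneousComponent d P, homogeneousComponent_isHomogeneous d P, ?_⟩
  have hsum := congrArg (eval₂Hom s t) (sum_homogeneousComponent P)
  rw [map_sum] at hsum
  have hdec := congrArg (GradedRing.proj 𝒜 d) hsum
  rw [map_sum, Finset.sum_eq_single d] at hdec
  · rw [GradedRing.proj_apply, GradedRing.proj_apply, DirectSum.decompose_of_mem_same 𝒜 ha,
      DirectSum.decompose_of_mem_same 𝒜 (h.eval_mem (homogeneousComponent_isHomogeneous d P))] at hdec
    exact hdec
  · intro i _ hi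
    rw [GradedRing.proj_apply]
    exact DirectSum.decompose_of_mem_ne 𝒜 (h.eval_mem (homogeneousComponent_isHomogeneous i P)) hi
  · intro hd
    rw [homogeneousComponent_eq_zero d P (by simpa [Finset.mem_range] using hd), map_zero, map_zero]

theorem eval₂_mul_vars {S : Type u} [CommRing S] (f : R →+* S) (g : Fin r → S) (c : S) {d : ℕ}
    {P : MvPolynomial (Fin r) R} (hP : P.IsHomogeneous d) :
    eval₂ f (fun n => c * g n) P = c ^ d * eval₂ f g P := by
  rw [eval₂_eq, eval₂_eq, Finset.mul_sum]
  refine Finset.sum_congr rfl fun e he => ?_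
  have hd : ∑ i ∈ e.support, e i = d := by
    have := hP (mem_support_iff.1 he)
    simpa [Finsupp.weight_apply, Finsupp.sum] using this
  rw [Finset.prod_congr rfl fun i _ => mul_pow c (g i) (e i), Finset.prod_mul_distrib, Finset.prod_pow_eq_pow_sum, hd]
  ring

variable (h : IsPoly 𝒜 s t) (m : Fin r)

/-- The coordinate variables of the `m`-th chart. -/
abbrev Var {r : ℕ} (m : Fin r) : Type := {n : Fin r // n ≠ m}

/-- Dehomogenization. -/
def dehom : MvPolynomial (Fin r) R →+* MvPolynomial (Var m) R :=
  eval₂Hom C fun n => if hn : n = m then 1 else X ⟨n, hn⟩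

/-- The coordinate `t n / t m`. -/
def coord (n : Fin r) : Away 𝒜 (t m) :=
  Away.mk 𝒜 (h.deg_t m) 1 (t n) (by simpa using h.deg_t n)

/-- The denominator `t m`. -/
abbrev tden (t : Fin r → A) (m : Fin r) : Submonoid.powers (t m) := ⟨t m, ⟨1, pow_one _⟩⟩

/-- The constants. -/
def cst : R →+* Away 𝒜 (t m) :=
  (fromZeroRingHom 𝒜 (Submonoid.powers (t m))).comp
    { toFun := fun c => ⟨s c, h.deg_s c⟩
      map_one' := Subtype.ext (map_one s)
      map_mul' := fun a b => Subtype.ext (map_mul s a b)
      map_zero' := Subtype.ext (map_zero s)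
      map_add' := fun a b => Subtype.ext (map_add s a b) }

theorem val_cst (c : R) : (cst h m c).val = algebraMap A _ (s c) := by
  refine (val_mk _).trans ?_
  exact Localization.mk_one_eq_algebraMap _

theorem val_coord (n : Fin r) : (coord h m n).val = Localization.mk (t n) (tden t m) := by
  rw [coord, Away.val_mk]
  simp

/-- The chart ring map. -/
def chartMap : MvPolynomial (Var m) R →+* Away 𝒜 (t m) :=
  eval₂Hom (cst h m) fun n => coord h m n.1

@[simp] theorem chartMap_X (n : Var m) : chartMap h m (X n) = coord h m n.1 := eval₂Hom_X' _ _ _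

@[simp] theorem chartMap_C (c : R) : chartMap h m (C c) = cst h m c := eval₂Hom_C _ _ _

theorem val_chartMap_dehom {d : ℕ} {P : MvPolynomial (Fin r) R} (hP : P.IsHomogeneous d) :
    (chartMap h m (dehom m P)).val * algebraMap A (Localization (Submonoid.powers (t m))) (t m ^ d) =
      algebraMap A _ (eval₂Hom s t P) := by
  let g : Fin r → Localization (Submonoid.powers (t m)) := fun n => Localization.mk (t n) (tden t m)
  have h1 : (algebraMap (Away 𝒜 (t m)) (Localization (Submonoid.powers (t m)))).comp
      ((chartMap h m).comp (dehom m)) = eval₂Hom ((algebraMap A _).comp s) g := by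
    refine ringHom_ext (fun c => ?_) fun n => ?_
    · simp [dehom, HomogeneousLocalization.algebraMap_apply, val_cst]
    · rw [eval₂Hom_X', RingHom.comp_apply, RingHom.comp_apply, HomogeneousLocalization.algebraMap_apply, dehom,
        eval₂Hom_X']
      by_cases hn : n = m
      · subst hn
        rw [dif_pos rfl, map_one, HomogeneousLocalization.val_one]
        exact (Localization.mk_self (tden t n)).symm
      · rw [dif_neg hn, chartMap_X, val_coord]
  have h2 := RingHom.congr_fun h1 P
  rw [RingHom.comp_apply, RingHom.comp_apply, HomogeneousLocalization.algebraMap_apply, coe_eval₂Hom] at h2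
  rw [h2, mul_comm, map_pow, ← eval₂_mul_vars _ _ _ hP, coe_eval₂Hom]
  rw [eval₂_comp_left (algebraMap A (Localization (Submonoid.powers (t m))))]
  congr 1
  funext n
  simp only [g, Function.comp_apply, ← Localization.mk_one_eq_algebraMap, Localization.mk_mul]
  rw [Localization.mk_eq_mk_iff, Localization.r_iff_exists]
  exact ⟨1, by simp⟩

include h in
theorem chartMap_surjective : Function.Surjective (chartMap h m) := by
  intro z
  obtain ⟨d, a, ha, rfl⟩ := Away.mk_surjective 𝒜 (h.deg_t m) z
  obtain ⟨P, hP, hPa⟩ := h.exists_eval_eq (d := d) (a := a) (by simpa using ha)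
  refine ⟨dehom m P, HomogeneousLocalization.val_injective _ ?_⟩
  have hu : IsUnit (algebraMap A (Localization (Submonoid.powers (t m))) (t m ^ d)) :=
    IsLocalization.map_units (M := Submonoid.powers (t m)) _ ⟨t m ^ d, d, rfl⟩
  refine hu.mul_right_cancel ?_
  rw [val_chartMap_dehom h m hP, hPa, Away.val_mk, Localization.mk_eq_mk', IsLocalization.mk'_spec]

include h in
theorem chartMap_injective : Function.Injective (chartMap h m) := by
  let e := RingEquiv.ofBijective (eval₂Hom s t) h.bij
  let ψ : A →+* MvPolynomial (Var m) R := (dehom m).comp e.symm.toRingHom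
  have hψt : ∀ n, ψ (t n) = if hn : n = m then 1 else X ⟨n, hn⟩ := fun n => by
    have : e.symm (t n) = X n := e.symm_apply_eq.2 (by simp [e])
    simp [ψ, this, dehom]
  have hψs : ∀ c, ψ (s c) = C c := fun c => by
    have : e.symm (s c) = C c := e.symm_apply_eq.2 (by simp [e])
    simp [ψ, this, dehom]
  let L : Localization (Submonoid.powers (t m)) →+* MvPolynomial (Var m) R :=
    IsLocalization.Away.lift (t m) (g := ψ) (by rw [hψt, dif_pos rfl]; exact isUnit_one)
  have hid : L.comp ((algebraMap (Away 𝒜 (t m)) (Localization (Submonoid.powers (t m)))).comp (chartMap h m)) =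
      RingHom.id _ := by
    refine ringHom_ext (fun c => ?_) fun n => ?_
    · simp [L, HomogeneousLocalization.algebraMap_apply, val_cst, hψs]
    · have h1 : L (algebraMap A _ (t m)) = 1 := by simp [L, hψt]
      have h2 : L (algebraMap A _ (t n.1)) = X n := by simp [L, hψt, n.2]
      rw [RingHom.comp_apply, RingHom.comp_apply, HomogeneousLocalization.algebraMap_apply, chartMap_X, val_coord,
        RingHom.id_apply, ← h2]
      have e1 : Localization.mk (t n.1) (tden t m) *
          algebraMap A (Localization (Submonoid.powers (t m))) (t m) = algebraMap A _ (t n.1) := by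
        rw [Localization.mk_eq_mk']
        exact IsLocalization.mk'_spec (M := Submonoid.powers (t m)) _ _ _
      have := congrArg L e1
      rwa [map_mul, h1, mul_one] at this
  intro a b hab
  have := congrArg (fun z : Away 𝒜 (t m) => L (algebraMap _ _ z)) hab
  exact (RingHom.congr_fun hid a).symm.trans (this.trans (RingHom.congr_fun hid b))

/-- The chart ring is a polynomial ring. -/
def chartEquiv : MvPolynomial (Var m) R ≃+* Away 𝒜 (t m) :=
  RingEquiv.ofBijective (chartMap h m) ⟨chartMap_injective h m, chartMap_surjective h m⟩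

end Groth.Agent.CycLib.ProjBdl
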