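import Groth.Agent.CycLib.ProjBdl.Iterate
import Groth.Agent.CycLib.DevC1Comm
import Groth.Agent.CycLib.RatMap

/-!
Pushing forward iterated first Chern classes from a projective bundle.
-/

set_option autoImplicit false
set_option linter.style.haveILetI false
set_option maxHeartbeats 800000

universe u

open CategoryTheory CategoryTheory.Limits AlgebraicGeometry TopologicalSpace Opposite MvPolynomial IsLocalRing

noncomputable section

namespace Groth.Agent.CycLib.ProjBdl

open Groth.Agent.PullStalk.Sky Groth.Agent.CycLib.Dev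

variable {X P : Scheme.{u}} {p : P ⟶ X} {O1 : P.Modules} {r : ℕ}

/-- Charts at every point of the base. -/
structure Cov (p : P ⟶ X) (O1 : P.Modules) (r : ℕ) where
  U : X → X.Opens
  hU : ∀ ζ, IsAffineOpen (U ζ)
  mem : ∀ ζ, ζ ∈ U ζ
  T : ∀ ζ, Charts p O1 r (U ζ) (hU ζ)

/-- A projective bundle datum has charts at every point. -/
theorem exists_cov {E : X.Modules} (hq : Coh.IsQCoh E) (hE : FlatMod.IsFinLocFreeOfRank r E)
    {𝒮 : RelProj.QCGrAlg X} {j : E ⟶ 𝒮.toModule} (hS : RelProj.IsGrSymAlg E 𝒮 j)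
    (chart : ∀ (U : X.Opens) (hU : IsAffineOpen U), (((p ⁻¹ᵁ U : P.Opens) : Scheme.{u}) ≅ Proj (𝒮.deg U hU)))
    (hP : RelProj.IsRelProj 𝒮 p chart)
    {lam : ∀ (U : X.Opens) (hU : IsAffineOpen U),
      O1 ⟶ (Scheme.Modules.pushforward (RelProj.emb p chart U hU)).obj (GrTwist.twist (𝒮.deg U hU) 1)}
    (hO1 : RelProj.IsRelTwist 𝒮 p chart 1 O1 lam) (hinv : PicF.IsInvertible O1) : Nonempty (Cov p O1 r) := by
  classical
  haveI : E.IsQuasicoherent := hq
  have key : ∀ ζ : X, ∃ (U : X.Opens) (hU : IsAffineOpen U), ζ ∈ U ∧ Nonempty (Charts p O1 r U hU) := by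
    intro ζ
    obtain ⟨U, hζ, ⟨φ⟩⟩ := hE ζ
    let π : Fin r → (FlatMod.freeMod (U : Scheme.{u}) r ⟶ Coh.structureModule (U : Scheme.{u})) :=
      fun j => Sigma.desc fun i => if i = j then 𝟙 _ else 0
    obtain ⟨e, he⟩ := LFFrame.exists_isFrame_of_split (M := E)
      (fun i => Sigma.ι (fun _ : Fin r => Coh.structureModule (U : Scheme.{u})) i ≫ φ.inv)
      (fun j => φ.hom ≫ π j) (fun i j => by simp [π]) (by
        rw [← cancel_epi φ.inv, ← cancel_mono φ.hom]
        apply Sigma.hom_ext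
        intro j
        simp [π, Preadditive.comp_sum, Preadditive.sum_comp, ite_comp])
    obtain ⟨V, hV, hζV, hVU⟩ := exists_isAffineOpen_mem_and_subset (x := ζ) (U := U) hζ
    refine ⟨V, hV, hζV, exists_charts (e := fun i => E.presheaf.map (homOfLE hVU).op (e i)) hS hV ?_ p chart hP hO1 hinv⟩
    have hc : LFFrame.comb E (fun i => E.presheaf.map (homOfLE hVU).op (e i)) (le_refl V) = LFFrame.comb E e hVU := by
      funext a
      exact Finset.sum_congr rfl fun i _ => congrArg _ (LFFrame.res_res _ _ _ _)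
    rw [hc]
    exact he V hVU
  choose U hU hm hT using key
  exact ⟨⟨U, hU, hm, fun ζ => (hT ζ).some⟩⟩

variable (L : Cov p O1 r) (hr : 1 ≤ r)

/-- The coordinate subspace over a point. -/
def Cov.lin (i : ℕ) (ζ : X) : P := (L.T ζ).lin hr (L.mem ζ) i

theorem Cov.p_lin (i : ℕ) (ζ : X) : p (L.lin hr i ζ) = ζ := (L.T ζ).p_lin hr (L.mem ζ) i

open Classical in
/-- Adapted sections. -/
def Cov.sec' (t : ℕ → (ξ : P) → Cyc.secFibre O1 ξ) (i : ℕ) (ξ : P) : Cyc.secFibre O1 ξ :=
  if h : i + 1 < r ∧ ξ = L.lin hr i (p ξ) then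
    Submodule.Quotient.mk ((L.T (p ξ)).g ⟨i + 1, h.1⟩ ξ (L.mem (p ξ)))
  else t i ξ

theorem Cov.sec'_ne (t : ℕ → (ξ : P) → Cyc.secFibre O1 ξ) (ht : ∀ i ξ, t i ξ ≠ 0) (i : ℕ) (ξ : P) :
    L.sec' hr t i ξ ≠ 0 := by
  rw [Cov.sec']
  split_ifs with h
  · intro h0
    have hv : (L.T (p ξ)).Van ⟨i + 1, h.1⟩ ξ := ⟨_, h0⟩
    have e : ξ = (L.T (p ξ)).lin hr (L.mem (p ξ)) i := h.2
    exact (L.T (p ξ)).not_van_lin hr (L.mem (p ξ)) i ⟨i + 1, h.1⟩ (Nat.lt_succ_self i) (e ▸ hv)
  · exact ht i ξ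

open Classical in
/-- The expected iterate. -/
def Cov.linFun (i : ℕ) (a : X → ℤ) : P → ℤ := fun x => if x = L.lin hr i (p x) then a (p x) else 0

variable {δ : X → ℤ} {δP : P → ℤ} (hd : Cyc.IsDimFun P δP) (hδ : Cyc.DeltaCompat p δP δ)

include hd hδ in
theorem Cov.delta_lin (i : ℕ) (hi : i + 1 ≤ r) (ζ : X) :
    δP (L.lin hr i ζ) = δ ζ + ((r : ℤ) - 1) - i := (L.T ζ).delta_lin hr (L.mem ζ) hd hδ i hi

include hd hδ in
theorem Cov.pullFun_eq (a : X → ℤ) : Cyc.pullFun p δP δ ((r : ℤ) - 1) a = L.linFun hr 0 a := by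
  classical
  funext x
  by_cases h : δP x = δ (p x) + ((r : ℤ) - 1)
  · have hx : x = L.lin hr 0 (p x) := (L.T (p x)).eq_lin hr (L.mem (p x)) hd hδ 0 (by omega) rfl
      (by push_cast; omega) fun n h1 h2 => by omega
    have hm := (L.T (p x)).map_max_lin_zero hr (L.mem (p x))
    rw [show (L.T (p x)).lin hr (L.mem (p x)) 0 = x from hx.symm] at hm
    rw [Cyc.pullFun, if_pos h, Cov.linFun, if_pos hx, hm]
    haveI : IsSimpleModule (P.presheaf.stalk x) (P.presheaf.stalk x ⧸ maximalIdeal (P.presheaf.stalk x)) :=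
      isSimpleModule_iff_isCoatom.2 Ideal.IsMaximal.out
    rw [Module.length_eq_one_iff.2 inferInstance]
    simp
  · rw [Cyc.pullFun, if_neg h, Cov.linFun, if_neg]
    intro hx
    apply h
    have := L.delta_lin hr hd hδ 0 (by omega) (p x)
    rw [← hx] at this
    push_cast at this
    omega

include hd hδ in
theorem Cov.secDiv_sec' [IsLocallyNoetherian P] (hinv : PicF.IsInvertible O1)
    (t : ℕ → (ξ : P) → Cyc.secFibre O1 ξ) (i : ℕ) (hi : i + 1 < r) (x : P) [Decidable (x = L.lin hr (i + 1) (p x))] :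
    Cyc.secDivFun δP O1 (L.lin hr i (p x)) (L.sec' hr t i (L.lin hr i (p x))) x =
      if x = L.lin hr (i + 1) (p x) then 1 else 0 := by
  classical
  have hc : i + 1 < r ∧ L.lin hr i (p x) = L.lin hr i (p (L.lin hr i (p x))) := ⟨hi, by rw [L.p_lin hr]⟩
  rw [Cov.sec', dif_pos hc]
  have key : ∀ (ζ : X) (_ : ζ = p x) (hm : p (L.lin hr i (p x)) ∈ L.U ζ),
      (Submodule.Quotient.mk ((L.T ζ).g ⟨i + 1, hi⟩ (L.lin hr i (p x)) hm) : Cyc.secFibre O1 _) =
        Submodule.Quotient.mk ((L.T (p x)).g ⟨i + 1, hi⟩ (L.lin hr i (p x))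
          (by rw [L.p_lin hr]; exact L.mem _)) := by
    rintro _ rfl hm
    rfl
  rw [key _ (L.p_lin hr i (p x))]
  have h := (L.T (p x)).secDiv_lin hr (L.mem (p x)) hd hδ hinv i hi x rfl
  exact h.trans (by congr)

/-- The cycles obtained with adapted sections. -/
def Cov.iter (δP : P → ℤ) (a : P → ℤ) (t : ℕ → (ξ : P) → Cyc.secFibre O1 ξ) : ℕ → P → ℤ
  | 0 => a
  | i + 1 => Cyc.c1CapFun δP O1 (Cov.iter δP a t i) (t i)

theorem iter_eq {δP : P → ℤ} {t : ℕ → (ξ : P) → Cyc.secFibre O1 ξ} {γ : ℕ → P → ℤ}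
    (hγs : ∀ i : ℕ, γ (i + 1) = Cyc.c1CapFun δP O1 (γ i) (t i)) (i : ℕ) : γ i = Cov.iter δP (γ 0) t i := by
  induction i with
  | zero => rfl
  | succ i ih => rw [hγs, ih]; rfl

variable {k : ℤ} (α : AlgebraicCycle X ℤ) (hα : α ∈ Cyc.Zk X δ k)

include L hr hd hδ hα in
theorem Cov.isCyc_pull : IsCyc δP (k + (r : ℤ) - 1) (Cyc.pullFun p δP δ ((r : ℤ) - 1) ⇑α) := by
  rw [L.pullFun_eq hr hd hδ]
  refine ⟨fun V hV => ?_, fun x hx => ?_⟩
  · refine Set.Finite.of_finite_image (f := p) ((α.locallyFiniteSupport.finite_inter_support_of_isCompact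
      (hV.isCompact.image p.continuous)).subset ?_) fun x hx y hy e => ?_
    · rintro _ ⟨x, ⟨hxV, hx⟩, rfl⟩
      refine ⟨⟨x, hxV, rfl⟩, ?_⟩
      rw [Function.mem_support, Cov.linFun] at hx
      split_ifs at hx
      exacts [hx, absurd rfl hx]
    · have hx' := hx.2
      have hy' := hy.2
      rw [Function.mem_support, Cov.linFun] at hx' hy'
      split_ifs at hx' with h1
      · split_ifs at hy' with h2
        · rw [h1, h2, e]
        · exact absurd rfl hy'
      · exact absurd rfl hx'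
  · rw [Cov.linFun]
    split_ifs with h
    · refine hα _ fun hk => hx ?_
      have := L.delta_lin hr hd hδ 0 (by omega) (p x)
      rw [← h] at this
      push_cast at this
      omega
    · rfl

variable [IsLocallyNoetherian P] (hinv : PicF.IsInvertible O1) (hdX : Cyc.IsDimFun X δ)
variable (t : ℕ → (ξ : P) → Cyc.secFibre O1 ξ) (ht : ∀ i ξ, t i ξ ≠ 0)

include hd hδ hα hinv hdX ht in
theorem Cov.iter_spec (i : ℕ) (hi : i + 1 ≤ r) :
    IsCyc δP (k + (r : ℤ) - 1 - i) (Cov.iter δP (L.linFun hr 0 ⇑α) (L.sec' hr t) i) ∧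
      (∀ x, Cov.iter δP (L.linFun hr 0 ⇑α) (L.sec' hr t) i x ≠ 0 → δ (p x) ≤ k) ∧
      ∀ x, δ (p x) = k → Cov.iter δP (L.linFun hr 0 ⇑α) (L.sec' hr t) i x = L.linFun hr i ⇑α x := by
  classical
  induction i with
  | zero =>
    refine ⟨?_, fun x hx => ?_, fun x _ => rfl⟩
    · have := L.isCyc_pull hr hd hδ α hα
      rw [L.pullFun_eq hr hd hδ] at this
      simpa [Cov.iter] using this
    · rw [Cov.iter, Cov.linFun] at hx
      split_ifs at hx
      · exact le_of_eq (by by_contra hc; exact hx (hα _ hc))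
      · exact absurd rfl hx
  | succ i ih =>
    obtain ⟨hc, hA, hB⟩ := ih (by omega)
    refine ⟨?_, fun x hx => ?_, fun x hx => ?_⟩
    · have hc' : IsCyc δP ((k + (r : ℤ) - 1 - (i + 1 : ℕ)) + 1)
          (Cov.iter δP (L.linFun hr 0 ⇑α) (L.sec' hr t) i) := by
        convert hc using 1
        push_cast
        ring
      exact isCyc_c1 hd hinv hc' _ (L.sec'_ne hr t ht i)
    · obtain ⟨ξ, hξ⟩ : ∃ ξ, Cov.iter δP (L.linFun hr 0 ⇑α) (L.sec' hr t) i ξ *
          Cyc.secDivFun δP O1 ξ (L.sec' hr t i ξ) x ≠ 0 := by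
        by_contra h
        push Not at h
        exact hx (finsum_eq_zero_of_forall_eq_zero h)
      exact (le_of_specializes hdX ((secDivFun_ne_zero (mul_ne_zero_iff.1 hξ).2).1.map p.continuous)).trans
        (hA ξ (mul_ne_zero_iff.1 hξ).1)
    · rw [Cov.iter, Cyc.c1CapFun]
      rw [finsum_eq_single _ (L.lin hr i (p x)) fun ξ hξ => ?_]
      · rw [hB _ (by rw [L.p_lin hr]; exact hx), Cov.linFun, if_pos (by rw [L.p_lin hr]), L.p_lin hr,
          L.secDiv_sec' hr hd hδ hinv t i (by omega) x, Cov.linFun]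
        split_ifs <;> simp
      · by_contra hne
        obtain ⟨h1, h2⟩ := mul_ne_zero_iff.1 hne
        have hsp := (secDivFun_ne_zero h2).1.map p.continuous
        have hle := le_of_specializes hdX hsp
        have hA' := hA ξ h1
        have hp : p ξ = p x := eq_of_specializes hdX hsp (by omega)
        rw [hB ξ (by rw [hp]; exact hx), Cov.linFun] at h1
        split_ifs at h1 with h
        · rw [hp] at h
          exact hξ h
        · exact h1 rfl

include L hr hd hδ hα hinv ht in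
theorem Cov.isCyc_iter (i : ℕ) :
    IsCyc δP (k + (r : ℤ) - 1 - i) (Cov.iter δP (Cyc.pullFun p δP δ ((r : ℤ) - 1) ⇑α) t i) := by
  induction i with
  | zero => simpa [Cov.iter] using L.isCyc_pull hr hd hδ α hα
  | succ i ih =>
    have hc' : IsCyc δP ((k + (r : ℤ) - 1 - (i + 1 : ℕ)) + 1)
        (Cov.iter δP (Cyc.pullFun p δP δ ((r : ℤ) - 1) ⇑α) t i) := by
      convert ih using 1
      push_cast
      ring
    exact isCyc_c1 hd hinv hc' _ (ht i)

include hd hδ hα hinv hdX ht in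
theorem Cov.iter_sub_mem (i : ℕ) (hi : i + 1 ≤ r) :
    Cov.iter δP (Cyc.pullFun p δP δ ((r : ℤ) - 1) ⇑α) t i - Cov.iter δP (L.linFun hr 0 ⇑α) (L.sec' hr t) i ∈
      prin hd (k + (r : ℤ) - 1 - i) := by
  induction i with
  | zero =>
    rw [Cov.iter, Cov.iter, L.pullFun_eq hr hd hδ, sub_self]
    exact zero_mem _
  | succ i ih =>
    obtain ⟨hc, -, -⟩ := L.iter_spec hr hd hδ α hα hinv hdX t ht i (by omega)
    have hm : (k + (r : ℤ) - 1 - (i + 1 : ℕ)) + 1 = k + (r : ℤ) - 1 - i := by push_cast; ring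
    have ha := L.isCyc_iter hr hd hδ α hα hinv t ht i
    have ih' := ih (by omega)
    rw [← hm] at hc ha ih'
    have hab : IsCyc δP (k + (r : ℤ) - 1 - (i + 1 : ℕ) + 1)
        (Cov.iter δP (Cyc.pullFun p δP δ ((r : ℤ) - 1) ⇑α) t i - Cov.iter δP (L.linFun hr 0 ⇑α) (L.sec' hr t) i) :=
      ⟨fun V hV => ((ha.finite V hV).union (hc.finite V hV)).subset fun x hx => by
          by_contra hne
          simp only [Set.mem_union, Set.mem_inter_iff, Function.mem_support, not_or, not_and, not_not] at hne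
          exact hx.2 (by simp [hne.1 hx.1, hne.2 hx.1]),
        fun x hx => by simp [ha.zero x hx, hc.zero x hx]⟩
    have h1 := c1_mem_of_ratEquivZero hd hinv hab ih' (t i) (ht i)
    rw [c1_sub ha hc] at h1
    have h2 := c1_sub_mem hd hinv hc (t i) (L.sec' hr t i) (ht i) (L.sec'_ne hr t ht i)
    simpa only [Cov.iter, sub_add_sub_cancel] using add_mem h1 h2

omit [IsLocallyNoetherian P] in
theorem Cov.residueDegree_lin (i : ℕ) (hi : i + 1 = r) (ζ : X) : p.residueDegree (L.lin hr i ζ) = 1 := by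
  let T := L.T ζ
  let q := T.subPrime (L.mem ζ) (o hr) (firstVars hr i)
  refine residueDegree_eq_one p (L.lin hr i ζ) fun z => ?_
  show ∃ w, (p.residueFieldMap (T.c (o hr) q)).hom w = z
  have hxU : p (T.c (o hr) q) ∈ L.U ζ := T.le _ (T.mem_range _ q)
  have key : ∀ s : Γ(P, (T.c (o hr)).opensRange), ∃ w,
      (p.residueFieldMap (T.c (o hr) q)).hom w = P.evaluation _ (T.c (o hr) q) (T.mem_range _ q) s := by
    intro s
    obtain ⟨b, rfl⟩ : ∃ b, T.fun' (o hr) b = s := (T.restr (o hr)).symm.surjective s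
    have hb : b - C (constantCoeff b) ∈ q.asIdeal := by
      induction b using MvPolynomial.induction_on with
      | C a => simp
      | add a b ha hb =>
        rw [map_add, map_add, add_sub_add_comm]
        exact add_mem ha hb
      | mul_X a v ha =>
        rw [map_mul, constantCoeff_X, mul_zero, map_zero, sub_zero]
        refine Ideal.mul_mem_left _ _ ((T.X_mem_ker (L.mem ζ) v).2
          (Finset.mem_filter.2 ⟨Finset.mem_univ _, ?_⟩))
        have := v.1.2
        omega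
    refine ⟨X.residue _ (X.presheaf.germ (L.U ζ) _ hxU (constantCoeff b)), ?_⟩
    refine (ConcreteCategory.congr_hom (Scheme.residue_residueFieldMap p (T.c (o hr) q)) _).trans ?_
    rw [CategoryTheory.comp_apply, T.germ_C (o hr) q hxU]
    show P.residue _ (T.germ (o hr) q (C (constantCoeff b))) = P.residue _ (T.germ (o hr) q b)
    refine ((sub_eq_zero.1 ?_)).symm
    rw [← map_sub, ← map_sub]
    exact Ideal.Quotient.eq_zero_iff_mem.2 ((T.mem_max_iff _ q _).2 hb)
  obtain ⟨a, b, hz⟩ := evaluation_surj (isAffineOpen_opensRange (T.c (o hr))) (T.mem_range (o hr) q) z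
  obtain ⟨wa, hwa⟩ := key a
  obtain ⟨wb, hwb⟩ := key b
  exact ⟨wa / wb, by rw [map_div₀, hwa, hwb]; exact hz.symm⟩

include L hr hd hδ hα hinv hdX ht in
/-- The push-forward of `c₁(O(1))^s ∩ π^*α`. -/
theorem Cov.map_iter [IsLocallyNoetherian X] [IsProper p] (s : ℕ) (hs : s + 1 ≤ r) (β : AlgebraicCycle P ℤ)
    (hβ : ⇑β = Cov.iter δP (Cyc.pullFun p δP δ ((r : ℤ) - 1) ⇑α) t s) :
    (s + 1 < r → Cyc.RatEquivZero δ (k + (r : ℤ) - 1 - s) (AlgebraicCycle.map p δP δ β)) ∧
      (s + 1 = r → Cyc.RatEquiv δ k (AlgebraicCycle.map p δP δ β) α) := by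
  classical
  obtain ⟨hc, hA, hB⟩ := L.iter_spec hr hd hδ α hα hinv hdX t ht s hs
  obtain ⟨β', hβ'k, hβ'⟩ := hc.exists_cycle
  have hrel : Cyc.RatEquiv δP (k + (r : ℤ) - 1 - s) β β' := by
    have h := L.iter_sub_mem hr hd hδ α hα hinv hdX t ht s hs
    rw [← hβ, ← hβ'] at h
    exact h
  have hmap := ratEquiv_map δP δ hd hdX p hδ _ β β' hrel
  have hterm : ∀ x, β' x * (AlgebraicCycle.mapCoeff p δP δ x : ℤ) ≠ 0 →
      s + 1 = r ∧ δ (p x) = k ∧ x = L.lin hr s (p x) := fun x hx => by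
    obtain ⟨h1, h2⟩ := mul_ne_zero_iff.1 hx
    have h3 : δP x = δ (p x) := by
      by_contra hne
      exact h2 (by simp [AlgebraicCycle.mapCoeff, hne])
    have h4 : δP x = k + (r : ℤ) - 1 - s := by
      by_contra hne
      exact h1 (hβ'k x hne)
    rw [hβ'] at h1
    have h5 := hA x h1
    have h6 : δ (p x) = k := by omega
    rw [hB x h6, Cov.linFun] at h1
    split_ifs at h1 with h
    · exact ⟨by omega, h6, h⟩
    · exact absurd rfl h1
  refine ⟨fun hlt => ?_, fun heq => ?_⟩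
  · have h0 : AlgebraicCycle.map p δP δ β' = 0 := by
      ext y
      refine finsum_mem_eq_zero_of_forall_eq_zero fun x _ => ?_
      by_contra hx
      exact hlt.ne (hterm x hx).1
    rw [h0] at hmap
    simpa [Cyc.RatEquiv] using hmap
  · have h0 : AlgebraicCycle.map p δP δ β' = α := by
      ext y
      show ∑ᶠ x ∈ _, β' x * _ = _
      rw [finsum_mem_def, finsum_eq_single _ (L.lin hr s y) fun x hx => ?_]
      · rw [Set.indicator_of_mem (show L.lin hr s y ∈ p ⁻¹' {y} from L.p_lin hr s y)]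
        have hd' : δP (L.lin hr s y) = δ y := by
          rw [L.delta_lin hr hd hδ s hs]
          omega
        have hco : AlgebraicCycle.mapCoeff p δP δ (L.lin hr s y) = 1 := by
          rw [AlgebraicCycle.mapCoeff, if_pos (hd'.trans (congrArg δ (L.p_lin hr s y)).symm),
            L.residueDegree_lin hr s heq]
        simp only [hco, Nat.cast_one, mul_one]
        by_cases hk : δ y = k
        · rw [hβ', hB _ (by rw [L.p_lin hr]; exact hk), Cov.linFun, if_pos (by rw [L.p_lin hr]), L.p_lin hr]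
        · rw [hα y hk]
          exact hβ'k _ (by rw [hd']; omega)
      · by_contra hne
        obtain ⟨hxy, hne⟩ := Set.indicator_apply_ne_zero.1 hne
        obtain ⟨-, -, e⟩ := hterm x hne
        exact hx (e.trans (congrArg (L.lin hr s) hxy))
    rw [h0] at hmap
    have : k + (r : ℤ) - 1 - s = k := by omega
    rwa [this] at hmap

end Groth.Agent.CycLib.ProjBdl
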