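import Groth.Agent.CycLib.ProjBdl.Away
import Groth.Agent.SymLib.Affine
import Groth.Agent.CycLib.DevTwist
import Groth.Agent.LFFrame.Basic
import Groth.Agent.GrModLib.TwistInv
import Groth.Prelude.Def_RelProj2

/-!
Coordinate charts of a projective bundle with its fundamental sheaf.
-/

set_option autoImplicit false
set_option linter.style.haveILetI false
set_option maxHeartbeats 800000

universe u

open CategoryTheory CategoryTheory.Limits AlgebraicGeometry TopologicalSpace Opposite MvPolynomial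
open scoped HomogeneousIdeal

noncomputable section

namespace Groth.Agent.CycLib.ProjBdl

open Groth.Agent.PullStalk.Sky Groth.Agent.CycLib.Dev

/-- Coordinate charts over an affine open. -/
structure Charts {X P : Scheme.{u}} (p : P ⟶ X) (O1 : P.Modules) (r : ℕ) (U : X.Opens) (hU : IsAffineOpen U) where
  c : ∀ m : Fin r, Spec (CommRingCat.of (MvPolynomial (Var m) Γ(X, U))) ⟶ P
  imm : ∀ m, IsOpenImmersion (c m)
  over' : ∀ m, c m ≫ p = Spec.map (CommRingCat.ofHom (C : Γ(X, U) →+* MvPolynomial (Var m) Γ(X, U))) ≫ hU.fromSpec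
  cover : ∀ x : P, p x ∈ U → ∃ m, x ∈ Set.range (c m)
  sec : Fin r → Γ(O1, p ⁻¹ᵁ U)
  fn : ∀ m : Fin r, Fin r → Γ(P, (c m).opensRange)
  fn_eq : ∀ m n, (c m).appLE (c m).opensRange ⊤ (fun x _ => ⟨x, rfl⟩) (fn m n) =
    (Scheme.ΓSpecIso _).inv (if hn : n = m then 1 else MvPolynomial.X ⟨n, hn⟩)
  le : ∀ m, (c m).opensRange ≤ p ⁻¹ᵁ U
  rel : ∀ m n, O1.presheaf.map (homOfLE (le m)).op (sec n) =
    fn m n • O1.presheaf.map (homOfLE (le m)).op (sec m)
  bas : ∀ m (x : P) (hx : x ∈ (c m).opensRange), IsBas (germM O1 (p ⁻¹ᵁ U) x (le m hx) (sec m))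
  preimage : ∀ m n, (hn : n ≠ m) → (c m) ⁻¹ᵁ (c n).opensRange = PrimeSpectrum.basicOpen (MvPolynomial.X (⟨n, hn⟩ : Var m) : MvPolynomial (Var m) Γ(X, U))

variable {X : Scheme.{u}} {E : X.Modules} [E.IsQuasicoherent] {𝒮 : RelProj.QCGrAlg X} {j : E ⟶ 𝒮.toModule}
  (hj : RelProj.IsGrSymAlg E 𝒮 j) {r : ℕ} {U : X.Opens} (hU : IsAffineOpen U)
  {e : Fin r → Γ(E, U)} (he : Function.Bijective (LFFrame.comb E e (le_refl U)))

/-- The variables. -/
def tvar (j : E ⟶ 𝒮.toModule) (e : Fin r → Γ(E, U)) (n : Fin r) : 𝒮.presheaf.obj (op U) := j.app U (e n)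

include hj he in
theorem isPoly : IsPoly (𝒮.deg U hU) (𝒮.str.app (op U)).hom (tvar j e) := by
  refine ⟨𝒮.str_mem U hU, fun n => hj.2 U hU (e n), ?_⟩
  let bas : Module.Basis (Fin r) Γ(X, U) Γ(E, U) := Module.Basis.ofEquivFun
    (LinearEquiv.ofBijective
      ({ toFun := fun a => LFFrame.comb E e (le_refl U) a
         map_add' := fun a a' => by simp [LFFrame.comb, add_smul, Finset.sum_add_distrib]
         map_smul' := fun c a => by simp [LFFrame.comb, mul_smul, Finset.smul_sum] } :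
        (Fin r → Γ(X, U)) →ₗ[Γ(X, U)] Γ(E, U)) he).symm
  have hbas : ∀ n, bas n = e n := fun n => by
    classical
    simp [bas, LFFrame.comb, Pi.single_apply, ite_smul]
  have hmap : eval₂Hom (𝒮.str.app (op U)).hom (tvar j e) =
      (SymLib.affLift j U).comp (SymmetricAlgebra.equivMvPolynomial bas).symm.toRingEquiv.toRingHom := by
    refine ringHom_ext (fun c => ?_) fun n => ?_
    · rw [eval₂Hom_C, RingHom.comp_apply]
      refine ((congrArg (SymLib.affLift j U) ?_).trans (SymLib.affLift_algebraMap j U c)).symm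
      exact AlgEquiv.commutes (SymmetricAlgebra.equivMvPolynomial bas).symm c
    · rw [eval₂Hom_X', RingHom.comp_apply]
      refine ((congrArg (SymLib.affLift j U) ?_).trans (SymLib.affLift_ι j U (e n))).symm
      rw [← hbas n]
      exact SymmetricAlgebra.equivMvPolynomial_symm_X bas n
  rw [hmap]
  exact (SymLib.affLift_bijective hj.1 hU).comp (SymmetricAlgebra.equivMvPolynomial bas).symm.bijective

section scheme

variable {A σ : Type u} [CommRing A] [SetLike σ A] [AddSubgroupClass σ A] {𝒜 : ℕ → σ} [GradedRing 𝒜]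

theorem awayι_appLE {f : A} {d : ℕ} (hf : f ∈ 𝒜 d) (hd : 0 < d) (a : HomogeneousLocalization.Away 𝒜 f)
    (hle : (⊤ : (Spec (CommRingCat.of (HomogeneousLocalization.Away 𝒜 f))).Opens) ≤
      Proj.awayι 𝒜 f hf hd ⁻¹ᵁ Proj.basicOpen 𝒜 f) :
    (Proj.awayι 𝒜 f hf hd).appLE (Proj.basicOpen 𝒜 f) ⊤ hle (Proj.awayToSection 𝒜 f a) =
      (Scheme.ΓSpecIso _).inv a := by
  haveI : IsIso (Proj.basicOpenToSpec 𝒜 f) := by
    rw [← Proj.basicOpenIsoSpec_hom 𝒜 f hf hd]; infer_instance
  apply (ConcreteCategory.bijective_of_isIso ((Proj.basicOpenToSpec 𝒜 f).app ⊤)).1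
  have h1 : Proj.basicOpenToSpec 𝒜 f ≫ Proj.awayι 𝒜 f hf hd = (Proj.basicOpen 𝒜 f).ι := by
    rw [← Proj.basicOpenIsoSpec_hom 𝒜 f hf hd, Proj.awayι, Iso.hom_inv_id_assoc]
  have h2 := Proj.basicOpenToSpec_app_top 𝒜 f
  rw [← Scheme.Hom.appLE_eq_app, ← CategoryTheory.comp_apply, Scheme.Hom.appLE_comp_appLE, ← CategoryTheory.comp_apply]
  conv_rhs => rw [Scheme.Hom.appLE_eq_app]
  erw [h2]
  simp only [h1]
  rw [Scheme.Opens.ι_appLE]
  show _ = (Proj.basicOpen 𝒜 f).topIso.inv (Proj.awayToSection 𝒜 f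
    ((Scheme.ΓSpecIso (CommRingCat.of (HomogeneousLocalization.Away 𝒜 f))).hom
      ((Scheme.ΓSpecIso (CommRingCat.of (HomogeneousLocalization.Away 𝒜 f))).inv a)))
  rw [Iso.inv_hom_id_apply, Scheme.Opens.topIso_inv]
  exact congrArg (fun g => ConcreteCategory.hom ((Proj 𝒜).presheaf.map g) (Proj.awayToSection 𝒜 f a))
    (Subsingleton.elim _ _)

theorem val_awayToSection {f : A} (a : HomogeneousLocalization.Away 𝒜 f)
    (y : ProjectiveSpectrum.basicOpen 𝒜 f) :
    (((ProjectiveSpectrum.Proj.awayToSection 𝒜 f) a : GrTwist.O (𝒜 := 𝒜) (op (ProjectiveSpectrum.basicOpen 𝒜 f))).1 y).val =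
      IsLocalization.map (M := Submonoid.powers f) (T := y.1.asHomogeneousIdeal.toIdeal.primeCompl)
        (GrTwist.Loc 𝒜 y.1) (RingHom.id A) (Submonoid.powers_le.mpr y.2) a.val :=
  ProjectiveSpectrum.Proj.awayToSection_apply 𝒜 f a y

variable {R : Type u} [CommRing R] {r : ℕ} {s : R →+* A} {t : Fin r → A} (h : IsPoly 𝒜 s t)
  {P : Scheme.{u}} (em : Proj 𝒜 ⟶ P) [IsOpenImmersion em] {O1 : P.Modules}

/-- The chart in an open copy of `Proj`. -/
def acm (m : Fin r) : Spec (CommRingCat.of (MvPolynomial (Var m) R)) ⟶ P :=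
  Spec.map (CommRingCat.ofHom (chartEquiv h m).symm.toRingHom) ≫ Proj.awayι 𝒜 (t m) (h.deg_t m) one_pos ≫ em

instance (m : Fin r) : IsOpenImmersion (acm h em m) := by
  haveI : IsIso (CommRingCat.ofHom (chartEquiv h m).symm.toRingHom) :=
    (ConcreteCategory.isIso_iff_bijective _).2 (chartEquiv h m).symm.bijective
  unfold acm; infer_instance

theorem opensRange_acm (m : Fin r) : (acm h em m).opensRange = em ''ᵁ Proj.basicOpen 𝒜 (t m) := by
  haveI : IsIso (CommRingCat.ofHom (chartEquiv h m).symm.toRingHom) :=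
    (ConcreteCategory.isIso_iff_bijective _).2 (chartEquiv h m).symm.bijective
  unfold acm
  rw [Scheme.Hom.opensRange_comp_of_isIso, Scheme.Hom.opensRange_comp, Proj.opensRange_awayι]

theorem preimage_acm (m : Fin r) : em ⁻¹ᵁ (acm h em m).opensRange = Proj.basicOpen 𝒜 (t m) := by
  rw [opensRange_acm, Scheme.Hom.preimage_image_eq]

theorem acm_le (m : Fin r) : (acm h em m).opensRange ≤ em.opensRange := by
  rw [opensRange_acm]; exact Scheme.Hom.image_le_opensRange _ _

theorem mem_range_acm (y : Proj 𝒜) : ∃ m, em y ∈ (acm h em m).opensRange := by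
  classical
  obtain ⟨m, hm⟩ : ∃ m, t m ∉ (show ProjectiveSpectrum 𝒜 from y).asHomogeneousIdeal := by
    by_contra hc
    push Not at hc
    refine (show ProjectiveSpectrum 𝒜 from y).not_irrelevant_le
      ((HomogeneousIdeal.irrelevant_le _).2 fun i hi a ha => ?_)
    obtain ⟨Q, hQ, rfl⟩ := h.exists_eval_eq ha
    rw [coe_eval₂Hom, eval₂_eq]
    refine Ideal.sum_mem _ fun d hd => Ideal.mul_mem_left _ _ ?_
    obtain ⟨n, hn⟩ : d.support.Nonempty := by
      rw [Finset.nonempty_iff_ne_empty]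
      intro h0
      have := hQ (mem_support_iff.1 hd)
      simp [Finsupp.weight_apply, Finsupp.sum, h0] at this
      omega
    exact Ideal.mem_of_dvd _ (Finset.dvd_prod_of_mem _ hn)
      (Ideal.pow_mem_of_mem _ (hc n) _ (Nat.pos_of_ne_zero (Finsupp.mem_support_iff.1 hn)))
  exact ⟨m, by rw [opensRange_acm]; exact ⟨y, hm, rfl⟩⟩

theorem preimage_acm_acm (m n : Fin r) (hn : n ≠ m) : (acm h em m) ⁻¹ᵁ (acm h em n).opensRange =
    PrimeSpectrum.basicOpen (MvPolynomial.X (⟨n, hn⟩ : Var m) : MvPolynomial (Var m) R) := by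
  unfold acm
  rw [Scheme.Hom.comp_preimage, Scheme.Hom.comp_preimage]
  erw [preimage_acm h em n]
  rw [Proj.awayι_preimage_basicOpen (g_deg := h.deg_t n) (hm' := one_pos)]
  refine Eq.trans (congrArg PrimeSpectrum.basicOpen ?_) rfl
  show (chartEquiv h m).symm (HomogeneousLocalization.Away.isLocalizationElem (h.deg_t m) (h.deg_t n)) = _
  rw [RingEquiv.symm_apply_eq]
  refine Eq.trans ?_ (chartMap_X h m ⟨n, hn⟩).symm
  refine HomogeneousLocalization.val_injective _ ?_
  rw [val_coord, HomogeneousLocalization.Away.val_mk]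
  simp [tden]

theorem symm_coord (m n : Fin r) : (chartEquiv h m).symm (coord h m n) =
    if hn : n = m then (1 : MvPolynomial (Var m) R) else MvPolynomial.X ⟨n, hn⟩ := by
  rw [RingEquiv.symm_apply_eq]
  by_cases hn : n = m
  · subst hn
    rw [dif_pos rfl, map_one]
    refine HomogeneousLocalization.val_injective _ ?_
    rw [val_coord, HomogeneousLocalization.val_one]
    exact Localization.mk_self (tden t n)
  · rw [dif_neg hn]
    exact (chartMap_X h m ⟨n, hn⟩).symm

theorem bijective_em_app (V : P.Opens) (hV : V ≤ em.opensRange) : Function.Bijective (em.app V) :=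
  haveI := Scheme.Hom.isIso_app em V hV
  ConcreteCategory.bijective_of_isIso _

/-- The coordinate functions. -/
def afn (m n : Fin r) : Γ(P, (acm h em m).opensRange) :=
  ((bijective_em_app em _ (acm_le h em m)).2 ((Proj 𝒜).presheaf.map (eqToHom (preimage_acm h em m)).op
    (Proj.awayToSection 𝒜 (t m) (coord h m n)))).choose

theorem app_afn (m n : Fin r) : em.app _ (afn h em m n) = (Proj 𝒜).presheaf.map (eqToHom (preimage_acm h em m)).op
    (Proj.awayToSection 𝒜 (t m) (coord h m n)) :=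
  ((bijective_em_app em _ (acm_le h em m)).2 _).choose_spec

theorem appLE_afn (m n : Fin r) (hle : (⊤ : (Spec (CommRingCat.of (MvPolynomial (Var m) R))).Opens) ≤
    acm h em m ⁻¹ᵁ (acm h em m).opensRange) :
    (acm h em m).appLE (acm h em m).opensRange ⊤ hle (afn h em m n) =
      (Scheme.ΓSpecIso _).inv (if hn : n = m then 1 else MvPolynomial.X ⟨n, hn⟩) := by
  let a := Proj.awayι 𝒜 (t m) (h.deg_t m) one_pos
  let φ := Spec.map (CommRingCat.ofHom (chartEquiv h m).symm.toRingHom)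
  let R' := (acm h em m).opensRange
  have e1 : Proj.basicOpen 𝒜 (t m) ≤ em ⁻¹ᵁ R' := (preimage_acm h em m).ge
  have e2 : (⊤ : (Spec (CommRingCat.of (HomogeneousLocalization.Away 𝒜 (t m)))).Opens) ≤ a ⁻¹ᵁ Proj.basicOpen 𝒜 (t m) := by
    rw [← Proj.opensRange_awayι 𝒜 (t m) (h.deg_t m) one_pos, Scheme.Hom.preimage_opensRange]
  have e3 : (⊤ : (Spec (CommRingCat.of (MvPolynomial (Var m) R))).Opens) ≤ φ ⁻¹ᵁ ⊤ := le_top
  have hsplit : (acm h em m).appLE R' ⊤ hle =
      em.appLE R' (Proj.basicOpen 𝒜 (t m)) e1 ≫ a.appLE _ ⊤ e2 ≫ φ.appLE ⊤ ⊤ e3 := by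
    rw [Scheme.Hom.appLE_comp_appLE, Scheme.Hom.appLE_comp_appLE]
    rfl
  have h3 : em.appLE R' (Proj.basicOpen 𝒜 (t m)) e1 (afn h em m n) = Proj.awayToSection 𝒜 (t m) (coord h m n) := by
    rw [Scheme.Hom.appLE, CategoryTheory.comp_apply, app_afn, ← CategoryTheory.comp_apply, ← Functor.map_comp,
      show (eqToHom (preimage_acm h em m)).op ≫ (homOfLE e1).op = 𝟙 _ from Subsingleton.elim _ _,
      CategoryTheory.Functor.map_id]
    rfl
  rw [show (acm h em m).appLE (acm h em m).opensRange ⊤ hle = _ from hsplit, CategoryTheory.comp_apply,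
    CategoryTheory.comp_apply, h3, awayι_appLE (h.deg_t m) one_pos (coord h m n) e2, ← symm_coord h m n]
  have hnat := ConcreteCategory.congr_hom
    (Scheme.ΓSpecIso_inv_naturality (CommRingCat.ofHom (chartEquiv h m).symm.toRingHom)) (coord h m n)
  refine Eq.trans ?_ hnat.symm
  rw [CategoryTheory.comp_apply]
  show φ.appLE ⊤ (φ ⁻¹ᵁ ⊤) _ _ = _
  rw [Scheme.Hom.appLE_eq_app]
  rfl

variable (lm : O1 ⟶ (Scheme.Modules.pushforward em).obj (GrTwist.twist 𝒜 1))

theorem val_lm_smul (V : P.Opens) (c : Γ(P, V)) (x : Γ(O1, V)) (y : (em ⁻¹ᵁ V : (Proj 𝒜).Opens)) :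
    GrTwist.val (V := em ⁻¹ᵁ V) (lm.app V (c • x)) y =
      (((em.app V c : Γ(Proj 𝒜, em ⁻¹ᵁ V)) : GrTwist.O (𝒜 := 𝒜) (op (em ⁻¹ᵁ V))).1 y).val *
        GrTwist.val (V := em ⁻¹ᵁ V) (lm.app V x) y := by
  rw [Scheme.Modules.Hom.app_smul]
  exact GrTwist.coe_smul_val 1 y.1 _ _

variable (hbij : ∀ V : P.Opens, V ≤ em.opensRange → Function.Bijective (lm.app V))

/-- The coordinate sections. -/
def asec (n : Fin r) : Γ(O1, em.opensRange) :=
  ((hbij _ le_rfl).2 ((GrTwist.twist 𝒜 1).presheaf.map (homOfLE le_top).op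
    (GrTwist.globalOf 𝒜 (i := 1) ⟨t n, h.deg_t n⟩))).choose

theorem app_asec (n : Fin r) : lm.app _ (asec h em lm hbij n) =
    (GrTwist.twist 𝒜 1).presheaf.map (homOfLE le_top).op (GrTwist.globalOf 𝒜 (i := 1) ⟨t n, h.deg_t n⟩) :=
  ((hbij _ le_rfl).2 _).choose_spec

theorem val_asec (n : Fin r) (V : P.Opens) (hV : V ≤ em.opensRange) (y : (em ⁻¹ᵁ V : (Proj 𝒜).Opens)) :
    GrTwist.val (V := em ⁻¹ᵁ V) (lm.app V (O1.presheaf.map (homOfLE hV).op (asec h em lm hbij n))) y =
      algebraMap _ (GrTwist.Loc 𝒜 y.1) (t n) := by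
  have e : lm.app V (O1.presheaf.map (homOfLE hV).op (asec h em lm hbij n)) =
    (GrTwist.twist 𝒜 1).presheaf.map (homOfLE (em.preimage_mono hV)).op
      ((GrTwist.twist 𝒜 1).presheaf.map (homOfLE le_top).op (GrTwist.globalOf 𝒜 (i := 1) ⟨t n, h.deg_t n⟩)) :=
    (NatTrans.naturality_apply lm.mapPresheaf (homOfLE hV).op (asec h em lm hbij n)).trans
      (congrArg _ (app_asec h em lm hbij n))
  rw [e]
  exact Localization.mk_one_eq_algebraMap _

theorem rel_asec (m n : Fin r) : O1.presheaf.map (homOfLE (acm_le h em m)).op (asec h em lm hbij n) =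
    afn h em m n • O1.presheaf.map (homOfLE (acm_le h em m)).op (asec h em lm hbij m) := by
  refine (hbij _ (acm_le h em m)).1 (Subtype.ext (funext fun y => Subtype.ext ?_))
  refine (val_asec h em lm hbij n _ (acm_le h em m) y).trans ?_
  refine Eq.trans ?_ (val_lm_smul em lm _ (afn h em m n) _ y).symm
  rw [val_asec h em lm hbij m _ (acm_le h em m) y, app_afn]
  have hy : y.1 ∈ Proj.basicOpen 𝒜 (t m) := (preimage_acm h em m).le y.2
  refine Eq.trans ?_ (congrArg (fun q => q * algebraMap _ (GrTwist.Loc 𝒜 y.1) (t m))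
    (val_awayToSection (coord h m n) ⟨y.1, hy⟩).symm)
  rw [val_coord, Localization.mk_eq_mk', IsLocalization.map_mk']
  exact (IsLocalization.mk'_spec (M := (show ProjectiveSpectrum 𝒜 from y.1).asHomogeneousIdeal.toIdeal.primeCompl) _ _ _).symm

include hbij in
theorem bas_asec (hinv : PicF.IsInvertible O1) (m : Fin r) (x : P) (hx : x ∈ (acm h em m).opensRange) :
    IsBas (germM O1 em.opensRange x (acm_le h em m hx) (asec h em lm hbij m)) := by
  obtain ⟨b, hb⟩ := exists_isBas hinv x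
  obtain ⟨q, hq⟩ := hb.2 (germM O1 em.opensRange x (acm_le h em m hx) (asec h em lm hbij m))
  replace hq : q • b = germM O1 em.opensRange x (acm_le h em m hx) (asec h em lm hbij m) := hq
  obtain ⟨V₀, hxV₀, s₀, hs₀⟩ := exists_germM_eq O1 x b
  let V := V₀ ⊓ (acm h em m).opensRange
  have hVU : V ≤ em.opensRange := inf_le_right.trans (acm_le h em m)
  let s : Γ(O1, V) := O1.presheaf.map (homOfLE inf_le_left).op s₀
  have hs : germM O1 V x ⟨hxV₀, hx⟩ s = b := hs₀ ▸ O1.presheaf.germ_res_apply _ _ _ s₀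
  have hnin : ∀ y : (em ⁻¹ᵁ V : (Proj 𝒜).Opens), t m ∉ y.1.asHomogeneousIdeal := fun y =>
    (preimage_acm h em m).le (em.preimage_mono inf_le_right y.2)
  obtain ⟨c, hc⟩ := (GrModLib.bijective_smul_powSec (𝒜 := 𝒜) (a := 1) (b := 0) (n := 1) (h.deg_t m) (by simp) hnin).2
    (lm.app V s)
  obtain ⟨c', hc'⟩ := (bijective_em_app em V hVU).2 c
  have hrel : c' • O1.presheaf.map (homOfLE hVU).op (asec h em lm hbij m) = s := by
    refine (hbij V hVU).1 (Subtype.ext (funext fun y => Subtype.ext ?_))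
    refine (val_lm_smul em lm V c' _ y).trans ?_
    rw [val_asec h em lm hbij m V hVU y, hc']
    refine Eq.trans ?_ (congrArg (fun z : GrMod.sect 𝒜 𝒜 1 (op (em ⁻¹ᵁ V)) => GrModLib.valAt z y.1 y.2) hc)
    refine Eq.trans ?_ (GrModLib.valAt_smul c _ y.1 y.2).symm
    congr 1
    show algebraMap _ _ (t m) = Localization.mk (t m ^ 1) ⟨t m ^ 0, GrModLib.pow_nin (hnin y) 0⟩
    simp only [pow_one, pow_zero]
    exact (Localization.mk_one_eq_algebraMap _).symm
  have hg := congrArg (germM O1 V x ⟨hxV₀, hx⟩) hrel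
  erw [germM_smul, hs] at hg
  have hres : germM O1 V x ⟨hxV₀, hx⟩ (O1.presheaf.map (homOfLE hVU).op (asec h em lm hbij m)) =
      germM O1 em.opensRange x (acm_le h em m hx) (asec h em lm hbij m) := O1.presheaf.germ_res_apply _ _ _ _
  rw [hres, ← hq, smul_smul] at hg
  rw [← hq]
  exact isBas_smul hb (isUnit_iff_exists_inv'.2 ⟨_, hb.1 (hg.trans (one_smul _ b).symm)⟩)

end scheme

variable {P : Scheme.{u}} (p : P ⟶ X)
  (chart : ∀ (U : X.Opens) (hU : IsAffineOpen U), (((p ⁻¹ᵁ U : P.Opens) : Scheme.{u}) ≅ Proj (𝒮.deg U hU)))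
  (hP : RelProj.IsRelProj 𝒮 p chart) {O1 : P.Modules}
  {lam : ∀ (U : X.Opens) (hU : IsAffineOpen U),
    O1 ⟶ (Scheme.Modules.pushforward (RelProj.emb p chart U hU)).obj (GrTwist.twist (𝒮.deg U hU) 1)}
  (hO1 : RelProj.IsRelTwist 𝒮 p chart 1 O1 lam) (hinv : PicF.IsInvertible O1)

theorem opensRange_emb : (RelProj.emb p chart U hU).opensRange = p ⁻¹ᵁ U := by
  unfold RelProj.emb
  rw [Scheme.Hom.opensRange_comp_of_isIso, Scheme.Opens.opensRange_ι]

include hj he hP hO1 hinv in
/-- A projective bundle has coordinate charts over affine opens with a frame, whose coordinate sections are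
the generators of degree one. -/
theorem exists_charts_spec : ∃ T : Charts p O1 r U hU, ∀ n,
    (∀ (V : P.Opens) (hV : V ≤ p ⁻¹ᵁ U) (y : (RelProj.emb p chart U hU ⁻¹ᵁ V : (Proj (𝒮.deg U hU)).Opens)),
      GrTwist.val (V := RelProj.emb p chart U hU ⁻¹ᵁ V)
        ((lam U hU).app V (O1.presheaf.map (homOfLE hV).op (T.sec n))) y =
          algebraMap _ (GrTwist.Loc (𝒮.deg U hU) y.1) (tvar j e n)) ∧
      RelProj.emb p chart U hU ⁻¹ᵁ (haveI := T.imm n; (T.c n).opensRange) =
        Proj.basicOpen (𝒮.deg U hU) (tvar j e n) := by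
  have hW := opensRange_emb hU p chart
  have hb : ∀ V : P.Opens, V ≤ (RelProj.emb p chart U hU).opensRange →
      Function.Bijective ((lam U hU).app V) := fun V hV => hO1.bijective U hU V (hV.trans hW.le)
  let h := isPoly hj hU he
  let em := RelProj.emb p chart U hU
  refine ⟨{
    c := fun m => acm h em m
    imm := fun m => inferInstanceAs (IsOpenImmersion (acm h em m))
    over' := fun m => ?_
    cover := fun x hx => ?_
    sec := fun n => O1.presheaf.map (homOfLE hW.ge).op (asec h em (lam U hU) hb n)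
    fn := fun m n => afn h em m n
    fn_eq := fun m n => appLE_afn h em m n _
    le := fun m => (acm_le h em m).trans hW.le
    rel := fun m n => ?_
    bas := fun m x hx => ?_
    preimage := fun m n hn => preimage_acm_acm h em m n hn }, fun n => ⟨fun V hV y => ?_, preimage_acm h em n⟩⟩
  · have h1 : em ≫ p = Proj.toSpecZero (𝒮.deg U hU) ≫ Spec.map (𝒮.strZero U hU) ≫ hU.fromSpec := by
      show ((chart U hU).inv ≫ (p ⁻¹ᵁ U).ι) ≫ p = _
      rw [Category.assoc, ← hP.chart_over U hU, Iso.inv_hom_id_assoc]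
    show acm h em m ≫ p = _
    unfold acm
    rw [Category.assoc, Category.assoc, h1, Proj.awayι_toSpecZero_assoc, ← Spec.map_comp_assoc, ← Spec.map_comp_assoc]
    congr 2
    refine CommRingCat.hom_ext (RingHom.ext fun c => ?_)
    show (chartEquiv h m).symm (cst h m c) = C c
    rw [RingEquiv.symm_apply_eq]
    exact (chartMap_C h m c).symm
  · obtain ⟨y, rfl⟩ : x ∈ Set.range em := hW.ge hx
    exact mem_range_acm h em y
  · rw [← CategoryTheory.comp_apply, ← CategoryTheory.comp_apply, ← Functor.map_comp, ← op_comp, homOfLE_comp]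
    exact rel_asec h em (lam U hU) hb m n
  · have e : germM O1 (p ⁻¹ᵁ U) x ((acm_le h em m).trans hW.le hx)
        (O1.presheaf.map (homOfLE hW.ge).op (asec h em (lam U hU) hb m)) =
      germM O1 em.opensRange x (acm_le h em m hx) (asec h em (lam U hU) hb m) := O1.presheaf.germ_res_apply _ _ _ _
    rw [e]
    exact bas_asec h em (lam U hU) hb hinv m x hx
  · have e : O1.presheaf.map (homOfLE hV).op (O1.presheaf.map (homOfLE hW.ge).op (asec h em (lam U hU) hb n)) =
        O1.presheaf.map (homOfLE (hV.trans hW.ge)).op (asec h em (lam U hU) hb n) := LFFrame.res_res _ _ _ _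
    exact (congrArg (fun z => GrTwist.val (V := em ⁻¹ᵁ V) ((lam U hU).app V z) y) e).trans
      (val_asec h em (lam U hU) hb n V (hV.trans hW.ge) y)

include hj he hP hO1 hinv in
/-- A projective bundle has coordinate charts over affine opens with a frame. -/
theorem exists_charts : Nonempty (Charts p O1 r U hU) :=
  (exists_charts_spec hj hU he p chart hP hO1 hinv).nonempty

end Groth.Agent.CycLib.ProjBdl
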