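import Groth.Agent.CycLib.ProjBdl.Inj
import Groth.Agent.CycLib.ProjBdl.OfKRR
import Groth.Prelude.Def_ChowOps2

/-!
Uniqueness of Chern class caps.
-/

set_option autoImplicit false
set_option linter.style.haveILetI false
set_option maxHeartbeats 800000

universe u

open CategoryTheory CategoryTheory.Limits AlgebraicGeometry TopologicalSpace Opposite

noncomputable section

namespace Groth.Agent.CycLib.ProjBdl

open Groth.Agent.CycLib.Dev

variable {X P : Scheme.{u}} {p : P ⟶ X} {O1 : P.Modules}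

theorem c1PowFun_eq_iter {δP : P → ℤ} (t : ℕ → (ξ : P) → Cyc.secFibre O1 ξ) (n : ℕ) (a : P → ℤ) :
    Cyc.c1PowFun δP O1 t n a = Cov.iter δP a t n := by
  induction n with
  | zero => rfl
  | succ n ih => show Cyc.c1CapFun δP O1 (Cyc.c1PowFun δP O1 t n a) (t n) = _; rw [ih]; rfl

theorem c1_smul {δP : P → ℤ} (c : ℤ) (a : P → ℤ) (s : (ξ : P) → Cyc.secFibre O1 ξ) :
    Cyc.c1CapFun δP O1 (c • a) s = c • Cyc.c1CapFun δP O1 a s := by
  funext x
  simp only [Cyc.c1CapFun, Pi.smul_apply, smul_eq_mul, mul_assoc]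
  exact (smul_finsum c fun ξ => a ξ * Cyc.secDivFun δP O1 ξ (s ξ) x).symm

theorem iter_smul {δP : P → ℤ} (c : ℤ) (a : P → ℤ) (t : ℕ → (ξ : P) → Cyc.secFibre O1 ξ) (n : ℕ) :
    Cov.iter δP (c • a) t n = c • Cov.iter δP a t n := by
  induction n with
  | zero => rfl
  | succ n ih => simp only [Cov.iter, ih, c1_smul]

variable {r : ℕ} (L : Cov p O1 r) (hr : 1 ≤ r) {δ : X → ℤ} {δP : P → ℤ} (hX : Cyc.IsSetup X δ)
  (hP : Cyc.IsSetup P δP) (hδ : Cyc.DeltaCompat p δP δ) (hinv : PicF.IsInvertible O1) [IsProper p]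
  [IsLocallyNoetherian P]

include L hr hX hP hδ hinv in
/-- A family satisfying the Chern relation, with first member `∼ 0`, is `∼ 0`. -/
theorem Cov.chern_zero (k : ℤ) (ε : Fin (r + 1) → AlgebraicCycle X ℤ)
    (hε : ∀ j : Fin (r + 1), ε j ∈ Cyc.Zk X δ (k - ((j : ℕ) : ℤ))) (h0 : Cyc.RatEquivZero δ k (ε 0))
    (t : ℕ → (ξ : P) → Cyc.secFibre O1 ξ) (ht : ∀ m ξ, t m ξ ≠ 0)
    (hrel : ∑ i : Fin (r + 1), (-1 : ℤ) ^ (i : ℕ) •
        Cov.iter δP (Cyc.pullFun p δP δ ((r : ℤ) - 1) ⇑(ε (Fin.rev i))) t i ∈ prin hP.2.2 (k - 1)) :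
    ∀ j : Fin (r + 1), Cyc.RatEquivZero δ (k - ((j : ℕ) : ℤ)) (ε j) := by
  classical
  haveI := hX.1
  haveI := L.flat
  have hεc : ∀ i : Fin (r + 1), ε (Fin.rev i) ∈ Cyc.Zk X δ (k - r + (i : ℕ)) := fun i => by
    have := hε (Fin.rev i)
    have e : k - (((Fin.rev i : Fin (r + 1)) : ℕ) : ℤ) = k - r + (i : ℕ) := by
      rw [Fin.val_rev]
      have := i.2
      omega
    rwa [e] at this
  let T : Fin (r + 1) → P → ℤ := fun i => (-1 : ℤ) ^ (i : ℕ) •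
    Cov.iter δP (Cyc.pullFun p δP δ ((r : ℤ) - 1) ⇑(ε (Fin.rev i))) t i
  have hterm : ∀ i, IsCyc δP (k - 1) (Cov.iter δP (Cyc.pullFun p δP δ ((r : ℤ) - 1) ⇑(ε (Fin.rev i))) t i) := fun i => by
    convert L.isCyc_iter hr hP.2.2 hδ _ (hεc i) hinv t ht i using 1
    ring
  have hlast : T (Fin.last r) ∈ prin hP.2.2 (k - 1) := by
    refine zsmul_mem ?_ _
    rw [Fin.rev_last, Fin.val_last]
    have hc0 := L.isCyc_pull hr hP.2.2 hδ (ε 0) (k := k) (by simpa using hε 0)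
    obtain ⟨w, -, hw⟩ := hc0.exists_cycle
    have hwp := ratEquivZero_pull_shift p hP hX (L.shiftBy hP.2.2 hδ) h0 w fun x => by rw [hw]
    have hwp' : Cyc.pullFun p δP δ ((r : ℤ) - 1) ⇑(ε 0) ∈ prin hP.2.2 (k + (r : ℤ) - 1) := by
      rw [← hw, show k + (r : ℤ) - 1 = k + ((r : ℤ) - 1) by ring]
      exact hwp
    have h := iterate_mem hP.2.2 hinv hc0 hwp' t ht r
    rwa [show k + (r : ℤ) - 1 - r = k - 1 by ring] at h
  have hrest : ∑ i : Fin r, T i.castSucc ∈ prin hP.2.2 (k - 1) := by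
    have h : ∑ i, T i ∈ prin hP.2.2 (k - 1) := hrel
    rw [Fin.sum_univ_castSucc] at h
    exact (add_mem_cancel_right hlast).1 h
  let α : Fin r → AlgebraicCycle X ℤ := fun i => (-1 : ℤ) ^ (i : ℕ) • ε (Fin.rev i.castSucc)
  have hα : ∀ i : Fin r, α i ∈ Cyc.Zk X δ (k - r + ((i : ℕ) : ℤ)) := fun i x hx => by
    show (-1 : ℤ) ^ (i : ℕ) * ε (Fin.rev i.castSucc) x = 0
    rw [hεc i.castSucc x hx, mul_zero]
  have hTα : ∀ i : Fin r, T i.castSucc = Cov.iter δP (Cyc.pullFun p δP δ ((r : ℤ) - 1) ⇑(α i)) t i := fun i => by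
    rw [show Cyc.pullFun p δP δ ((r : ℤ) - 1) ⇑(α i) =
      (-1 : ℤ) ^ (i : ℕ) • Cyc.pullFun p δP δ ((r : ℤ) - 1) ⇑(ε (Fin.rev i.castSucc)) from funext fun x => by
      show Cyc.pullFun p δP δ _ _ x = _ * Cyc.pullFun p δP δ _ _ x
      simp only [Cyc.pullFun]
      split_ifs
      · show ((-1 : ℤ) ^ (i : ℕ) * ε (Fin.rev i.castSucc) (p x)) * _ = _
        rw [mul_assoc]
      · rw [mul_zero], iter_smul]
    rfl
  have hTc : IsCyc δP (k - 1) (∑ i : Fin r, T i.castSucc) := by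
    refine isCyc_sum Finset.univ fun i _ => ?_
    exact ⟨fun V hV => ((hterm i.castSucc).finite V hV).subset fun x hx => ⟨hx.1, fun h0' => hx.2 (by
        show _ * _ = (0 : ℤ); rw [h0', mul_zero])⟩,
      fun x hx => by show _ * _ = (0 : ℤ); rw [(hterm i.castSucc).zero x hx, mul_zero]⟩
  obtain ⟨β, -, hβ⟩ := hTc.exists_cycle
  have hβ0 : Cyc.RatEquivZero δP (k - r + r - 1) β := by
    rw [← hβ] at hrest
    rw [show k - (r : ℤ) + r - 1 = k - 1 by ring]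
    exact hrest
  have hinj := L.injective hr hP.2.2 hδ hinv hX hP (k - r) α hα (fun _ => t) (fun _ => ht) β
    (by rw [hβ]; exact Finset.sum_congr rfl fun i _ => hTα i) hβ0
  intro j
  induction j using Fin.cases with
  | zero => simpa using h0
  | succ j =>
    have h := hinj (Fin.rev j)
    have hk : k - (r : ℤ) + (((Fin.rev j : Fin r) : ℕ) : ℤ) = k - ((j.succ : ℕ) : ℤ) := by
      rw [Fin.val_rev, Fin.val_succ]
      have := j.2
      omega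
    rw [hk] at h
    have hrev : Fin.rev (Fin.rev j).castSucc = j.succ := by
      rw [Fin.rev_castSucc, Fin.rev_rev]
    have h' : ⇑(α (Fin.rev j)) ∈ prin hX.2.2 (k - ((j.succ : ℕ) : ℤ)) := h
    have h2 := zsmul_mem h' ((-1 : ℤ) ^ ((Fin.rev j : Fin r) : ℕ))
    have e : (-1 : ℤ) ^ ((Fin.rev j : Fin r) : ℕ) • ⇑(α (Fin.rev j)) = ⇑(ε j.succ) := funext fun x => by
      show _ * (_ * ε (Fin.rev (Fin.rev j).castSucc) x) = _
      rw [hrev, ← mul_assoc, ← mul_pow, neg_one_mul, neg_neg, one_pow, one_mul]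
    rw [e] at h2
    exact h2

include L hr hX hP hδ hinv in
/-- Chern class caps respect rational equivalence. -/
theorem Cov.chern_ratEquiv (k : ℤ) (α α' : AlgebraicCycle X ℤ) (h : Cyc.RatEquiv δ k α α')
    (γ γ' : Fin (r + 1) → AlgebraicCycle X ℤ) (hγ : Cyc.IsChernCap p δ δP O1 r k α γ)
    (hγ' : Cyc.IsChernCap p δ δP O1 r k α' γ') (j : Fin (r + 1)) :
    Cyc.RatEquiv δ (k - ((j : ℕ) : ℤ)) (γ j) (γ' j) := by
  classical
  haveI := hX.1
  choose σ hσ using exists_isBas hinv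
  let t : ℕ → (ξ : P) → Cyc.secFibre O1 ξ := fun _ ξ => Submodule.Quotient.mk (σ ξ)
  have ht : ∀ m ξ, t m ξ ≠ 0 := fun _ ξ => mk_ne_zero_of_isBas (hσ ξ)
  let pl := fun (z : AlgebraicCycle X ℤ) => Cyc.pullFun p δP δ ((r : ℤ) - 1) ⇑z
  have hlvl : ∀ i : Fin (r + 1), k - (((Fin.rev i : Fin (r + 1)) : ℕ) : ℤ) + (r : ℤ) - 1 - (i : ℕ) = k - 1 := fun i => by
    rw [Fin.val_rev]
    have := i.2
    omega
  have hgen : ∀ (α₀ : AlgebraicCycle X ℤ) (γ₀ : Fin (r + 1) → AlgebraicCycle X ℤ), Cyc.IsChernCap p δ δP O1 r k α₀ γ₀ →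
      (∀ i : Fin (r + 1), IsCyc δP (k - 1) (Cov.iter δP (pl (γ₀ (Fin.rev i))) t i)) ∧
        ∑ i : Fin (r + 1), (-1 : ℤ) ^ (i : ℕ) • Cov.iter δP (pl (γ₀ (Fin.rev i))) t i ∈ prin hP.2.2 (k - 1) :=
    fun α₀ γ₀ h₀ => by
    have hc : ∀ i : Fin (r + 1), IsCyc δP (k - 1) (Cov.iter δP (pl (γ₀ (Fin.rev i))) t i) := fun i => by
      have := L.isCyc_iter hr hP.2.2 hδ _ (h₀.2.1 (Fin.rev i)) hinv t ht i
      rwa [hlvl] at this
    refine ⟨hc, ?_⟩
    have hsum : IsCyc δP (k - 1) (∑ i : Fin (r + 1), (-1 : ℤ) ^ (i : ℕ) • Cov.iter δP (pl (γ₀ (Fin.rev i))) t i) :=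
      isCyc_sum Finset.univ fun i _ =>
        ⟨fun V hV => ((hc i).finite V hV).subset fun x hx => ⟨hx.1, fun h0' => hx.2 (by
          show _ * _ = (0 : ℤ); rw [h0', mul_zero])⟩,
        fun x hx => by show _ * _ = (0 : ℤ); rw [(hc i).zero x hx, mul_zero]⟩
    obtain ⟨b, -, hb⟩ := hsum.exists_cycle
    have h1 : Cyc.RatEquivZero δP (k - 1) b := h₀.2.2 t ht b fun y => by
      rw [hb, Finset.sum_apply]
      refine Finset.sum_congr rfl fun i _ => ?_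
      rw [c1PowFun_eq_iter]
      rfl
    rw [← hb]
    exact h1
  obtain ⟨hc, hg⟩ := hgen α γ hγ
  obtain ⟨hc', hg'⟩ := hgen α' γ' hγ'
  refine L.chern_zero hr hX hP hδ hinv k (fun j => γ j - γ' j) (fun j x hx => ?_) ?_ t ht ?_ j
  · show γ j x - γ' j x = 0
    rw [hγ.2.1 j x hx, hγ'.2.1 j x hx, sub_zero]
  · show Cyc.RatEquivZero δ k (γ 0 - γ' 0)
    rw [hγ.1, hγ'.1]
    exact h
  · have e : ∀ i : Fin (r + 1), Cov.iter δP (pl (γ (Fin.rev i) - γ' (Fin.rev i))) t i =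
        Cov.iter δP (pl (γ (Fin.rev i))) t i - Cov.iter δP (pl (γ' (Fin.rev i))) t i := fun i => by
      have hp : pl (γ (Fin.rev i) - γ' (Fin.rev i)) = pl (γ (Fin.rev i)) - pl (γ' (Fin.rev i)) := funext fun x => by
        show Cyc.pullFun p δP δ _ _ x = Cyc.pullFun p δP δ _ _ x - Cyc.pullFun p δP δ _ _ x
        simp only [Cyc.pullFun]
        split_ifs
        · show (γ (Fin.rev i) (p x) - γ' (Fin.rev i) (p x)) * _ = _
          rw [sub_mul]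
        · rw [sub_zero]
      rw [hp]
      exact iter_sub hP.2.2 hinv (L.isCyc_pull hr hP.2.2 hδ _ (hγ.2.1 _)) (L.isCyc_pull hr hP.2.2 hδ _ (hγ'.2.1 _)) t ht i
    show ∑ i : Fin (r + 1), (-1 : ℤ) ^ (i : ℕ) • Cov.iter δP (pl (γ (Fin.rev i) - γ' (Fin.rev i))) t i ∈ _
    simp only [e, smul_sub, Finset.sum_sub_distrib]
    exact sub_mem hg hg'

end Groth.Agent.CycLib.ProjBdl
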