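import Groth.Agent.CycLib.DevC1Tensor
import Groth.Agent.CycLib.DevSigma
import Groth.Agent.CycLib.DevPhi

/-!
Caps with a difference of first Chern classes along the vanishing locus of a map into a line bundle.
-/

set_option autoImplicit false
set_option linter.style.haveILetI false
set_option maxHeartbeats 800000

universe u

open CategoryTheory Limits AlgebraicGeometry IsLocalRing

namespace Groth.Agent.CycLib.FiltVanish

open Groth.Agent.PullStalk.Sky Groth.Agent.PullStalk.Exact Groth.Agent.CycLib.Dev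

variable {Z : Scheme.{u}} {O : Z.Modules}

/-- `φ` vanishes in the fibre at `x`. -/
def Van {F : Z.Modules} (φ : F ⟶ O) (x : Z) : Prop :=
  ∀ e : F.presheaf.stalk x,
    stalkLin φ x e ∈ maximalIdeal (Z.presheaf.stalk x) • (⊤ : Submodule (Z.presheaf.stalk x) (O.presheaf.stalk x))

theorem smul_mem_m {x : Z} {c : Z.presheaf.stalk x} (hc : ¬ IsUnit c) (t : O.presheaf.stalk x) :
    c • t ∈ maximalIdeal (Z.presheaf.stalk x) • (⊤ : Submodule (Z.presheaf.stalk x) (O.presheaf.stalk x)) :=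
  Submodule.smul_mem_smul ((IsLocalRing.mem_maximalIdeal c).2 hc) trivial

theorem not_isBas_of_mem {x : Z} {t : O.presheaf.stalk x}
    (h : t ∈ maximalIdeal (Z.presheaf.stalk x) • (⊤ : Submodule (Z.presheaf.stalk x) (O.presheaf.stalk x))) :
    ¬ IsBas t := fun ht => mk_ne_zero_of_isBas ht ((Submodule.Quotient.mk_eq_zero _).2 h)

variable (hO : PicF.IsInvertible O)

include hO in
theorem isBas_of_not_mem {x : Z} {t : O.presheaf.stalk x}
    (h : t ∉ maximalIdeal (Z.presheaf.stalk x) • (⊤ : Submodule (Z.presheaf.stalk x) (O.presheaf.stalk x))) :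
    IsBas t := by
  obtain ⟨b, hb⟩ := exists_isBas hO x
  obtain ⟨c, hc⟩ := hb.2 t
  replace hc : c • b = t := hc
  subst hc
  exact isBas_smul hb (by_contra fun hu => h (smul_mem_m hu b))

include hO in
theorem exists_isBas_of_not_van {F : Z.Modules} {φ : F ⟶ O} {x : Z} (h : ¬ Van φ x) :
    ∃ e, IsBas (stalkLin φ x e) := by
  obtain ⟨e, he⟩ := not_forall.1 h
  exact ⟨e, isBas_of_not_mem hO he⟩

include hO in
theorem van_specializes {F : Z.Modules} {φ : F ⟶ O} {ξ x : Z} (h : ξ ⤳ x) (hξ : Van φ ξ) : Van φ x := by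
  by_contra hx
  obtain ⟨e, he⟩ := exists_isBas_of_not_van hO hx
  refine not_isBas_of_mem (hξ (Ref1.sp F h e)) ?_
  rw [stalkLin_sp]
  exact isBas_sp hO h he

theorem van_zero {F : Z.Modules} (hF : IsZero F) (φ : F ⟶ O) (x : Z) : Van φ x := fun e => by
  rw [hF.eq_of_src φ 0, CohDev.stalkLin_zero_apply]
  exact zero_mem _

include hO in
theorem not_van_of_epi {F : Z.Modules} (φ : F ⟶ O) [Epi φ] (x : Z) : ¬ Van φ x := fun h => by
  obtain ⟨b, hb⟩ := exists_isBas hO x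
  obtain ⟨e, rfl⟩ := stalk_surjective φ x b
  exact not_isBas_of_mem (h e) hb

variable [IsLocallyNoetherian Z] {δ : Z → ℤ} (hd : Cyc.IsDimFun Z δ)
  {F'' F G : Z.Modules} (hG : PicF.IsInvertible G) (a : F'' ⟶ F) (b : F ⟶ G) (φ : F ⟶ O)
  (hex : ∀ x, Function.Exact (stalkLin a x) (stalkLin b x)) (hb : ∀ x, Function.Surjective (stalkLin b x))

omit [IsLocallyNoetherian Z] in
include hex in
/-- Where `φ ∘ a` vanishes, `φ` factors through `b` modulo the maximal ideal. -/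
theorem sub_mem_of_eq {x : Z} (hx : Van (a ≫ φ) x) {e e' : F.presheaf.stalk x}
    (he : stalkLin b x e = stalkLin b x e') : stalkLin φ x e - stalkLin φ x e' ∈
      maximalIdeal (Z.presheaf.stalk x) • (⊤ : Submodule (Z.presheaf.stalk x) (O.presheaf.stalk x)) := by
  obtain ⟨w, hw⟩ := ((hex x) (e - e')).1 (by rw [map_sub, he, sub_self])
  have h := hx w
  rw [CohDev.stalkLin_comp_apply, hw, map_sub] at h
  exact h

include hO hG hd hex hb in
/-- `c₁(O) - c₁(G)` moves cycles from the locus of `φ ∘ a` into the locus of `φ`. -/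
theorem exists_step (u : (ξ : Z) → Cyc.secFibre G ξ) (hu : ∀ ξ, u ξ ≠ 0) :
    ∃ s : (ξ : Z) → Cyc.secFibre O ξ, (∀ ξ, s ξ ≠ 0) ∧ ∀ f : Z → ℤ, (∀ x, f x ≠ 0 → Van (a ≫ φ) x) →
      ∀ x, (Cyc.c1CapFun δ O f s - Cyc.c1CapFun δ G f u) x ≠ 0 → Van φ x := by
  classical
  choose σ hσ hσu using fun ξ : Z => exists_isBas_lift hG (u ξ) (hu ξ)
  choose e he using fun ξ : Z => hb ξ (σ ξ)
  choose d hd' using exists_isBas hO
  let τ : (ξ : Z) → O.presheaf.stalk ξ := fun ξ =>
    if IsBas (stalkLin φ ξ (e ξ)) then stalkLin φ ξ (e ξ) else d ξ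
  have hτ : ∀ ξ, IsBas (τ ξ) := fun ξ => by
    simp only [τ]
    split_ifs with h
    · exact h
    · exact hd' ξ
  refine ⟨fun ξ => Submodule.Quotient.mk (τ ξ), fun ξ => mk_ne_zero_of_isBas (hτ ξ), fun f hf x hx => ?_⟩
  by_contra hvx
  refine hx ?_
  show Cyc.c1CapFun δ O f _ x - Cyc.c1CapFun δ G f u x = 0
  by_cases hx'' : Van (a ≫ φ) x
  swap
  · have hz : ∀ ξ, ξ ⤳ x → f ξ = 0 := fun ξ h => by
      by_contra hne
      exact hx'' (van_specializes hO h (hf ξ hne))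
    rw [Cyc.c1CapFun, Cyc.c1CapFun]
    rw [finsum_eq_zero_of_forall_eq_zero, finsum_eq_zero_of_forall_eq_zero, sub_zero] <;>
    · intro ξ
      by_contra hne
      obtain ⟨h1, h2⟩ := mul_ne_zero_iff.1 hne
      exact h1 (hz ξ (secDivFun_ne_zero h2).1)
  rw [Cyc.c1CapFun, Cyc.c1CapFun, sub_eq_zero]
  refine finsum_congr fun ξ => ?_
  by_cases hfξ : f ξ = 0
  · rw [hfξ, zero_mul, zero_mul]
  congr 1
  by_cases h : ξ ⤳ x ∧ δ x + 1 = δ ξ
  swap
  · simp only [Cyc.secDivFun, dif_neg h]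
  have hξ'' : Van (a ≫ φ) ξ := hf ξ hfξ
  obtain ⟨e', he'⟩ := exists_isBas_of_not_van hO hvx
  have ht : IsBas (stalkLin b x e') := by
    refine isBas_of_not_mem hG fun hmem => ?_
    obtain ⟨t, ht⟩ := exists_isBas hG x
    obtain ⟨et, het⟩ := hb x t
    obtain ⟨c, hc⟩ := ht.2 (stalkLin b x e')
    replace hc : c • t = stalkLin b x e' := hc
    have hcu : ¬ IsUnit c := fun hu' => not_isBas_of_mem hmem (hc ▸ isBas_smul ht hu')
    have hsub := sub_mem_of_eq a b φ hex hx'' (e := e') (e' := c • et) (by rw [map_smul, het, hc])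
    rw [map_smul] at hsub
    exact not_isBas_of_mem (by simpa using add_mem hsub (smul_mem_m hcu (stalkLin φ x et))) he'
  obtain ⟨c, hc⟩ := (hσ ξ).2 (Ref1.sp G h.1 (stalkLin b x e'))
  replace hc : c • σ ξ = Ref1.sp G h.1 (stalkLin b x e') := hc
  have hsub : stalkLin φ ξ (Ref1.sp F h.1 e') - c • stalkLin φ ξ (e ξ) ∈
      maximalIdeal (Z.presheaf.stalk ξ) • (⊤ : Submodule (Z.presheaf.stalk ξ) (O.presheaf.stalk ξ)) := by
    rw [← map_smul]
    exact sub_mem_of_eq a b φ hex hξ'' (by rw [map_smul, he, hc, stalkLin_sp])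
  have hbξ : IsBas (stalkLin φ ξ (e ξ)) := by
    refine isBas_of_not_mem hO fun hmem => ?_
    refine not_isBas_of_mem ?_ (isBas_sp hO h.1 he')
    rw [← stalkLin_sp]
    simpa using add_mem hsub (Submodule.smul_mem _ c hmem)
  have hτξ : τ ξ = stalkLin φ ξ (e ξ) := if_pos hbξ
  obtain ⟨c', hc'⟩ := hbξ.2 (Ref1.sp O h.1 (stalkLin φ x e'))
  replace hc' : c' • stalkLin φ ξ (e ξ) = Ref1.sp O h.1 (stalkLin φ x e') := hc'
  have hres : Z.residue ξ c' = Z.residue ξ c := by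
    rw [← sub_eq_zero, ← map_sub]
    by_contra hne
    have hu' : IsUnit (c' - c) := by
      by_contra hn
      exact hne ((IsLocalRing.residue_eq_zero_iff _).2 ((IsLocalRing.mem_maximalIdeal _).2 hn))
    refine not_isBas_of_mem ?_ (isBas_smul hbξ hu')
    rw [sub_smul, hc', ← stalkLin_sp]
    exact hsub
  show Cyc.secDivFun δ O ξ (Submodule.Quotient.mk (τ ξ)) x = Cyc.secDivFun δ G ξ (u ξ) x
  rw [← hσu, hτξ, secDivFun_of_bas hd hO h.1 rfl h.2.symm hbξ he' hc'.symm,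
    secDivFun_of_bas hd hG h.1 rfl h.2.symm (hσ ξ) ht hc.symm, hres]

end Groth.Agent.CycLib.FiltVanish
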