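import Groth.Agent.CycLib.ProjBdl.ChernRel
import Groth.Agent.CycLib.ProjBdl.FiltVanish
import Groth.Agent.CycLib.ShiftC1
import Groth.Agent.PicCl.Basic

/-!
Chern class caps of a bundle filtered by line bundles.
-/

set_option autoImplicit false
set_option linter.style.haveILetI false
set_option maxHeartbeats 800000

universe u

open CategoryTheory Limits AlgebraicGeometry

namespace Groth.Agent.CycLib.ProjBdl

open Groth.Agent.CycLib.Dev Groth.Agent.PullStalk.Exact Groth.Agent.CycLib.FiltVanish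

variable {X P : Scheme.{u}} {p : P ⟶ X} {O1 : P.Modules}

theorem pullback_exact (f : P ⟶ X) {A B C : X.Modules} (a : A ⟶ B) (b : B ⟶ C) (hab : a ≫ b = 0)
    (hS : (ShortComplex.mk a b hab).ShortExact) (x : P) :
    Function.Exact (stalkLin ((Scheme.Modules.pullback f).map a) x) (stalkLin ((Scheme.Modules.pullback f).map b) x) ∧
      Function.Surjective (stalkLin ((Scheme.Modules.pullback f).map b) x) := by
  haveI := hS.epi_g
  haveI : PreservesColimitsOfSize.{0, 0} (Scheme.Modules.pullback f) :=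
    (Scheme.Modules.pullbackPushforwardAdjunction f).leftAdjoint_preservesColimits
  haveI : Epi ((Scheme.Modules.pullback f).map b) :=
    (Functor.preservesEpimorphisms_of_adjunction (Scheme.Modules.pullbackPushforwardAdjunction f)).preserves b
  refine ⟨?_, stalk_surjective _ x⟩
  have hc := isColimitCoforkMapOfIsColimit' (Scheme.Modules.pullback f) hab hS.gIsCokernel
  let i := IsColimit.coconePointUniqueUpToIso (colimit.isColimit _) hc
  have hi : cokernel.π ((Scheme.Modules.pullback f).map a) ≫ i.hom = (Scheme.Modules.pullback f).map b :=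
    IsColimit.comp_coconePointUniqueUpToIso_hom (colimit.isColimit _) hc WalkingParallelPair.one
  intro t
  rw [← hi, CohDev.stalkLin_comp_apply, ← (stalk_exact_cokernel ((Scheme.Modules.pullback f).map a) x t)]
  refine ⟨fun h => ?_, fun h => by rw [h, map_zero]⟩
  have := congrArg (stalkLin i.inv x) h
  rwa [← CohDev.stalkLin_comp_apply, Iso.hom_inv_id, CohDev.stalkLin_id_apply, map_zero] at this

/-- `c₁(N)` commutes with iterated `c₁(O(1))` modulo principal cycles. -/
theorem c1_iter_swap [IsLocallyNoetherian P] {δP : P → ℤ} (hd : Cyc.IsDimFun P δP)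
    (hinv : PicF.IsInvertible O1) {N : P.Modules} (hN : PicF.IsInvertible N) {m : ℤ} {a : P → ℤ}
    (ha : IsCyc δP (m + 1) a) (u : (ξ : P) → Cyc.secFibre N ξ) (hu : ∀ ξ, u ξ ≠ 0)
    (t : ℕ → (ξ : P) → Cyc.secFibre O1 ξ) (ht : ∀ i ξ, t i ξ ≠ 0) (n : ℕ) :
    Cyc.c1CapFun δP N (Cov.iter δP a t n) u - Cov.iter δP (Cyc.c1CapFun δP N a u) t n ∈ prin hd (m - n) := by
  induction n with
  | zero => simp [Cov.iter]
  | succ n ih =>
    have hc := isCyc_iterate hd hinv ha t ht n
    have hc' := isCyc_iterate hd hinv (isCyc_c1 hd hN ha u hu) t ht n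
    rw [show m + 1 - (n : ℤ) = m - (n + 1 : ℕ) + 1 + 1 by push_cast; ring] at hc
    rw [show m - (n : ℤ) = m - (n + 1 : ℕ) + 1 by push_cast; ring] at ih hc'
    have h1 := c1_comm hd hN hinv hc u u (t n) (t n) hu hu (ht n) (ht n)
    have hcu := isCyc_c1 hd hN hc u hu
    have h2 := c1_mem_of_ratEquivZero hd hinv (hcu.sub hc') ih (t n) (ht n)
    rw [c1_sub hcu hc'] at h2
    simpa only [Cov.iter, sub_add_sub_cancel] using add_mem h1 h2

theorem isCyc_sum_smul {δP : P → ℤ} {ι : Type*} (S : Finset ι) {m : ℤ} (c : ι → ℤ) {a : ι → P → ℤ}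
    (ha : ∀ i ∈ S, IsCyc δP m (a i)) : IsCyc δP m (∑ i ∈ S, c i • a i) :=
  isCyc_sum S fun i hi => isCyc_zsmul (c i) (ha i hi)

variable {r : ℕ} (L : Cov p O1 r) (hr : 1 ≤ r) {δ : X → ℤ} {δP : P → ℤ} (hX : Cyc.IsSetup X δ)
  (hPd : Cyc.IsDimFun P δP) (hδ : Cyc.DeltaCompat p δP δ) [IsLocallyNoetherian P]

include L hr hX hPd hδ in
/-- The Whitney formula for a bundle filtered by line bundles, with representatives modulo principal cycles. -/
theorem Cov.filtered_isChernCap' {E : X.Modules} (q : (Scheme.Modules.pullback p).obj E ⟶ O1) [Epi q]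
    (hinv : PicF.IsInvertible O1) (M : Fin (r + 1) → X.Modules) (h0 : IsZero (M 0))
    (e : M (Fin.last r) ≅ E) (Ln : Fin r → X.Modules) (hL : ∀ i, PicF.IsInvertible (Ln i))
    (a : ∀ i : Fin r, M (Fin.castSucc i) ⟶ M (Fin.succ i)) (b : ∀ i : Fin r, M (Fin.succ i) ⟶ Ln i)
    (hab : ∀ i, a i ≫ b i = 0) (hex : ∀ i, (ShortComplex.mk (a i) (b i) (hab i)).ShortExact)
    (k : ℤ) (α : AlgebraicCycle X ℤ) (hα : α ∈ Cyc.Zk X δ k)
    (t : (i : Fin r) → (ξ : X) → Cyc.secFibre (Ln i) ξ) (ht : ∀ i ξ, t i ξ ≠ 0)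
    (κ : Finset (Fin r) → AlgebraicCycle X ℤ) (hκ0 : κ ∅ = α)
    (hκc : ∀ I : Finset (Fin r), IsCyc δ (k - (I.card : ℤ)) ⇑(κ I))
    (hκ : ∀ (I : Finset (Fin r)) (i : Fin r), (∀ i' ∈ I, i' < i) →
      Cyc.pullFun p δP δ ((r : ℤ) - 1) ⇑(κ (insert i I)) -
          Cyc.pullFun p δP δ ((r : ℤ) - 1) (Cyc.c1CapFun δ (Ln i) ⇑(κ I) (t i)) ∈
        prin hPd (k - (I.card : ℤ) - 1 + ((r : ℤ) - 1))) :
    Cyc.IsChernCap p δ δP O1 r k α fun n : Fin (r + 1) =>
      ∑ I ∈ Finset.powersetCard (n : ℕ) Finset.univ, κ I := by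
  classical
  haveI := hX.1
  haveI := L.flat
  have hZ : ∀ n : Fin (r + 1), (∑ I ∈ Finset.powersetCard (n : ℕ) Finset.univ, κ I) ∈
      Cyc.Zk X δ (k - ((n : ℕ) : ℤ)) := fun n x hx => by
    rw [Function.locallyFinsuppWithin.coe_sum, Finset.sum_apply]
    refine Finset.sum_eq_zero fun I hI => (hκc I).zero x ?_
    rwa [(Finset.mem_powersetCard.1 hI).2]
  choose σ hσ using exists_isBas hinv
  let t0 : ℕ → (ξ : P) → Cyc.secFibre O1 ξ := fun _ ξ => Submodule.Quotient.mk (σ ξ)
  have ht0 : ∀ m ξ, t0 m ξ ≠ 0 := fun _ ξ => mk_ne_zero_of_isBas (hσ ξ)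
  refine (L.isChernCap_iff hr hPd hδ hinv k _ hZ α (by simp [hκ0]) t0 ht0).2 ?_
  have hs := L.shiftBy hPd hδ
  let G : Fin r → P.Modules := fun i => (Scheme.Modules.pullback p).obj (Ln i)
  have hG : ∀ i, PicF.IsInvertible (G i) := fun i => PicCl.isInvertible_pullback p (hL i)
  choose τ hτ using fun i : Fin r => exists_isBas (hG i)
  let uu : (i : Fin r) → (ξ : P) → Cyc.secFibre (G i) ξ := fun i ξ => Submodule.Quotient.mk (τ i ξ)
  have huu : ∀ i ξ, uu i ξ ≠ 0 := fun i ξ => mk_ne_zero_of_isBas (hτ i ξ)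
  let ι : (j : Fin (r + 1)) → (M j ⟶ E) :=
    Fin.reverseInduction e.hom (fun i f => a i ≫ f)
  let φ : (j : Fin (r + 1)) → ((Scheme.Modules.pullback p).obj (M j) ⟶ O1) := fun j =>
    (Scheme.Modules.pullback p).map (ι j) ≫ q
  have hφs : ∀ i : Fin r, φ i.castSucc = (Scheme.Modules.pullback p).map (a i) ≫ φ i.succ := fun i => by
    simp only [φ, ι, Fin.reverseInduction_castSucc, Functor.map_comp, Category.assoc]
  let T : Finset (Fin r) → P → ℤ := fun I => Cyc.pullFun p δP δ ((r : ℤ) - 1) ⇑(κ I)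
  have hT : ∀ I, IsCyc δP (k + r - 1 - (I.card : ℤ)) (T I) := fun I => by
    convert ShiftC1.isCyc_pull p hPd hs (hκc I) using 1
    ring
  let S : ℕ → Finset (Fin r) := fun j => Finset.univ.filter fun i => (i : ℕ) < j
  have hScard : ∀ j, j ≤ r → ∀ I ∈ (S j).powerset, I.card ≤ j := fun j _ I hI => by
    refine (Finset.card_le_card (Finset.mem_powerset.1 hI)).trans ?_
    refine (Finset.card_le_card_of_injOn (fun i : Fin r => (i : ℕ)) (t := Finset.range j) ?_ ?_).trans
      (Finset.card_range j).le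
    · intro i hi
      exact Finset.mem_range.2 (Finset.mem_filter.1 hi).2
    · exact fun i _ i' _ h => Fin.ext h
  have key : ∀ (j : ℕ) (hj : j ≤ r), ∃ F : P → ℤ, IsCyc δP (k + r - 1 - j) F ∧
      (∀ x, F x ≠ 0 → Van (φ ⟨j, by omega⟩) x) ∧
      F - ∑ I ∈ (S j).powerset, (-1 : ℤ) ^ I.card • Cov.iter δP (T I) t0 (j - I.card) ∈ prin hPd (k + r - 1 - j) := by
    intro j
    induction j with
    | zero =>
      intro hj
      refine ⟨T ∅, by simpa using hT ∅, fun x _ => ?_, ?_⟩
      · exact van_zero ((Scheme.Modules.pullback p).map_isZero h0) _ x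
      · have : S 0 = ∅ := by simp [S]
        simp [this, Cov.iter]
    | succ j ih =>
      intro hj
      obtain ⟨F, hFc, hFv, hFp⟩ := ih (by omega)
      let i : Fin r := ⟨j, by omega⟩
      have hp := fun x => pullback_exact p (a i) (b i) (hab i) (hex i) x
      obtain ⟨s, hs0, hstep⟩ := exists_step hinv hPd (hG i) ((Scheme.Modules.pullback p).map (a i))
        ((Scheme.Modules.pullback p).map (b i)) (φ i.succ) (fun x => (hp x).1) (fun x => (hp x).2) (uu i) (huu i)
      have hm : k + (r : ℤ) - 1 - (j : ℕ) = k + r - 1 - (j + 1 : ℕ) + 1 := by push_cast; ring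
      rw [hm] at hFc hFp
      refine ⟨Cyc.c1CapFun δP O1 F s - Cyc.c1CapFun δP (G i) F (uu i),
        (isCyc_c1 hPd hinv hFc s hs0).sub (isCyc_c1 hPd (hG i) hFc (uu i) (huu i)),
        hstep F fun x hx => hφs i ▸ hFv x hx, ?_⟩
      have hS : S (j + 1) = insert i (S j) := by
        ext l
        simp only [S, Finset.mem_filter, Finset.mem_insert, Finset.mem_univ, true_and, Fin.ext_iff, i]
        omega
      have hiS : i ∉ S j := by simp [S, i]
      have hterm : ∀ I ∈ (S j).powerset,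
          IsCyc δP (k + r - 1 - (j + 1 : ℕ) + 1) (Cov.iter δP (T I) t0 (j - I.card)) := fun I hI => by
        convert isCyc_iterate hPd hinv (hT I) t0 ht0 (j - I.card) using 1
        have := hScard j (by omega) I hI
        omega
      have hsum := isCyc_sum_smul (S j).powerset (fun I => (-1 : ℤ) ^ I.card) hterm
      have hO := c1_mem_of_ratEquivZero hPd hinv (hFc.sub hsum) hFp s hs0
      rw [c1_sub hFc hsum, c1_sum _ (fun I hI => isCyc_zsmul _ (hterm I hI))] at hO
      simp only [c1_smul] at hO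
      have hO' : Cyc.c1CapFun δP O1 F s -
          ∑ I ∈ (S j).powerset, (-1 : ℤ) ^ I.card • Cov.iter δP (T I) t0 (j + 1 - I.card) ∈
            prin hPd (k + r - 1 - (j + 1 : ℕ)) := by
        have h2 : (∑ I ∈ (S j).powerset, (-1 : ℤ) ^ I.card • Cyc.c1CapFun δP O1 (Cov.iter δP (T I) t0 (j - I.card)) s) -
            ∑ I ∈ (S j).powerset, (-1 : ℤ) ^ I.card • Cov.iter δP (T I) t0 (j + 1 - I.card) ∈
            prin hPd (k + r - 1 - (j + 1 : ℕ)) := by
          rw [← Finset.sum_sub_distrib]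
          refine sum_mem fun I hI => ?_
          rw [← smul_sub, show j + 1 - I.card = j - I.card + 1 by have := hScard j (by omega) I hI; omega]
          exact zsmul_mem (c1_sub_mem hPd hinv (hterm I hI) s (t0 (j - I.card)) hs0 (ht0 (j - I.card))) _
        simpa only [sub_add_sub_cancel] using add_mem hO h2
      have hN := c1_mem_of_ratEquivZero hPd (hG i) (hFc.sub hsum) hFp (uu i) (huu i)
      rw [c1_sub hFc hsum, c1_sum _ (fun I hI => isCyc_zsmul _ (hterm I hI))] at hN
      simp only [c1_smul] at hN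
      have hN' : Cyc.c1CapFun δP (G i) F (uu i) -
          ∑ I ∈ (S j).powerset, (-1 : ℤ) ^ I.card • Cov.iter δP (T (insert i I)) t0 (j - I.card) ∈
            prin hPd (k + r - 1 - (j + 1 : ℕ)) := by
        have h2 : (∑ I ∈ (S j).powerset, (-1 : ℤ) ^ I.card • Cyc.c1CapFun δP (G i) (Cov.iter δP (T I) t0 (j - I.card)) (uu i)) -
            ∑ I ∈ (S j).powerset, (-1 : ℤ) ^ I.card • Cov.iter δP (T (insert i I)) t0 (j - I.card) ∈
            prin hPd (k + r - 1 - (j + 1 : ℕ)) := by
          rw [← Finset.sum_sub_distrib]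
          refine sum_mem fun I hI => ?_
          rw [← smul_sub]
          refine zsmul_mem ?_ _
          have hc := hScard j (by omega) I hI
          have hlt : ∀ i' ∈ I, i' < i := fun i' hi' => by
            have := (Finset.mem_filter.1 (Finset.mem_powerset.1 hI hi')).2
            exact this
          let m : ℤ := k + r - 1 - (I.card : ℤ) - 1
          have hTI : IsCyc δP (m + 1) (T I) := by simpa [m] using hT I
          have hsw := c1_iter_swap hPd hinv (hG i) hTI (uu i) (huu i) t0 ht0 (j - I.card)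
          have hκI : IsCyc δ (k - (I.card : ℤ) - 1 + 1) ⇑(κ I) := by simpa using hκc I
          have hpc := ShiftC1.pull_c1_mem p hPd hs hX.2.2 (hL i) (hG i) hκI (t i) (ht i) (uu i) (huu i)
          rw [show k - (I.card : ℤ) - 1 + ((r : ℤ) - 1) = m by simp only [m]; ring] at hpc
          have h6 := hκ I i hlt
          rw [show k - (I.card : ℤ) - 1 + ((r : ℤ) - 1) = m by simp only [m]; ring] at h6
          replace hpc := add_mem h6 hpc
          rw [sub_add_sub_cancel] at hpc
          have hins : IsCyc δP m (T (insert i I)) := by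
            convert hT (insert i I) using 1
            rw [Finset.card_insert_of_notMem fun h => lt_irrefl i (hlt i h)]
            push_cast [m]
            ring
          have hit := iter_change hPd hinv hins (isCyc_c1 hPd (hG i) hTI (uu i) (huu i)) hpc t0 t0 ht0 ht0 (j - I.card)
          have hm' : m - ((j - I.card : ℕ) : ℤ) = k + r - 1 - (j + 1 : ℕ) := by
            simp only [m]; omega
          rw [hm'] at hsw hit
          simpa only [sub_sub_sub_cancel_right] using sub_mem hsw hit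
        simpa only [sub_add_sub_cancel] using add_mem hN h2
      rw [hS, Finset.sum_powerset_insert hiS]
      have e2 : ∀ I ∈ (S j).powerset,
          (-1 : ℤ) ^ (insert i I).card • Cov.iter δP (T (insert i I)) t0 (j + 1 - (insert i I).card) =
            -((-1 : ℤ) ^ I.card • Cov.iter δP (T (insert i I)) t0 (j - I.card)) := fun I hI => by
        rw [Finset.card_insert_of_notMem fun h => hiS (Finset.mem_powerset.1 hI h), pow_succ, mul_neg_one,
          neg_smul, Nat.add_sub_add_right]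
      rw [Finset.sum_congr rfl e2, Finset.sum_neg_distrib]
      convert sub_mem hO' hN' using 1
      abel
  obtain ⟨F, -, hFv, hFp⟩ := key r le_rfl
  have hF0 : F = 0 := funext fun x => by
    by_contra hx
    have hlast : Epi (φ ⟨r, by omega⟩) := by
      show Epi ((Scheme.Modules.pullback p).map (ι (Fin.last r)) ≫ q)
      simp only [ι, Fin.reverseInduction_last]
      infer_instance
    exact not_van_of_epi hinv (φ ⟨r, Nat.lt_succ_self r⟩) x (hFv x hx)
  rw [hF0, zero_sub, neg_mem_iff, show k + (r : ℤ) - 1 - (r : ℕ) = k - 1 by ring,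
    show S r = Finset.univ by ext l; simp [S], Finset.sum_powerset, Finset.card_univ, Fintype.card_fin] at hFp
  have hA := zsmul_mem hFp ((-1 : ℤ) ^ r)
  convert hA using 1
  rw [relSum, Finset.smul_sum, ← Fin.sum_univ_eq_sum_range (fun n => (-1 : ℤ) ^ r •
    ∑ I ∈ Finset.powersetCard n (Finset.univ : Finset (Fin r)), (-1 : ℤ) ^ I.card • Cov.iter δP (T I) t0 (r - I.card))
    (r + 1)]
  refine Fintype.sum_equiv Fin.revPerm _ _ fun i => ?_
  have hrev : r - ((Fin.rev i : Fin (r + 1)) : ℕ) = (i : ℕ) := by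
    rw [Fin.val_rev]
    have := i.2
    omega
  have hcyc : ∀ I ∈ Finset.powersetCard ((Fin.rev i : Fin (r + 1)) : ℕ) (Finset.univ : Finset (Fin r)),
      IsCyc δP (k + r - 1 - ((Fin.rev i : Fin (r + 1)) : ℕ)) (T I) := fun I hI => by
    have h := hT I
    rwa [(Finset.mem_powersetCard.1 hI).2] at h
  show (-1 : ℤ) ^ (i : ℕ) • Cov.iter δP (Cyc.pullFun p δP δ ((r : ℤ) - 1)
      ⇑(∑ I ∈ Finset.powersetCard ((Fin.rev i : Fin (r + 1)) : ℕ) Finset.univ, κ I)) t0 i = _
  rw [show Cyc.pullFun p δP δ ((r : ℤ) - 1)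
      ⇑(∑ I ∈ Finset.powersetCard ((Fin.rev i : Fin (r + 1)) : ℕ) Finset.univ, κ I) =
      ∑ I ∈ Finset.powersetCard ((Fin.rev i : Fin (r + 1)) : ℕ) Finset.univ, T I from funext fun x => by
      rw [Finset.sum_apply]
      show Cyc.pullFun p δP δ _ _ x = ∑ I ∈ _, Cyc.pullFun p δP δ _ _ x
      simp only [Cyc.pullFun, Function.locallyFinsuppWithin.coe_sum, Finset.sum_apply]
      split_ifs
      · rw [Finset.sum_mul]
      · rw [Finset.sum_const_zero],
    iter_sum hPd hinv _ hcyc t0 ht0, Finset.smul_sum, Finset.smul_sum]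
  refine Finset.sum_congr rfl fun I hI => ?_
  rw [(Finset.mem_powersetCard.1 hI).2, smul_smul]
  simp only [Fin.revPerm_apply, hrev]
  congr 1
  rw [← pow_add]
  refine neg_one_pow_congr ?_
  rw [Fin.val_rev]
  have := i.2
  rw [Nat.even_iff, Nat.even_iff]
  omega

include L hr hX hPd hδ in
/-- The Whitney formula for a bundle filtered by line bundles. -/
theorem Cov.filtered_isChernCap {E : X.Modules} (q : (Scheme.Modules.pullback p).obj E ⟶ O1) [Epi q]
    (hinv : PicF.IsInvertible O1) (M : Fin (r + 1) → X.Modules) (h0 : IsZero (M 0))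
    (e : M (Fin.last r) ≅ E) (Ln : Fin r → X.Modules) (hL : ∀ i, PicF.IsInvertible (Ln i))
    (a : ∀ i : Fin r, M (Fin.castSucc i) ⟶ M (Fin.succ i)) (b : ∀ i : Fin r, M (Fin.succ i) ⟶ Ln i)
    (hab : ∀ i, a i ≫ b i = 0) (hex : ∀ i, (ShortComplex.mk (a i) (b i) (hab i)).ShortExact)
    (k : ℤ) (α : AlgebraicCycle X ℤ) (hα : α ∈ Cyc.Zk X δ k)
    (t : (i : Fin r) → (ξ : X) → Cyc.secFibre (Ln i) ξ) (ht : ∀ i ξ, t i ξ ≠ 0)
    (κ : Finset (Fin r) → AlgebraicCycle X ℤ) (hκ0 : κ ∅ = α)
    (hκ : ∀ (I : Finset (Fin r)) (i : Fin r), (∀ i' ∈ I, i' < i) →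
      ⇑(κ (insert i I)) = Cyc.c1CapFun δ (Ln i) ⇑(κ I) (t i)) :
    Cyc.IsChernCap p δ δP O1 r k α fun n : Fin (r + 1) =>
      ∑ I ∈ Finset.powersetCard (n : ℕ) Finset.univ, κ I := by
  classical
  haveI := hX.1
  haveI := L.flat
  have hκc : ∀ I : Finset (Fin r), IsCyc δ (k - (I.card : ℤ)) ⇑(κ I) := fun I => by
    induction I using Finset.induction_on_max with
    | empty => simpa [hκ0] using IsCyc.of_cycle α hα
    | insert i I hlt ih =>
      rw [hκ I i hlt, Finset.card_insert_of_notMem fun h => lt_irrefl i (hlt i h)]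
      refine isCyc_c1 hX.2.2 (hL i) ?_ (t i) (ht i)
      convert ih using 1
      push_cast
      ring
  exact L.filtered_isChernCap' hr hX hPd hδ q hinv M h0 e Ln hL a b hab hex k α hα t ht κ hκ0 hκc fun I i hlt => by
    rw [hκ I i hlt, sub_self]
    exact zero_mem _

end Groth.Agent.CycLib.ProjBdl
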