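import Groth.Agent.CycLib.ProjBdl.Bundle
import Groth.Agent.CycLib.ShiftPull
import Groth.Agent.CycLib.RatPush

/-!
Injectivity of the projective bundle formula.
-/

set_option autoImplicit false
set_option linter.style.haveILetI false
set_option maxHeartbeats 800000

universe u

open CategoryTheory CategoryTheory.Limits AlgebraicGeometry TopologicalSpace Opposite MvPolynomial IsLocalRing

noncomputable section

namespace Groth.Agent.CycLib.ProjBdl

open Groth.Agent.CycLib.Dev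

variable {X P : Scheme.{u}} {p : P ⟶ X} {O1 : P.Modules} {r : ℕ} (L : Cov p O1 r)

include L in
theorem Cov.flat : Flat p := by
  refine (Flat.iff_flat_stalkMap p).2 fun x => ?_
  suffices hc : ∀ (ζ : X) (m : Fin r) q, (p.stalkMap ((L.T ζ).c m q)).hom.Flat by
    obtain ⟨m, q, hq⟩ := (L.T (p x)).cover x (L.mem _)
    have h := hc (p x) m q
    rwa [hq] at h
  intro ζ m q
  haveI := (L.T ζ).imm m
  haveI : Flat ((L.T ζ).c m ≫ p) := by
    rw [(L.T ζ).over']
    haveI : Flat (Spec.map (CommRingCat.ofHom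
        (C : Γ(X, L.U ζ) →+* MvPolynomial (Var m) Γ(X, L.U ζ)))) :=
      Flat.SpecMap_iff.2 (RingHom.flat_algebraMap_iff.2 (inferInstance :
        Module.Flat Γ(X, L.U ζ) (MvPolynomial (Var m) Γ(X, L.U ζ))))
    infer_instance
  have h := Flat.stalkMap ((L.T ζ).c m ≫ p) q
  rw [Scheme.Hom.stalkMap_comp] at h
  have hiso : (inv (((L.T ζ).c m).stalkMap q)).hom.Flat :=
    RingHom.Flat.of_bijective (ConcreteCategory.bijective_of_isIso _)
  have h2 := RingHom.Flat.comp h hiso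
  have e : (p.stalkMap ((L.T ζ).c m q) ≫ ((L.T ζ).c m).stalkMap q) ≫ inv (((L.T ζ).c m).stalkMap q) =
      p.stalkMap ((L.T ζ).c m q) := by
    rw [Category.assoc, IsIso.hom_inv_id, Category.comp_id]
  rw [← e]
  exact h2

variable (hr : 1 ≤ r) {δ : X → ℤ} {δP : P → ℤ} (hd : Cyc.IsDimFun P δP) (hδ : Cyc.DeltaCompat p δP δ)

include L hd hδ in
theorem Cov.shiftBy : ShiftBy p δP δ ((r : ℤ) - 1) := by
  classical
  intro x hx
  obtain ⟨m, q, hq⟩ := (L.T (p x)).cover x (L.mem _)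
  have hs := (L.T (p x)).pt_specializes (L.mem (p x)) (q := q) (S := (∅ : Finset (Var m))) (by rw [hq])
    fun n hn => absurd hn (Finset.notMem_empty n)
  rw [hq] at hs
  have he := hx _ ((L.T (p x)).p_pt (L.mem _) m ∅) hs
  have h := (L.T (p x)).delta_pt (L.mem _) hd hδ m ∅
  rw [he] at h
  simpa using h

/-- Splitting an iteration. -/
theorem iter_add (a : P → ℤ) (u : ℕ → (ξ : P) → Cyc.secFibre O1 ξ) (v : (ξ : P) → Cyc.secFibre O1 ξ) (m s : ℕ) :
    Cov.iter δP (Cov.iter δP a u m) (fun _ => v) s =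
      Cov.iter δP a (fun n => if n < m then u n else v) (m + s) := by
  induction s with
  | zero =>
    show Cov.iter δP a u m = _
    suffices h : ∀ n, n ≤ m → Cov.iter δP a u n = Cov.iter δP a (fun l => if l < m then u l else v) n from h m le_rfl
    intro n hn
    induction n with
    | zero => rfl
    | succ n ih => simp only [Cov.iter, ih (by omega), if_pos (show n < m by omega)]
  | succ s ih =>
    show Cyc.c1CapFun δP O1 _ v = Cyc.c1CapFun δP O1 _ (if m + s < m then u (m + s) else v)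
    rw [ih, if_neg (by omega)]
    rfl

theorem c1_zero (s : (ξ : P) → Cyc.secFibre O1 ξ) : Cyc.c1CapFun δP O1 0 s = 0 :=
  funext fun _ => finsum_eq_zero_of_forall_eq_zero fun _ => zero_mul _

theorem isCyc_sum {ι : Type*} (S : Finset ι) {m : ℤ} {a : ι → P → ℤ} (ha : ∀ i ∈ S, IsCyc δP m (a i)) :
    IsCyc δP m (∑ i ∈ S, a i) := by
  refine ⟨fun V hV => (S.finite_toSet.biUnion fun i hi => (ha i hi).finite V hV).subset fun x hx => ?_,
    fun x hx => by rw [Finset.sum_apply]; exact Finset.sum_eq_zero fun i hi => (ha i hi).zero x hx⟩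
  obtain ⟨hxV, hx⟩ := hx
  rw [Function.mem_support, Finset.sum_apply] at hx
  obtain ⟨i, hi, hne⟩ := Finset.exists_ne_zero_of_sum_ne_zero hx
  exact Set.mem_biUnion hi ⟨hxV, hne⟩

theorem c1_sum {ι : Type*} (S : Finset ι) {m : ℤ} {a : ι → P → ℤ} (ha : ∀ i ∈ S, IsCyc δP m (a i))
    (s : (ξ : P) → Cyc.secFibre O1 ξ) :
    Cyc.c1CapFun δP O1 (∑ i ∈ S, a i) s = ∑ i ∈ S, Cyc.c1CapFun δP O1 (a i) s := by
  funext x
  simp only [Cyc.c1CapFun, Finset.sum_apply, Finset.sum_mul]
  exact finsum_sum_comm S _ fun i hi => finite_c1_term (ha i hi) s x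

/-- The push-forward of cycles as a homomorphism. -/
def mapHom [QuasiCompact p] : AlgebraicCycle P ℤ →+ (X → ℤ) :=
  AddMonoidHom.ofMapSub (fun z => ⇑(AlgebraicCycle.map p δP δ z)) fun a b => funext (map_sub_apply p δP δ a b)

variable [IsLocallyNoetherian P] (hinv : PicF.IsInvertible O1)

include hd hinv in
theorem isCyc_iterate {m : ℤ} {a : P → ℤ} (ha : IsCyc δP m a) (t : ℕ → (ξ : P) → Cyc.secFibre O1 ξ)
    (ht : ∀ i ξ, t i ξ ≠ 0) (n : ℕ) : IsCyc δP (m - n) (Cov.iter δP a t n) := by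
  induction n with
  | zero => simpa [Cov.iter] using ha
  | succ n ih =>
    have hm : m - n = m - (n + 1 : ℕ) + 1 := by push_cast; ring
    rw [hm] at ih
    exact isCyc_c1 hd hinv ih _ (ht n)

include hd hinv in
theorem iterate_mem {m : ℤ} {a : P → ℤ} (ha : IsCyc δP m a) (h : a ∈ prin hd m)
    (t : ℕ → (ξ : P) → Cyc.secFibre O1 ξ) (ht : ∀ i ξ, t i ξ ≠ 0) (n : ℕ) :
    Cov.iter δP a t n ∈ prin hd (m - n) := by
  induction n with
  | zero => simpa [Cov.iter] using h
  | succ n ih =>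
    have hm : m - n = m - (n + 1 : ℕ) + 1 := by push_cast; ring
    have hc := isCyc_iterate hd hinv ha t ht n
    rw [hm] at ih hc
    exact c1_mem_of_ratEquivZero hd hinv hc ih (t n) (ht n)

include hd hinv in
theorem iter_sum {ι : Type*} (S : Finset ι) {m : ℤ} {a : ι → P → ℤ} (ha : ∀ i ∈ S, IsCyc δP m (a i))
    (t : ℕ → (ξ : P) → Cyc.secFibre O1 ξ) (ht : ∀ i ξ, t i ξ ≠ 0) (n : ℕ) :
    Cov.iter δP (∑ i ∈ S, a i) t n = ∑ i ∈ S, Cov.iter δP (a i) t n := by
  induction n with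
  | zero => rfl
  | succ n ih =>
    simp only [Cov.iter, ih]
    exact c1_sum S (fun i hi => isCyc_iterate hd hinv (ha i hi) t ht n) (t n)

include hd hinv in
theorem iter_sub {m : ℤ} {a b : P → ℤ} (ha : IsCyc δP m a) (hb : IsCyc δP m b)
    (t : ℕ → (ξ : P) → Cyc.secFibre O1 ξ) (ht : ∀ i ξ, t i ξ ≠ 0) (n : ℕ) :
    Cov.iter δP (a - b) t n = Cov.iter δP a t n - Cov.iter δP b t n := by
  induction n with
  | zero => rfl
  | succ n ih =>
    simp only [Cov.iter, ih]
    exact c1_sub (isCyc_iterate hd hinv ha t ht n) (isCyc_iterate hd hinv hb t ht n) (t n)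

include L hr hd hδ hinv in
/-- The projective bundle formula is injective. -/
theorem Cov.injective [IsProper p] (hX : Cyc.IsSetup X δ) (hP : Cyc.IsSetup P δP) (k : ℤ)
    (α : Fin r → AlgebraicCycle X ℤ) (hα : ∀ i : Fin r, α i ∈ Cyc.Zk X δ (k + ((i : ℕ) : ℤ)))
    (t : Fin r → ℕ → (ξ : P) → Cyc.secFibre O1 ξ) (ht : ∀ i m ξ, t i m ξ ≠ 0) (β : AlgebraicCycle P ℤ)
    (hβ : ⇑β = ∑ i : Fin r, Cov.iter δP (Cyc.pullFun p δP δ ((r : ℤ) - 1) ⇑(α i)) (t i) (i : ℕ))
    (h0 : Cyc.RatEquivZero δP (k + r - 1) β) : ∀ j : Fin r, Cyc.RatEquivZero δ (k + ((j : ℕ) : ℤ)) (α j) := by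
  classical
  haveI := hX.1
  haveI := L.flat
  suffices hind : ∀ (s : ℕ) (j : Fin r), (j : ℕ) + s + 1 = r →
      Cyc.RatEquivZero δ (k + ((j : ℕ) : ℤ)) (α j) from fun j => hind (r - 1 - j) j (by have := j.2; omega)
  intro s
  induction s using Nat.strong_induction_on with
  | _ s IH =>
    intro j hj
    let pl := fun i : Fin r => Cyc.pullFun p δP δ ((r : ℤ) - 1) ⇑(α i)
    let v : (ξ : P) → Cyc.secFibre O1 ξ := t ⟨0, hr⟩ 0
    let τ : Fin r → ℕ → (ξ : P) → Cyc.secFibre O1 ξ := fun i n => if n < (i : ℕ) then t i n else v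
    have hτ : ∀ i n ξ, τ i n ξ ≠ 0 := fun i n ξ => by
      simp only [τ]; split_ifs
      · exact ht i n ξ
      · exact ht _ 0 ξ
    have hpl : ∀ i : Fin r, IsCyc δP (k + (i : ℕ) + (r : ℤ) - 1) (pl i) :=
      fun i => L.isCyc_pull hr hd hδ (α i) (hα i)
    have hterm : ∀ i : Fin r, IsCyc δP (k + (r : ℤ) - 1) (Cov.iter δP (pl i) (t i) i) := fun i => by
      convert isCyc_iterate hd hinv (hpl i) (t i) (ht i) i using 1
      ring
    have hcyc : ∀ i : Fin r, IsCyc δP (k + (j : ℕ)) (Cov.iter δP (pl i) (τ i) (i + s)) := fun i => by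
      convert isCyc_iterate hd hinv (hpl i) (τ i) (hτ i) (i + s) using 1
      push_cast
      omega
    have hsum : Cov.iter δP ⇑β (fun _ => v) s = ∑ i : Fin r, Cov.iter δP (pl i) (τ i) (i + s) := by
      rw [hβ, iter_sum hd hinv Finset.univ (fun i _ => hterm i) (fun _ => v) (fun _ ξ => ht _ 0 ξ) s]
      exact Finset.sum_congr rfl fun i _ => iter_add _ _ _ _ _
    have hmem : Cov.iter δP ⇑β (fun _ => v) s ∈ prin hd (k + (j : ℕ)) := by
      have hk : k + (r : ℤ) - 1 - s = k + ((j : ℕ) : ℤ) := by omega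
      rw [← hk]
      exact iterate_mem hd hinv (hβ ▸ isCyc_sum Finset.univ fun i _ => hterm i) h0 _ (fun _ ξ => ht _ 0 ξ) s
    choose z hzk hz using fun i => (hcyc i).exists_cycle
    have hzsum : Cyc.RatEquivZero δP (k + (j : ℕ)) (∑ i : Fin r, z i) := by
      have e : ⇑(∑ i : Fin r, z i) = Cov.iter δP ⇑β (fun _ => v) s := by
        rw [hsum, Function.locallyFinsuppWithin.coe_sum]
        exact Finset.sum_congr rfl fun i _ => hz i
      rw [← e] at hmem
      exact hmem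
    have hmap0 : ∀ w : AlgebraicCycle P ℤ, Cyc.RatEquivZero δP (k + (j : ℕ)) w →
        mapHom (p := p) (δ := δ) (δP := δP) w ∈ prin hX.2.2 (k + (j : ℕ)) := fun w hw => by
      have h := ratEquiv_map δP δ hd hX.2.2 p hδ _ w 0 (by simpa [Cyc.RatEquiv] using hw)
      have h' : ⇑(AlgebraicCycle.map p δP δ w - AlgebraicCycle.map p δP δ 0 : AlgebraicCycle X ℤ) ∈ prin hX.2.2 (k + (j : ℕ)) := h
      have e0 : ⇑(AlgebraicCycle.map p δP δ (0 : AlgebraicCycle P ℤ)) = 0 :=
        (mapHom (p := p) (δ := δ) (δP := δP)).map_zero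
      rw [Function.locallyFinsuppWithin.coe_sub, e0, sub_zero] at h'
      exact h'
    have hother : ∀ i : Fin r, i ≠ j →
        mapHom (p := p) (δ := δ) (δP := δP) (z i) ∈ prin hX.2.2 (k + (j : ℕ)) := fun i hij => by
      rcases lt_or_gt_of_ne (fun e => hij (Fin.ext e) : (i : ℕ) ≠ j) with hlt | hgt
      · have h := (L.map_iter hr hd hδ (α i) (hα i) hinv hX.2.2 (τ i) (hτ i) (i + s) (by omega) (z i) (hz i)).1
          (by omega)
        have hk : k + (i : ℕ) + (r : ℤ) - 1 - (i + s : ℕ) = k + (j : ℕ) := by push_cast; omega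
        rw [hk] at h
        exact h
      · have hi0 : Cyc.RatEquivZero δ (k + (i : ℕ)) (α i) := IH (r - 1 - i) (by omega) i (by omega)
        obtain ⟨w, -, hw⟩ := (hpl i).exists_cycle
        have hwp := ratEquivZero_pull_shift p hP hX (L.shiftBy hd hδ) hi0 w fun x => by rw [hw]
        have hwp' : pl i ∈ prin hd (k + (i : ℕ) + (r : ℤ) - 1) := by
          rw [← hw, show k + ((i : ℕ) : ℤ) + (r : ℤ) - 1 = k + (i : ℕ) + ((r : ℤ) - 1) by ring]
          exact hwp
        refine hmap0 _ ?_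
        have hk : k + (i : ℕ) + (r : ℤ) - 1 - (i + s : ℕ) = k + (j : ℕ) := by push_cast; omega
        have := iterate_mem hd hinv (hpl i) hwp' (τ i) (hτ i) (i + s)
        rw [hk, ← hz] at this
        exact this
    have hmain : mapHom (p := p) (δ := δ) (δP := δP) (z j) ∈ prin hX.2.2 (k + (j : ℕ)) := by
      have h := hmap0 _ hzsum
      rw [map_sum, ← Finset.add_sum_erase _ _ (Finset.mem_univ j)] at h
      exact (add_mem_cancel_right (sum_mem fun i hi => hother i (Finset.ne_of_mem_erase hi))).1 h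
    have hlast := (L.map_iter hr hd hδ (α j) (hα j) hinv hX.2.2 (τ j) (hτ j) (j + s) (by omega) (z j) (hz j)).2
      (by omega)
    have h1 : ⇑(AlgebraicCycle.map p δP δ (z j) - α j : AlgebraicCycle X ℤ) ∈ prin hX.2.2 (k + (j : ℕ)) := hlast
    have h2 := sub_mem hmain h1
    have e : mapHom (p := p) (δ := δ) (δP := δP) (z j) - ⇑(AlgebraicCycle.map p δP δ (z j) - α j : AlgebraicCycle X ℤ) = ⇑(α j) := by
      rw [Function.locallyFinsuppWithin.coe_sub]
      exact sub_sub_cancel _ _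
    rw [e] at h2
    exact h2

end Groth.Agent.CycLib.ProjBdl
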