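import Groth.Agent.CycLib.ProjBdl.Points
import Groth.Agent.CycLib.DevC1Tensor
import Groth.Agent.CycLib.MapLib
import Groth.Agent.LFFrame.Basic

/-!
Iterated first Chern classes of the fundamental sheaf on pullbacks of cycles.
-/

set_option autoImplicit false
set_option linter.style.haveILetI false
set_option maxHeartbeats 800000

universe u

open CategoryTheory CategoryTheory.Limits AlgebraicGeometry TopologicalSpace Opposite MvPolynomial IsLocalRing

noncomputable section

namespace Groth.Agent.CycLib.ProjBdl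

open Groth.Agent.PullStalk.Sky Groth.Agent.CycLib.Dev

variable {X P : Scheme.{u}} {p : P ⟶ X} {O1 : P.Modules} {r : ℕ} {U : X.Opens} {hU : IsAffineOpen U}
  (T : Charts p O1 r U hU) (hr : 1 ≤ r) {ζ : X} (hζ : ζ ∈ U)

theorem mk_smul_eq_zero_iff {L : P.Modules} {x : P} {t : L.presheaf.stalk x} (ht : IsBas t) (f : P.presheaf.stalk x) :
    (Submodule.Quotient.mk (f • t) : Cyc.secFibre L x) = 0 ↔ f ∈ maximalIdeal (P.presheaf.stalk x) := by
  refine ⟨fun h0 => ?_, fun hf => (Submodule.Quotient.mk_eq_zero _).2 (Submodule.smul_mem_smul hf trivial)⟩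
  by_contra hf
  exact mk_ne_zero_of_isBas (isBas_smul ht (IsLocalRing.notMem_maximalIdeal.1 hf)) h0

/-- The germ of a coordinate section. -/
def Charts.g (n : Fin r) (x : P) (hx : p x ∈ U) : O1.presheaf.stalk x := germM O1 (p ⁻¹ᵁ U) x hx (T.sec n)

theorem Charts.g_rel (m n : Fin r) (q : PrimeSpectrum (T.B m)) :
    T.g n (T.c m q) (T.le m (T.mem_range m q)) = T.germ m q (if hn : n = m then 1 else MvPolynomial.X ⟨n, hn⟩) •
      T.g m (T.c m q) (T.le m (T.mem_range m q)) := by
  have hx := T.mem_range m q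
  have h := congrArg (germM O1 (T.c m).opensRange (T.c m q) hx) (T.rel m n)
  erw [germM_smul] at h
  have e1 : ∀ n', germM O1 (T.c m).opensRange (T.c m q) hx (O1.presheaf.map (homOfLE (T.le m)).op (T.sec n')) =
      T.g n' (T.c m q) (T.le m hx) := fun n' => O1.presheaf.germ_res_apply _ _ _ _
  rw [e1, e1, T.fun'_fn] at h
  exact h

theorem Charts.g_bas (m : Fin r) (q : PrimeSpectrum (T.B m)) :
    IsBas (T.g m (T.c m q) (T.le m (T.mem_range m q))) := T.bas m _ (T.mem_range m q)

/-- Vanishing of a coordinate. -/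
def Charts.Van (n : Fin r) (x : P) : Prop :=
  ∃ hx : p x ∈ U, (Submodule.Quotient.mk (T.g n x hx) : Cyc.secFibre O1 x) = 0

theorem Charts.van_iff (m n : Fin r) (q : PrimeSpectrum (T.B m)) :
    T.Van n (T.c m q) ↔ (if hn : n = m then 1 else MvPolynomial.X ⟨n, hn⟩) ∈ q.asIdeal := by
  rw [← T.mem_max_iff, ← mk_smul_eq_zero_iff (T.g_bas m q), ← T.g_rel]
  exact ⟨fun ⟨_, h⟩ => h, fun h => ⟨_, h⟩⟩

theorem Charts.not_van_self (m : Fin r) (q : PrimeSpectrum (T.B m)) : ¬ T.Van m (T.c m q) := by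
  rw [T.van_iff, dif_pos rfl, ← Ideal.eq_top_iff_one]
  exact q.isPrime.ne_top

theorem Charts.van_X (m : Fin r) (n : Var m) (q : PrimeSpectrum (T.B m)) :
    T.Van n.1 (T.c m q) ↔ MvPolynomial.X n ∈ q.asIdeal := by
  rw [T.van_iff, dif_neg n.2]

theorem Charts.van_of_specializes {n : Fin r} {ξ x : P} (h : ξ ⤳ x) (hx : p x ∈ U) (hv : T.Van n ξ) : T.Van n x := by
  obtain ⟨m, q, rfl⟩ := T.cover x hx
  obtain ⟨q', rfl⟩ : ξ ∈ Set.range (T.c m) := h.mem_open (T.c m).opensRange.2 (T.mem_range m q)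
  exact (T.van_iff m n q).2 ((PrimeSpectrum.le_iff_specializes q' q).2
    ((T.c m).isOpenEmbedding.isInducing.specializes_iff.1 h) ((T.van_iff m n q').1 hv))

variable {δ : X → ℤ} {δP : P → ℤ} (hd : Cyc.IsDimFun P δP) (hδ : Cyc.DeltaCompat p δP δ)

include hd hδ in
theorem Charts.delta_pt (m : Fin r) (S : Finset (Var m)) :
    δP (T.pt hζ m S) = δ ζ + ((r : ℤ) - 1) - S.card := by
  classical
  have hcard : Fintype.card (Var m) + 1 = r := by
    rw [Fintype.card_subtype_compl, Fintype.card_fin, Fintype.card_subtype_eq]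
    have := m.2
    omega
  have hnn : δ ζ ≤ δP (T.pt hζ m Finset.univ) := by
    obtain ⟨N, -, hN⟩ := hδ (T.pt hζ m Finset.univ)
    rw [hN, T.p_pt]
    omega
  have hstep : ∀ (S : Finset (Var m)) (n : Var m), n ∉ S →
      δP (T.pt hζ m (insert n S)) + 1 ≤ δP (T.pt hζ m S) := fun S n hn => by
    have hne : T.pt hζ m S ≠ T.pt hζ m (insert n S) := fun e => hn (by
      rw [T.pt_injective hζ e]; exact Finset.mem_insert_self n S)
    have := (hd _ _ (T.pt_mono hζ (Finset.subset_insert n S)) hne).1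
    omega
  have hup : ∀ S : Finset (Var m), δP (T.pt hζ m S) ≤ δ ζ + ((r : ℤ) - 1) - S.card := by
    intro S
    induction S using Finset.induction with
    | empty =>
      have h := T.delta_le hδ m (T.subPrime hζ m ∅)
      rw [show T.c m (T.subPrime hζ m ∅) = T.pt hζ m ∅ from rfl, T.p_pt] at h
      simpa using h
    | insert n S hn ih =>
      have := hstep S n hn
      rw [Finset.card_insert_of_notMem hn]
      push_cast
      omega
  have hlo : ∀ j (S : Finset (Var m)), j + S.card = Fintype.card (Var m) → δ ζ + j ≤ δP (T.pt hζ m S) := by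
    intro j
    induction j with
    | zero =>
      intro S hS
      rw [Finset.card_eq_iff_eq_univ S |>.1 (by omega)]
      simpa using hnn
    | succ j ih =>
      intro S hS
      obtain ⟨n, hn⟩ : ∃ n, n ∉ S := by
        by_contra hc
        push Not at hc
        rw [Finset.eq_univ_iff_forall.2 hc, Finset.card_univ] at hS
        omega
      have h1 := ih (insert n S) (by rw [Finset.card_insert_of_notMem hn]; omega)
      have h2 := hstep S n hn
      push_cast
      omega
  have hS := S.card_le_univ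
  have h1 := hlo (Fintype.card (Var m) - S.card) S (by omega)
  have h2 := hup S
  omega

include hζ hd hδ in
theorem Charts.delta_le_van (W : Finset (Fin r)) {x : P} (hx : p x = ζ) (hW : ∀ n ∈ W, T.Van n x) :
    δP x ≤ δ ζ + ((r : ℤ) - 1) - W.card := by
  classical
  obtain ⟨m, q, rfl⟩ := T.cover x (hx ▸ hζ)
  have hmW : m ∉ W := fun h => T.not_van_self m q (hW m h)
  let S : Finset (Var m) := W.subtype fun n => n ≠ m
  have hcard : S.card = W.card := by
    rw [Finset.card_subtype]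
    congr 1
    exact Finset.filter_true_of_mem fun n hn e => hmW (e ▸ hn)
  have h1 := T.delta_pt hζ hd hδ m S
  have h2 := le_of_specializes hd (T.pt_specializes hζ hx (S := S) fun n hn =>
    (T.van_X m n q).1 (hW _ (Finset.mem_subtype.1 hn)))
  omega

/-- The first coordinate. -/
def o : Fin r := ⟨0, hr⟩

/-- The coordinates `1, …, i`. -/
def firstVars (i : ℕ) : Finset (Var (o hr)) := Finset.univ.filter fun n => (n.1 : ℕ) ≤ i

theorem card_firstVars (i : ℕ) (hi : i + 1 ≤ r) : (firstVars hr i).card = i := by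
  classical
  refine (Finset.card_bij (t := Finset.range i) (fun n _ => (n.1 : ℕ) - 1) (fun n hn => ?_)
    (fun a _ b _ e => ?_) fun j hj => ?_).trans (Finset.card_range i)
  · have h0 : (n.1 : ℕ) ≠ 0 := fun h => n.2 (Fin.ext h)
    have := (Finset.mem_filter.1 hn).2
    simp only [Finset.mem_range]
    omega
  · have ha : (a.1 : ℕ) ≠ 0 := fun h => a.2 (Fin.ext h)
    have hb : (b.1 : ℕ) ≠ 0 := fun h => b.2 (Fin.ext h)
    exact Subtype.ext (Fin.ext (by omega))
  · have hj' := Finset.mem_range.1 hj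
    refine ⟨⟨⟨j + 1, by omega⟩, fun h => by simpa [o] using congrArg Fin.val h⟩,
      Finset.mem_filter.2 ⟨Finset.mem_univ _, by simp; omega⟩, by simp⟩

/-- The generic point of the `i`-th coordinate subspace of the fibre. -/
def Charts.lin (i : ℕ) : P := T.pt hζ (o hr) (firstVars hr i)

include hd hδ in
theorem Charts.delta_lin (i : ℕ) (hi : i + 1 ≤ r) : δP (T.lin hr hζ i) = δ ζ + ((r : ℤ) - 1) - i := by
  rw [Charts.lin, T.delta_pt hζ hd hδ, card_firstVars hr i hi]

theorem Charts.p_lin (i : ℕ) : p (T.lin hr hζ i) = ζ := T.p_pt hζ _ _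

include hd hδ in
theorem Charts.eq_lin (i : ℕ) (hi : i + 1 ≤ r) {x : P} (hx : p x = ζ) (hdx : δ ζ + ((r : ℤ) - 1) - i ≤ δP x)
    (hv : ∀ n : Fin r, 1 ≤ (n : ℕ) → (n : ℕ) ≤ i → T.Van n x) : x = T.lin hr hζ i := by
  classical
  let W : Finset (Fin r) := (firstVars hr i).map (Function.Embedding.subtype _)
  have hW : ∀ n ∈ W, T.Van n x := fun n hn => by
    obtain ⟨v, hv', rfl⟩ := Finset.mem_map.1 hn
    exact hv _ (Nat.one_le_iff_ne_zero.2 fun h => v.2 (Fin.ext h)) (Finset.mem_filter.1 hv').2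
  have ho : ¬ T.Van (o hr) x := fun h => by
    have hle := T.delta_le_van hζ hd hδ (insert (o hr) W) hx fun n hn => by
      rcases Finset.mem_insert.1 hn with rfl | hn
      exacts [h, hW n hn]
    have hno : o hr ∉ W := fun hn => by
      obtain ⟨v, -, he⟩ := Finset.mem_map.1 hn
      exact v.2 he
    rw [Finset.card_insert_of_notMem hno, Finset.card_map, card_firstVars hr i hi] at hle
    push_cast at hle
    omega
  obtain ⟨m, q, rfl⟩ := T.cover x (hx ▸ hζ)
  obtain ⟨q', hq'⟩ : T.c m q ∈ Set.range (T.c (o hr)) := by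
    by_cases hmo : m = o hr
    · subst hmo; exact ⟨q, rfl⟩
    · have ho' := mt (T.van_iff m (o hr) q).2 ho
      rw [dif_neg (Ne.symm hmo)] at ho'
      have : q ∈ T.c m ⁻¹ᵁ (T.c (o hr)).opensRange := by
        rw [T.preimage m (o hr) (Ne.symm hmo)]; exact ho'
      exact this
  rw [← hq'] at hx hdx hW ⊢
  have hsp : T.lin hr hζ i ⤳ T.c (o hr) q' := T.pt_specializes hζ hx fun n hn =>
    (T.van_X (o hr) n q').1 (hW n.1 (Finset.mem_map.2 ⟨n, hn, rfl⟩))
  refine (eq_of_specializes hd hsp ?_).symm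
  rw [T.delta_lin hr hζ hd hδ i hi]
  exact hdx

theorem Charts.not_van_lin (i : ℕ) (n : Fin r) (hn : i < (n : ℕ)) : ¬ T.Van n (T.lin hr hζ i) := by
  intro h
  have hno : n ≠ o hr := fun e => by rw [e] at hn; exact absurd hn (by simp [o])
  rw [Charts.lin, Charts.pt, T.van_X (o hr) ⟨n, hno⟩] at h
  have := (Finset.mem_filter.1 ((T.X_mem_ker hζ _).1 h)).2
  simp at this
  omega

theorem Charts.van_lin (i : ℕ) (n : Fin r) (h1 : 1 ≤ (n : ℕ)) (hn : (n : ℕ) ≤ i) : T.Van n (T.lin hr hζ i) := by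
  have hno : n ≠ o hr := fun e => by rw [e] at h1; exact absurd h1 (by simp [o])
  rw [Charts.lin, Charts.pt, T.van_X (o hr) ⟨n, hno⟩]
  exact (T.X_mem_ker hζ _).2 (Finset.mem_filter.2 ⟨Finset.mem_univ _, hn⟩)

theorem Charts.lin_specializes (i : ℕ) : T.lin hr hζ i ⤳ T.lin hr hζ (i + 1) :=
  T.pt_mono hζ fun n hn => Finset.mem_filter.2 ⟨Finset.mem_univ _, (Finset.mem_filter.1 hn).2.trans (Nat.le_succ i)⟩

theorem Charts.germ_mem_ptPrime (m : Fin r) {q q' : PrimeSpectrum (T.B m)} (h : T.c m q' ⤳ T.c m q) {b : T.B m}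
    (hb : b ∈ q'.asIdeal) : T.germ m q b ∈ (ptPrime (T.c m q) (T.c m q') h).asIdeal := by
  change _ ∈ RingHom.ker (Cyc.specMap _ _ h)
  rw [ker_specMap_eq_comap, Ideal.mem_comap]
  have e : P.presheaf.stalkSpecializes h (T.germ m q b) = T.germ m q' b :=
    P.presheaf.germ_stalkSpecializes_apply (T.mem_range m q) h _
  erw [e]
  exact (T.mem_max_iff m q' b).2 hb

open Classical in
include hd hδ in
/-- The divisor of the next coordinate on a coordinate subspace is the next one. -/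
theorem Charts.secDiv_lin (hinv : PicF.IsInvertible O1) [IsLocallyNoetherian P] (i : ℕ) (hi : i + 1 < r) (x : P)
    (hx : p x = ζ) :
    Cyc.secDivFun δP O1 (T.lin hr hζ i)
        (Submodule.Quotient.mk (T.g ⟨i + 1, hi⟩ (T.lin hr hζ i) ((T.p_lin hr hζ i).symm ▸ hζ))) x =
      if x = T.lin hr hζ (i + 1) then 1 else 0 := by
  classical
  let ξ := T.lin hr hζ i
  have hξU : p ξ ∈ U := (T.p_lin hr hζ i).symm ▸ hζ
  have hxU : p x ∈ U := hx ▸ hζ
  have hdξ := T.delta_lin hr hζ hd hδ i hi.le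
  have hdl := T.delta_lin hr hζ hd hδ (i + 1) hi
  by_cases hcond : ξ ⤳ x ∧ δP x + 1 = δP ξ
  swap
  · rw [Cyc.secDivFun, dif_neg hcond, if_neg]
    rintro rfl
    exact hcond ⟨T.lin_specializes hr hζ i, by push_cast at hdl; change δP (T.lin hr hζ (i + 1)) + 1 = δP (T.lin hr hζ i); omega⟩
  obtain ⟨h, h1⟩ := hcond
  have h1' : δP x + 1 = δP (T.lin hr hζ i) := h1
  have hsp : Ref1.sp O1 h (T.g ⟨i + 1, hi⟩ x hxU) = T.g ⟨i + 1, hi⟩ ξ hξU := Ref1.sp_germ O1 h hxU _
  by_cases hvx : T.Van ⟨i + 1, hi⟩ x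
  · have hxl : x = T.lin hr hζ (i + 1) := T.eq_lin hr hζ hd hδ (i + 1) hi hx (by omega) fun n hn1 hn2 => by
      rcases Nat.lt_or_ge i (n : ℕ) with hlt | hge
      · rwa [show n = ⟨i + 1, hi⟩ from Fin.ext (by simp; omega)]
      · exact T.van_of_specializes h hxU (T.van_lin hr hζ i n hn1 hge)
    rw [if_pos hxl]
    subst hxl
    have hno : (⟨i + 1, hi⟩ : Fin r) ≠ o hr := fun e => by simpa [o] using congrArg Fin.val e
    let v : Var (o hr) := ⟨⟨i + 1, hi⟩, hno⟩
    let q := T.subPrime hζ (o hr) (firstVars hr (i + 1))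
    let q' := T.subPrime hζ (o hr) (firstVars hr i)
    let f := T.germ (o hr) q (MvPolynomial.X v)
    have hs : T.g ⟨i + 1, hi⟩ (T.c (o hr) q) (T.le _ (T.mem_range _ q)) = f • T.g (o hr) (T.c (o hr) q) (T.le _ (T.mem_range _ q)) := by
      have := T.g_rel (o hr) ⟨i + 1, hi⟩ q
      rwa [dif_neg hno] at this
    have hf : f ∉ (ptPrime (T.c (o hr) q) (T.c (o hr) q') h).asIdeal := by
      intro hf
      change f ∈ RingHom.ker (Cyc.specMap _ _ h) at hf
      rw [ker_specMap_eq_comap] at hf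
      replace hf := Ideal.mem_comap.1 hf
      have e : P.presheaf.stalkSpecializes h f = T.germ (o hr) q' (MvPolynomial.X v) :=
        P.presheaf.germ_stalkSpecializes_apply (T.mem_range (o hr) q) h _
      erw [e, T.mem_max_iff] at hf
      have := (Finset.mem_filter.1 ((T.X_mem_ker hζ v).1 hf)).2
      simp [v] at this
    obtain ⟨-, e⟩ := secDiv_section (k := δP (T.lin hr hζ (i + 1))) hd hinv h rfl h1.symm (T.g_bas (o hr) q) hs hf
    refine ((congrArg (fun z => Cyc.secDivFun δP O1 ξ (Submodule.Quotient.mk z) _) hsp).symm.trans e).trans ?_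
    have hmax : (ptPrime (T.c (o hr) q) (T.c (o hr) q') h).asIdeal ⊔ Ideal.span {f} =
        maximalIdeal (P.presheaf.stalk (T.c (o hr) q)) := by
      refine le_antisymm (sup_le (IsLocalRing.le_maximalIdeal (ptPrime (T.c (o hr) q) (T.c (o hr) q') h).isPrime.ne_top) ?_) ?_
      · rw [Ideal.span_singleton_le_iff_mem, T.mem_max_iff]
        exact (T.X_mem_ker hζ v).2 (Finset.mem_filter.2 ⟨Finset.mem_univ _, le_rfl⟩)
      · rw [← T.map_germ, Ideal.map_le_iff_le_comap]
        refine T.ker_subHom_le hζ (fun a ha => ?_) fun n hn => ?_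
        · exact Ideal.mem_sup_left (T.germ_mem_ptPrime _ h ((T.C_mem_ker hζ a).2 ha))
        · rw [Ideal.mem_comap]
          rcases Nat.lt_or_ge i (n.1 : ℕ) with hlt | hge
          · have hnv : n = v := Subtype.ext (Fin.ext (show (n.1 : ℕ) = i + 1 by
              have := (Finset.mem_filter.1 hn).2; omega))
            rw [hnv]
            exact Ideal.mem_sup_right (Ideal.mem_span_singleton_self f)
          · exact Ideal.mem_sup_left (T.germ_mem_ptPrime _ h
              ((T.X_mem_ker hζ n).2 (Finset.mem_filter.2 ⟨Finset.mem_univ _, hge⟩)))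
    have : IsSimpleModule (P.presheaf.stalk (T.c (o hr) q)) (P.presheaf.stalk (T.c (o hr) q) ⧸
        ((ptPrime (T.c (o hr) q) (T.c (o hr) q') h).asIdeal ⊔ Ideal.span {f})) := by
      rw [hmax]
      exact isSimpleModule_iff_isCoatom.2 Ideal.IsMaximal.out
    exact congrArg (fun n : ℕ∞ => (n.toNat : ℤ)) (Module.length_eq_one_iff.2 this)
  · rw [if_neg (fun e => hvx (by rw [e]; exact T.van_lin hr hζ (i + 1) _ (by simp) le_rfl))]
    obtain ⟨m, q, rfl⟩ := T.cover x hxU
    have hu : IsUnit (T.germ m q (if hn : (⟨i + 1, hi⟩ : Fin r) = m then 1 else MvPolynomial.X ⟨_, hn⟩)) := by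
      exact (T.isUnit_germ_iff m q _).2 (mt (T.van_iff m _ q).2 hvx)
    have hb : IsBas (T.g ⟨i + 1, hi⟩ (T.c m q) hxU) := by
      rw [T.g_rel m ⟨i + 1, hi⟩ q]
      exact isBas_smul (T.g_bas m q) hu
    obtain ⟨-, e⟩ := secDiv_section (k := δP (T.c m q)) hd hinv h rfl h1.symm (s := T.g ⟨i + 1, hi⟩ (T.c m q) hxU)
      (f := 1) hb (one_smul _ _).symm (fun hm => (ptPrime (T.c m q) ξ h).isPrime.ne_top ((Ideal.eq_top_iff_one _).2 hm))
    refine ((congrArg (fun z => Cyc.secDivFun δP O1 ξ (Submodule.Quotient.mk z) _) hsp).symm.trans e).trans ?_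
    rw [Ideal.span_singleton_one, sup_top_eq, Module.length_eq_zero]
    rfl

/-- The multiplicity of the fibre at its generic point is one. -/
theorem Charts.map_max_lin_zero :
    (maximalIdeal (X.presheaf.stalk (p (T.lin hr hζ 0)))).map (p.stalkMap (T.lin hr hζ 0)).hom =
      maximalIdeal (P.presheaf.stalk (T.lin hr hζ 0)) := by
  refine le_antisymm (((IsLocalRing.local_hom_TFAE (p.stalkMap (T.lin hr hζ 0)).hom).out 0 2).1 (inferInstance : IsLocalHom (p.stalkMap (T.lin hr hζ 0)).hom)) ?_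
  rw [Charts.lin, Charts.pt, ← T.map_germ, Ideal.map_le_iff_le_comap]
  refine T.ker_subHom_le hζ (fun a ha => ?_) fun n hn => ?_
  · rw [Ideal.mem_comap]
    have hpU : p (T.c (o hr) (T.subPrime hζ (o hr) (firstVars hr 0))) ∈ U :=
      T.le _ (T.mem_range _ _)
    rw [← T.germ_C (o hr) _ hpU a]
    refine Ideal.mem_map_of_mem _ ?_
    rw [IsLocalRing.mem_maximalIdeal, mem_nonunits_iff]
    intro hu
    have h2 : hU.fromSpec (hU.primeIdealOf ⟨ζ, hζ⟩) ∈ X.basicOpen a := by
      rw [hU.fromSpec_primeIdealOf]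
      have h3 : p (T.c (o hr) (T.subPrime hζ (o hr) (firstVars hr 0))) ∈ X.basicOpen a := (Scheme.mem_basicOpen X a _ hpU).2 hu
      rwa [show p (T.c (o hr) (T.subPrime hζ (o hr) (firstVars hr 0))) = ζ from T.p_pt hζ _ _] at h3
    have h4 : hU.primeIdealOf ⟨ζ, hζ⟩ ∈ hU.fromSpec ⁻¹ᵁ X.basicOpen a := h2
    rw [hU.fromSpec_preimage_basicOpen] at h4
    exact h4 ha
  · exfalso
    have := (Finset.mem_filter.1 hn).2
    exact n.2 (Fin.ext (by simp [o]; omega))

end Groth.Agent.CycLib.ProjBdl
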