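import Groth.Agent.CycLib.ProjBdl.Chart
import Groth.Agent.CycLib.SchemeDim
import Groth.Agent.CycLib.FibreDeg
import Groth.Agent.CycLib.DevZeroSec
import Groth.Agent.CycLib.SpecPt

/-!
Points of a projective bundle in coordinate charts.
-/

set_option autoImplicit false
set_option linter.style.haveILetI false
set_option maxHeartbeats 800000

universe u

open CategoryTheory CategoryTheory.Limits AlgebraicGeometry TopologicalSpace Opposite MvPolynomial IsLocalRing

noncomputable section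

namespace Groth.Agent.CycLib.ProjBdl

open Groth.Agent.PullStalk.Sky Groth.Agent.CycLib.Dev

variable {X P : Scheme.{u}} {p : P ⟶ X} {O1 : P.Modules} {r : ℕ} {U : X.Opens} {hU : IsAffineOpen U}
  (T : Charts p O1 r U hU)

instance Charts.instIsOpenImmersion (m : Fin r) : IsOpenImmersion (T.c m) := T.imm m

/-- The coordinate ring of a chart. -/
abbrev Charts.B (_T : Charts p O1 r U hU) (m : Fin r) : Type u := MvPolynomial (Var m) Γ(X, U)

theorem Charts.top_le (m : Fin r) :
    (⊤ : (Spec (CommRingCat.of (T.B m))).Opens) ≤ T.c m ⁻¹ᵁ (T.c m).opensRange := fun x _ => ⟨x, rfl⟩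

theorem Charts.bijective_restr (m : Fin r) :
    Function.Bijective ((T.c m).appLE (T.c m).opensRange ⊤ (T.top_le m) ≫ (Scheme.ΓSpecIso _).hom) := by
  haveI := T.imm m
  haveI := Scheme.Hom.isIso_app (T.c m) _ (le_refl (T.c m).opensRange)
  have he : T.c m ⁻¹ᵁ (T.c m).opensRange = ⊤ := top_le_iff.1 (T.top_le m)
  haveI : IsIso ((T.c m).appLE (T.c m).opensRange ⊤ (T.top_le m)) := by
    rw [Scheme.Hom.appLE, show (homOfLE (T.top_le m)).op = (eqToHom he.symm).op from Subsingleton.elim _ _]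
    infer_instance
  exact ConcreteCategory.bijective_of_isIso _

/-- Functions on a chart as polynomials. -/
def Charts.restr (m : Fin r) : Γ(P, (T.c m).opensRange) ≃+* T.B m :=
  RingEquiv.ofBijective ((T.c m).appLE (T.c m).opensRange ⊤ (T.top_le m) ≫ (Scheme.ΓSpecIso _).hom).hom
    (T.bijective_restr m)

/-- The function of a polynomial on a chart. -/
def Charts.fun' (m : Fin r) : T.B m →+* Γ(P, (T.c m).opensRange) := (T.restr m).symm.toRingHom

theorem Charts.restr_fun' (m : Fin r) (b : T.B m) :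
    (T.c m).appLE (T.c m).opensRange ⊤ (T.top_le m) (T.fun' m b) = (Scheme.ΓSpecIso _).inv b := by
  have h := (T.restr m).apply_symm_apply b
  change (Scheme.ΓSpecIso _).hom ((T.c m).appLE (T.c m).opensRange ⊤ (T.top_le m) (T.fun' m b)) = b at h
  conv_rhs => rw [← h]
  rw [Iso.hom_inv_id_apply]

theorem Charts.fun'_fn (m n : Fin r) :
    T.fn m n = T.fun' m (if hn : n = m then 1 else MvPolynomial.X ⟨n, hn⟩) := by
  refine (RingEquiv.eq_symm_apply (T.restr m)).2 ?_
  show (Scheme.ΓSpecIso _).hom ((T.c m).appLE _ ⊤ _ (T.fn m n)) = _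
  rw [T.fn_eq, Iso.inv_hom_id_apply]

theorem Charts.mem_range (m : Fin r) (q : Spec (CommRingCat.of (T.B m))) : T.c m q ∈ (T.c m).opensRange := ⟨q, rfl⟩

/-- The germ at a chart point of the function of a polynomial. -/
def Charts.germ (m : Fin r) (q : PrimeSpectrum (T.B m)) : T.B m →+* P.presheaf.stalk (T.c m q) :=
  (P.presheaf.germ (T.c m).opensRange (T.c m q) (T.mem_range m q)).hom.comp (T.fun' m)

theorem Charts.isUnit_germ_iff (m : Fin r) (q : PrimeSpectrum (T.B m)) (b : T.B m) :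
    IsUnit (T.germ m q b) ↔ b ∉ q.asIdeal := by
  show IsUnit (P.presheaf.germ _ _ _ (T.fun' m b)) ↔ _
  rw [← Scheme.mem_basicOpen]
  show (q : Spec (CommRingCat.of (T.B m))) ∈ T.c m ⁻¹ᵁ P.basicOpen (T.fun' m b) ↔ _
  have h := Scheme.basicOpen_appLE (T.c m) ⊤ (T.c m).opensRange (T.top_le m) (T.fun' m b)
  rw [T.restr_fun', basicOpen_eq_of_affine, top_inf_eq] at h
  rw [← h]
  exact Iff.rfl

theorem Charts.mem_max_iff (m : Fin r) (q : PrimeSpectrum (T.B m)) (b : T.B m) :
    T.germ m q b ∈ maximalIdeal (P.presheaf.stalk (T.c m q)) ↔ b ∈ q.asIdeal := by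
  rw [IsLocalRing.mem_maximalIdeal, mem_nonunits_iff, T.isUnit_germ_iff, not_not]

/-- The maximal ideal of a chart point is generated by the germs of its prime. -/
theorem Charts.map_germ (m : Fin r) (q : PrimeSpectrum (T.B m)) :
    q.asIdeal.map (T.germ m q) = maximalIdeal (P.presheaf.stalk (T.c m q)) := by
  haveI := T.imm m
  have hR : IsAffineOpen (T.c m).opensRange := isAffineOpen_opensRange (T.c m)
  let x : (T.c m).opensRange := ⟨T.c m q, T.mem_range m q⟩
  letI := TopCat.Presheaf.algebra_section_stalk P.presheaf x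
  haveI := hR.isLocalization_stalk x
  have h1 := IsLocalization.AtPrime.map_eq_maximalIdeal (hR.primeIdealOf x).asIdeal (Rₚ := P.presheaf.stalk x.1)
  refine le_antisymm (Ideal.map_le_iff_le_comap.2 fun b hb => (T.mem_max_iff m q b).2 hb) ?_
  show maximalIdeal (P.presheaf.stalk x.1) ≤ _
  rw [← h1, Ideal.map_le_iff_le_comap]
  intro s hs
  obtain ⟨b, rfl⟩ : ∃ b, T.fun' m b = s := (T.restr m).symm.surjective s
  refine Ideal.mem_map_of_mem (T.germ m q) ((T.mem_max_iff m q b).1 ?_)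
  show P.presheaf.germ _ _ _ (T.fun' m b) ∈ _
  have h2 := (IsLocalization.AtPrime.to_map_mem_maximal_iff (P.presheaf.stalk x.1) (hR.primeIdealOf x).asIdeal _).2 hs
  exact h2

theorem Charts.p_c (m : Fin r) (q : PrimeSpectrum (T.B m)) :
    p (T.c m q) = hU.fromSpec (⟨q.asIdeal.comap C, inferInstance⟩ : PrimeSpectrum Γ(X, U)) := by
  refine ((Scheme.Hom.comp_apply (T.c m) p q).symm.trans ?_)
  rw [T.over']
  rfl

/-- The germ of a function pulled back from the base. -/
theorem Charts.germ_C (m : Fin r) (q : PrimeSpectrum (T.B m)) (hq : p (T.c m q) ∈ U) (a : Γ(X, U)) :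
    p.stalkMap (T.c m q) (X.presheaf.germ U _ hq a) = T.germ m q (C a) := by
  rw [Scheme.Hom.germ_stalkMap_apply]
  have e : p.appLE U (T.c m).opensRange (T.le m) a = T.fun' m (C a) := by
    refine (RingEquiv.eq_symm_apply (T.restr m)).2 ?_
    show (Scheme.ΓSpecIso _).hom ((T.c m).appLE _ ⊤ _ (p.appLE U _ (T.le m) a)) = _
    rw [← CategoryTheory.comp_apply (p.appLE U _ (T.le m)), Scheme.Hom.appLE_comp_appLE]
    simp only [T.over']
    rw [Scheme.Hom.comp_appLE, CategoryTheory.comp_apply, hU.fromSpec_app_self, CategoryTheory.comp_apply]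
    have h3 := ConcreteCategory.congr_hom
      (Scheme.ΓSpecIso_inv_naturality (CommRingCat.ofHom (C : Γ(X, U) →+* T.B m))) a
    refine Eq.trans ?_ (congrArg (Scheme.ΓSpecIso _).hom h3.symm |>.trans (Iso.inv_hom_id_apply _ _))
    rw [CategoryTheory.comp_apply]
    simp only [Scheme.Hom.appLE, Scheme.Hom.appTop, CategoryTheory.comp_apply]
    congr 1
  show _ = P.presheaf.germ _ _ _ (T.fun' m (C a))
  rw [← e, Scheme.Hom.appLE, CategoryTheory.comp_apply, TopCat.Presheaf.germ_res_apply]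

/-! ### The coordinate subspaces -/

variable {ζ : X} (hζ : ζ ∈ U)

/-- The ideal of a coordinate subspace of the fibre. -/
def Charts.subHom (m : Fin r) (S : Finset (Var m)) :
    T.B m →+* MvPolynomial (Var m) (Γ(X, U) ⧸ (hU.primeIdealOf ⟨ζ, hζ⟩).asIdeal) :=
  eval₂Hom (C.comp (Ideal.Quotient.mk _)) fun n => if n ∈ S then 0 else MvPolynomial.X n

theorem Charts.ker_subHom_le {m : Fin r} {S : Finset (Var m)} {J : Ideal (T.B m)}
    (hp : ∀ a ∈ (hU.primeIdealOf ⟨ζ, hζ⟩).asIdeal, C a ∈ J) (hS : ∀ n ∈ S, MvPolynomial.X n ∈ J) :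
    RingHom.ker (T.subHom hζ m S) ≤ J := by
  intro b hb
  let g : MvPolynomial (Var m) (Γ(X, U) ⧸ (hU.primeIdealOf ⟨ζ, hζ⟩).asIdeal) →+* T.B m ⧸ J :=
    eval₂Hom (Ideal.Quotient.lift _ ((Ideal.Quotient.mk J).comp C)
      fun a ha => by rw [RingHom.comp_apply, Ideal.Quotient.eq_zero_iff_mem]; exact hp a ha)
      fun n => Ideal.Quotient.mk J (MvPolynomial.X n)
  have h : g.comp (T.subHom hζ m S) = Ideal.Quotient.mk J := by
    refine ringHom_ext (fun a => ?_) fun n => ?_
    · simp [g, Charts.subHom]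
    · rw [RingHom.comp_apply, Charts.subHom, eval₂Hom_X']
      split_ifs with hn
      · rw [map_zero]
        exact (Ideal.Quotient.eq_zero_iff_mem.2 (hS n hn)).symm
      · simp [g]
  rw [← Ideal.Quotient.eq_zero_iff_mem, ← h, RingHom.comp_apply, RingHom.mem_ker.1 hb, map_zero]

theorem Charts.C_mem_ker {m : Fin r} {S : Finset (Var m)} (a : Γ(X, U)) :
    C a ∈ RingHom.ker (T.subHom hζ m S) ↔ a ∈ (hU.primeIdealOf ⟨ζ, hζ⟩).asIdeal := by
  rw [RingHom.mem_ker, Charts.subHom, eval₂Hom_C, RingHom.comp_apply, map_eq_zero_iff _ (C_injective _ _),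
    Ideal.Quotient.eq_zero_iff_mem]

theorem Charts.X_mem_ker {m : Fin r} {S : Finset (Var m)} (n : Var m) :
    MvPolynomial.X n ∈ RingHom.ker (T.subHom hζ m S) ↔ n ∈ S := by
  rw [RingHom.mem_ker, Charts.subHom, eval₂Hom_X']
  by_cases hn : n ∈ S
  · simp [hn]
  · simp [hn, X_ne_zero]

/-- The generic point of a coordinate subspace of the fibre. -/
def Charts.subPrime (m : Fin r) (S : Finset (Var m)) : PrimeSpectrum (T.B m) :=
  ⟨RingHom.ker (T.subHom hζ m S), RingHom.ker_isPrime _⟩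

/-- The generic point of a coordinate subspace of the fibre, in the bundle. -/
def Charts.pt (m : Fin r) (S : Finset (Var m)) : P := T.c m (T.subPrime hζ m S)

theorem Charts.p_pt (m : Fin r) (S : Finset (Var m)) : p (T.pt hζ m S) = ζ := by
  rw [Charts.pt, T.p_c]
  refine (congrArg _ (PrimeSpectrum.ext ?_)).trans (hU.fromSpec_primeIdealOf ⟨ζ, hζ⟩)
  ext a
  exact T.C_mem_ker hζ a

include hζ in
theorem Charts.C_mem_of_p {m : Fin r} {q : PrimeSpectrum (T.B m)} (hq : p (T.c m q) = ζ) (a : Γ(X, U)) :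
    C a ∈ q.asIdeal ↔ a ∈ (hU.primeIdealOf ⟨ζ, hζ⟩).asIdeal := by
  have h : hU.fromSpec (⟨q.asIdeal.comap C, inferInstance⟩ : PrimeSpectrum Γ(X, U)) =
      hU.fromSpec (hU.primeIdealOf ⟨ζ, hζ⟩) := by rw [← T.p_c, hq, hU.fromSpec_primeIdealOf]
  exact SetLike.ext_iff.1 (congrArg PrimeSpectrum.asIdeal (hU.fromSpec.isOpenEmbedding.injective h)) a

theorem Charts.pt_specializes {m : Fin r} {q : PrimeSpectrum (T.B m)} (hq : p (T.c m q) = ζ)
    {S : Finset (Var m)} (hS : ∀ n ∈ S, MvPolynomial.X n ∈ q.asIdeal) : T.pt hζ m S ⤳ T.c m q :=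
  ((PrimeSpectrum.le_iff_specializes (T.subPrime hζ m S) q).1
    (T.ker_subHom_le hζ (fun a ha => (T.C_mem_of_p hζ hq a).2 ha) hS)).map (T.c m).continuous

theorem Charts.pt_mono {m : Fin r} {S S' : Finset (Var m)} (h : S ⊆ S') : T.pt hζ m S ⤳ T.pt hζ m S' :=
  T.pt_specializes hζ (T.p_pt hζ m S') fun n hn => (T.X_mem_ker hζ n).2 (h hn)

theorem Charts.pt_injective {m : Fin r} {S S' : Finset (Var m)} (h : T.pt hζ m S = T.pt hζ m S') : S = S' := by
  haveI := T.imm m
  have e := congrArg PrimeSpectrum.asIdeal ((T.c m).isOpenEmbedding.injective h)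
  ext n
  rw [← T.X_mem_ker hζ n, ← T.X_mem_ker hζ n]
  exact SetLike.ext_iff.1 e _

/-! ### Dimensions -/

variable {δ : X → ℤ} {δP : P → ℤ} (hδ : Cyc.DeltaCompat p δP δ)

include hδ in
theorem Charts.delta_le (m : Fin r) (q : PrimeSpectrum (T.B m)) : δP (T.c m q) ≤ δ (p (T.c m q)) + ((r : ℤ) - 1) := by
  haveI := T.imm m
  let Y := Spec (CommRingCat.of (T.B m))
  let f : Y ⟶ X := Spec.map (CommRingCat.ofHom (C : Γ(X, U) →+* T.B m)) ≫ hU.fromSpec
  have hc : Cyc.DeltaCompat f (fun y => δP (T.c m y)) δ := by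
    have := deltaCompat_comp (deltaCompat_preimmersion (T.c m) δP) hδ
    rwa [T.over'] at this
  obtain ⟨n, hn, hn'⟩ := hc q
  have hfq : f q = p (T.c m q) := by
    refine Eq.trans ?_ (Scheme.Hom.comp_apply (T.c m) p q)
    rw [T.over']
  rw [show δP (T.c m q) = δ (f q) + n from hn', hfq]
  suffices hle : n ≤ Fintype.card (Var m) by
    have hcard : Fintype.card (Var m) + 1 = r := by
      rw [Fintype.card_subtype_compl, Fintype.card_fin, Fintype.card_subtype_eq]
      have := m.2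
      omega
    omega
  have hfU : (⊤ : Y.Opens) ≤ f ⁻¹ᵁ U := fun y _ => by
    show f y ∈ (U : Set X)
    rw [← hU.range_fromSpec, show f y = hU.fromSpec (Spec.map _ y) from Scheme.Hom.comp_apply _ _ _]
    exact ⟨_, rfl⟩
  let qY : Y := q
  let eA := (X.evaluation U (f qY) (hfU (x := qY) trivial)).hom
  let eB : T.B m →+* Y.residueField qY :=
    (Y.evaluation ⊤ qY trivial).hom.comp (Scheme.ΓSpecIso (CommRingCat.of (T.B m))).inv.hom
  letI := (f.residueFieldMap qY).hom.toAlgebra
  have happ : ∀ a, f.appLE U ⊤ hfU a = (Scheme.ΓSpecIso (CommRingCat.of (T.B m))).inv (C a) := fun a => by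
    show (Spec.map _ ≫ hU.fromSpec).appLE U ⊤ hfU a = _
    rw [Scheme.Hom.comp_appLE, CategoryTheory.comp_apply, hU.fromSpec_app_self, CategoryTheory.comp_apply]
    have h3 := ConcreteCategory.congr_hom
      (Scheme.ΓSpecIso_inv_naturality (CommRingCat.ofHom (C : Γ(X, U) →+* T.B m))) a
    refine Eq.trans ?_ h3.symm
    rw [CategoryTheory.comp_apply]
    simp only [Scheme.Hom.appLE, Scheme.Hom.appTop, ← CategoryTheory.comp_apply, Category.assoc,
      Scheme.Hom.naturality, Scheme.Hom.naturality_assoc, ← Functor.map_comp]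
    rfl
  have comm : ∀ a, eB (algebraMap Γ(X, U) (T.B m) a) = algebraMap _ (Y.residueField qY) (eA a) := fun a => by
    show Y.evaluation ⊤ qY trivial ((Scheme.ΓSpecIso (CommRingCat.of (T.B m))).inv (C a)) = _
    rw [← happ]
    exact evaluation_appLE f hfU (x := qY) trivial a
  haveI : (RingHom.ker eA).IsPrime := RingHom.ker_isPrime _
  haveI : (RingHom.ker eB).IsPrime := RingHom.ker_isPrime _
  haveI : (RingHom.ker eB).LiesOver (RingHom.ker eA) := ⟨by
    ext a
    rw [Ideal.mem_comap, RingHom.mem_ker, RingHom.mem_ker, comm, map_eq_zero_iff _ (algebraMap (X.residueField (f qY)) (Y.residueField qY)).injective]⟩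
  have key := trdeg_eq_of_eval (RingHom.ker eA) (RingHom.ker eB) eA eB comm rfl rfl (evaluation_surj hU _)
    fun z => by
      obtain ⟨a, b, hab⟩ := evaluation_surj (isAffineOpen_top Y) (x := qY) trivial z
      refine ⟨(Scheme.ΓSpecIso (CommRingCat.of (T.B m))).hom a, (Scheme.ΓSpecIso (CommRingCat.of (T.B m))).hom b, hab.trans ?_⟩
      simp only [eB, RingHom.comp_apply, Iso.hom_inv_id_apply]
  let A' := Γ(X, U) ⧸ RingHom.ker eA
  let π : MvPolynomial (Var m) A' →ₐ[A'] T.B m ⧸ RingHom.ker eB :=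
    MvPolynomial.aeval fun v => Ideal.Quotient.mk _ (MvPolynomial.X v)
  have hπ : Function.Surjective π := fun z => by
    obtain ⟨b, rfl⟩ := Ideal.Quotient.mk_surjective z
    refine ⟨MvPolynomial.map (Ideal.Quotient.mk _) b, ?_⟩
    induction b using MvPolynomial.induction_on with
    | C a => rw [map_C, MvPolynomial.aeval_C]; rfl
    | add a b ha hb => rw [map_add, map_add, ha, hb, map_add]
    | mul_X a v ha => rw [map_mul, map_mul, ha, map_X, MvPolynomial.aeval_X, map_mul]
  have h1 := trdeg_le_of_surjective π hπ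
  rw [MvPolynomial.trdeg_of_isDomain] at h1
  rw [← key, hn] at h1
  simpa using h1

end Groth.Agent.CycLib.ProjBdl
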